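import Cfsg.Agent.Lib.Char.FewSylow.Points

/-!
# Exceptional characters of degree `e` leave only `p + 1` Sylow subgroups

The square of the absolute value of an exceptional character of degree `e` has too few dimensions
for the fixed points it has.
-/

set_option autoImplicit false
set_option linter.unusedSectionVars false
set_option linter.style.haveILetI false

open scoped ComplexConjugate

namespace CfsgLib.Char.FewSylow

open Cfsg CfsgLib.Char CfsgLib.Block CfsgLib.Block.Cyclic

universe u

variable {p : ℕ} [Fact p.Prime] {G : Type u} [Group G] [Fintype G] [DecidableEq G]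
  {D : CycSetup p G} [Fintype D.K] [Fintype (norm D)] {n e : ℕ}

/-- The fixed points of `|f|²`. -/
theorem Small.fixd_normSq (h : Small D n e) (f : IrrCharacter G) :
    fixd D (fun g => (f : G → ℂ) g * conj ((f : G → ℂ) g)) =
      ((∑ j : ZMod p, D.multN f j * D.multN f j : ℕ) : ℂ) := by
  classical
  have hv : ∀ i : ZMod p, (f : G → ℂ) (D.xp i) = ∑ j : ZMod p, stdPsi p (i * j) * D.multN f j := by
    intro i
    rw [← h.dval_eq (f : G → ℂ) i, D.dval_eq_sum_mult]
    simp only [D.mult_eq]
  rw [fixd]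
  simp only [hv, map_sum, map_mul, map_natCast, conj_stdPsi, Finset.sum_mul_sum]
  rw [Finset.sum_comm, Finset.mul_sum, Nat.cast_sum]
  refine Finset.sum_congr rfl fun j _ => ?_
  rw [Finset.sum_comm, Finset.sum_congr rfl fun k _ => Finset.sum_congr rfl
    (g := fun i => (D.multN f j : ℂ) * D.multN f k * stdPsi p (i * (j - k))) fun i _ => by
      rw [show i * (j - k) = i * j + -(i * k) by ring, AddChar.map_add_eq_mul]; ring]
  simp only [← Finset.mul_sum, sum_stdPsi_mul, sub_eq_zero, mul_ite, mul_zero, Finset.sum_ite_eq,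
    Finset.mem_univ, if_true]
  push_cast
  field_simp [p_cast_ne_zero (p := p)]

namespace Shape

variable (S : Shape D n e) (h : Small D n e)
include S h

theorem n_eq_one_of_plus (hn0 : 1 ≤ n) (hx : S.x = 0) (hd : S.d = e) (ht : 2 ≤ numY D) : n = 1 := by
  classical
  have := Fintype.ofFinite (IrrCharacter G)
  obtain ⟨k⟩ : Nonempty ((ZMod p)ˣ ⧸ D.expE) := inferInstance
  set Φ : G → ℂ := fun g => (S.Y k : G → ℂ) g * conj ((S.Y k : G → ℂ) g) with hΦ
  have hΦc : IsCharacter G Φ := isCharacter_mul (isCharacter_irr _) (isCharacter_conj (isCharacter_irr _))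
  choose c hc using fun f : IrrCharacter G => classInner_isCharacter hΦc (isCharacter_irr f)
  have hexp : Φ = ∑ f : IrrCharacter G, (c f : ℂ) • (f : G → ℂ) := by
    rw [classFun_expand (isClassFunction_of_isCharacter hΦc)]
    simp only [hc]
  have hone : c (Block.oneChar G) = 1 := by
    have h1 := hc (Block.oneChar G)
    have h2 : classInner Φ (Block.oneChar G : G → ℂ) = classInner (S.Y k : G → ℂ) (S.Y k) := by
      show classInner Φ (fun _ => 1) = _
      simp [classInner, hΦ]
    rw [h2, classInner_irr_self] at h1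
    exact_mod_cast h1.symm
  have hdeg : ∑ f : IrrCharacter G, c f * deg f = e * e := by
    have h1 := congrFun hexp 1
    simp only [Finset.sum_apply, Pi.smul_apply, smul_eq_mul, hΦ, val_one, map_natCast, S.deg_Y, hd]
      at h1
    exact_mod_cast h1.symm
  have hfix : ∑ f : IrrCharacter G, c f * fx D f = ∑ j : ZMod p, D.multN (S.Y k) j * D.multN (S.Y k) j := by
    have h1 := h.fixd_normSq (S.Y k)
    rw [← hΦ, hexp] at h1
    simp only [fixd, Finset.sum_apply, Pi.smul_apply, smul_eq_mul] at h1
    rw [Finset.sum_comm, Finset.mul_sum, Finset.sum_congr rfl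
      (g := fun f => (c f : ℂ) * fx D f) fun f _ => by
        rw [← h.fixd_eq, fixd, ← Finset.mul_sum]; ring] at h1
    exact_mod_cast h1
  have hlow : e ≤ ∑ f : IrrCharacter G, c f * fx D f := by
    have hs : (∑ j : ZMod p, D.multN (S.Y k) j) = e := by
      have h1 : D.dval (S.Y k : G → ℂ) 0 = (deg (S.Y k) : ℂ) := by rw [h.dval_eq, D.xp_zero, val_one]
      rw [D.dval_eq_sum_mult] at h1
      simp only [zero_mul, AddChar.map_zero_eq_one, one_mul, D.mult_eq, S.deg_Y, hd] at h1
      exact_mod_cast h1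
    rw [hfix]
    exact hs.symm.le.trans (Finset.sum_le_sum fun j _ => Nat.le_mul_self _)
  have hp := (Fact.out : p.Prime).two_le
  have hper : ∀ f ∈ Finset.univ.erase (Block.oneChar G),
      (n * p + 1) * (c f * fx D f) ≤ (n + 1) * (c f * deg f) := by
    intro f hf
    rcases S.cases f with h1 | ⟨hd', hf'⟩ | ⟨-, hf'⟩ | ⟨l, rfl⟩ | hd'
    · exact absurd h1 (Finset.mem_erase.mp hf).1
    · rw [hd', hf']; exact le_of_eq (by ring)
    · rw [hf']; simp
    · rw [S.fx_Y, hx]; simp
    · rw [hd']
      calc (n * p + 1) * (c f * fx D f) ≤ ((n + 1) * p) * (c f * fx D f) :=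
            Nat.mul_le_mul_right _ (by rw [add_mul]; omega)
        _ = _ := by ring
  have hsum := Finset.sum_le_sum hper
  rw [← Finset.mul_sum, ← Finset.mul_sum] at hsum
  rw [← Finset.add_sum_erase _ _ (Finset.mem_univ (Block.oneChar G)), hone, one_mul, deg_one] at hdeg
  rw [← Finset.add_sum_erase _ _ (Finset.mem_univ (Block.oneChar G)), hone, one_mul, h.fx_one] at hlow
  have he := S.two_le
  have hm : e * numY D = p - 1 := h.mul_numY
  have he2 : 2 * e ≤ p - 1 := by
    have : e * 2 ≤ e * numY D := Nat.mul_le_mul_left e ht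
    omega
  generalize ∑ f ∈ Finset.univ.erase (Block.oneChar G), c f * deg f = A at hsum hdeg
  generalize ∑ f ∈ Finset.univ.erase (Block.oneChar G), c f * fx D f = B at hsum hlow
  by_contra hne
  have hA : (1 : ℤ) + A = e * e := by exact_mod_cast hdeg
  have hB : (e : ℤ) ≤ 1 + B := by exact_mod_cast hlow
  have hs : ((n : ℤ) * p + 1) * B ≤ ((n : ℤ) + 1) * A := by exact_mod_cast hsum
  have he1 : (2 : ℤ) ≤ e := by exact_mod_cast he
  have h1 : ((n : ℤ) * p + 1) * ((e : ℤ) - 1) ≤ ((n : ℤ) + 1) * (((e : ℤ) + 1) * ((e : ℤ) - 1)) := by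
    have h2 : ((n : ℤ) * p + 1) * ((e : ℤ) - 1) ≤ ((n : ℤ) * p + 1) * B :=
      mul_le_mul_of_nonneg_left (by linarith) (by positivity)
    have h3 : ((e : ℤ) + 1) * ((e : ℤ) - 1) = A := by linear_combination -hA
    rw [h3]
    linarith
  rw [← mul_assoc] at h1
  have h2 := le_of_mul_le_mul_right h1 (by linarith)
  have hn2 : (2 : ℤ) ≤ n := by omega
  have hp' : (2 : ℤ) * e + 1 ≤ p := by omega
  nlinarith

end Shape

end CfsgLib.Char.FewSylow
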