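import Cfsg.Agent.Lib.Char.FewSylow.Numeric
import Mathlib.RingTheory.Coprime.Basic
import Mathlib.Data.Int.GCD
import Mathlib.Algebra.Prime.Defs
import Mathlib.RingTheory.Int.Basic

/-!
# Numbers not of Brauer's form

If `n` is not of the form `(h u p + u² + u + h) / (u + 1)`, then `(p - 1) (n p + 1)` has no divisor
congruent to `1` modulo `p` strictly between `1` and `n p + 1`.
-/

set_option autoImplicit false

namespace CfsgLib.Char.FewSylow

/-- `n` is not of Brauer's form `(h u p + u² + u + h) / (u + 1)`. -/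
def NoRep (p n : ℕ) : Prop :=
  ∀ h u : ℕ, 0 < h → 0 < u → n * (u + 1) ≠ h * u * p + u ^ 2 + u + h

theorem NoRep.le_param {p n : ℕ} (hR : NoRep p n) (hp : 2 ≤ p) {u : ℤ} (hu : 1 ≤ u)
    (hd : u * p + 1 ∣ ((p : ℤ) - 1) * (n * p + 1)) : (n : ℤ) ≤ u := by
  by_contra hlt
  have hcop : IsCoprime (u * (p : ℤ) + 1) (p : ℤ) := ⟨1, -u, by ring⟩
  have h1 : u * p + 1 ∣ ((n : ℤ) - u) * ((p : ℤ) - 1) * p := by
    have h0 := dvd_sub hd (dvd_mul_left (u * (p : ℤ) + 1) ((p : ℤ) - 1))
    have e1 : ((p : ℤ) - 1) * ((n : ℤ) * p + 1) - ((p : ℤ) - 1) * (u * p + 1)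
        = ((n : ℤ) - u) * ((p : ℤ) - 1) * p := by ring
    rwa [e1] at h0
  have h2 : u * p + 1 ∣ ((n : ℤ) - u) * ((p : ℤ) - 1) := hcop.dvd_of_dvd_mul_right h1
  have h3 : u * p + 1 ∣ ((n : ℤ) - u) * (u + 1) := by
    have h0 := dvd_sub (dvd_mul_left (u * (p : ℤ) + 1) ((n : ℤ) - u)) (h2.mul_left u)
    have e1 : ((n : ℤ) - u) * (u * p + 1) - u * (((n : ℤ) - u) * ((p : ℤ) - 1))
        = ((n : ℤ) - u) * (u + 1) := by ring
    rwa [e1] at h0
  obtain ⟨c, hc⟩ := h3
  have hc0 : 0 < c := by
    have hl : 0 < ((n : ℤ) - u) * (u + 1) := mul_pos (by omega) (by omega)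
    rw [hc] at hl
    by_contra hneg
    have : (u * p + 1) * c ≤ 0 := mul_nonpos_of_nonneg_of_nonpos (by positivity) (by omega)
    omega
  obtain ⟨c', rfl⟩ : ∃ c' : ℕ, c = c' := ⟨c.toNat, by omega⟩
  obtain ⟨u', rfl⟩ : ∃ u' : ℕ, u = u' := ⟨u.toNat, by omega⟩
  refine hR c' u' (by omega) (by omega) ?_
  have : (n : ℤ) * (u' + 1) = c' * u' * p + u' ^ 2 + u' + c' := by linear_combination hc
  exact_mod_cast this

/-- Numbers not of Brauer's form have sparse divisors. -/
theorem sparse_of_noRep {p n : ℕ} (hR : NoRep p n) : Sparse (p : ℤ) (n : ℤ) := by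
  intro e k u v hek hk hp he hu hv
  have hp' : (2 : ℕ) ≤ p := by omega
  have hep : e < p := by
    have : e * 1 ≤ e * k := mul_le_mul_of_nonneg_left hk (by omega)
    omega
  refine ⟨fun h => ?_, fun h => ?_⟩
  · have hle := hR.le_param hp' hu ⟨k * v, by linear_combination k * h - ((n : ℤ) * p + 1) * hek⟩
    obtain ⟨w, hw⟩ : ∃ w, w = e * n - u * v := ⟨_, rfl⟩
    have hv' : v = e + w * p := by linear_combination (-1 : ℤ) * h - (p : ℤ) * hw
    have hw0 : 0 ≤ w := by
      by_contra hneg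
      have : w * p ≤ -1 * (p : ℤ) := mul_le_mul_of_nonneg_right (by omega) (by omega)
      omega
    have key : e * ((n : ℤ) - u) = w * (u * p + 1) := by
      rw [hv'] at hw
      linear_combination -hw
    have h1 : e * ((n : ℤ) - u) ≤ 0 := mul_nonpos_of_nonneg_of_nonpos (by omega) (by omega)
    have hpos : 0 < u * (p : ℤ) + 1 := by positivity
    have hw1 : w = 0 := by
      by_contra hne
      have : 0 < w * (u * p + 1) := mul_pos (by omega) hpos
      omega
    rw [hw1, zero_mul, mul_eq_zero] at key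
    exact ⟨by omega, by rw [hv', hw1, zero_mul, add_zero]⟩
  · obtain ⟨w, hw⟩ : ∃ w, w = u * v - e * n := ⟨_, rfl⟩
    have hv' : v = w * p - e := by linear_combination h - (p : ℤ) * hw
    have hw1 : 1 ≤ w := by
      by_contra hneg
      have : w * p ≤ 0 := mul_nonpos_of_nonpos_of_nonneg (by omega) (by omega)
      omega
    rcases eq_or_lt_of_le (one_le_mul_of_one_le_of_one_le hk hw1) with h1 | h1
    · have hk1 : k = 1 := by
        by_contra hne
        have : 2 * 1 ≤ k * w := mul_le_mul (by omega) hw1 (by omega) (by omega)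
        omega
      rw [hk1, one_mul] at h1
      rw [hk1, mul_one] at hek
      exact Or.inr ⟨hk1, by rw [hv', ← h1, hek]; ring⟩
    · refine Or.inl ?_
      have hD : (k * w - 1) * (p : ℤ) + 1 = k * v := by rw [hv']; linear_combination hek
      have hle := hR.le_param hp' (u := k * w - 1) (by omega)
        ⟨u * p - 1, by rw [hD]; linear_combination k * h - ((n : ℤ) * p + 1) * hek⟩
      have hA : (n : ℤ) * p + 1 ≤ k * v := by
        rw [← hD]
        have : (n : ℤ) * p ≤ (k * w - 1) * p := mul_le_mul_of_nonneg_right hle (by omega)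
        omega
      have h2 : ((p : ℤ) - 1) * (n * p + 1) = (u * p - 1) * (k * v) := by
        linear_combination k * h - ((n : ℤ) * p + 1) * hek
      have hkv : 0 < k * v := mul_pos (by omega) hv
      have hu1 : u = 1 := by
        by_contra hne
        have h3 : ((p : ℤ) - 1) * (k * v) < (u * p - 1) * (k * v) := by
          refine mul_lt_mul_of_pos_right ?_ hkv
          have : 2 * (p : ℤ) ≤ u * p := mul_le_mul_of_nonneg_right (by omega) (by omega)
          omega
        have h4 : ((p : ℤ) - 1) * (n * p + 1) ≤ ((p : ℤ) - 1) * (k * v) :=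
          mul_le_mul_of_nonneg_left hA (by omega)
        omega
      refine ⟨hu1, w, hw1, ?_⟩
      rw [hu1, one_mul] at h2
      have h5 : (n : ℤ) * p + 1 = k * v := mul_left_cancel₀ (show ((p : ℤ) - 1) ≠ 0 by omega) h2
      rw [← hD] at h5
      have h6 : ((n : ℤ) + 1) * p = w * k * p := by linear_combination h5
      exact mul_right_cancel₀ (show (p : ℤ) ≠ 0 by omega) h6

end CfsgLib.Char.FewSylow
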