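import Cfsg.Agent.Lib.Char.FewSylow.LargePrime
import Cfsg.Agent.Lib.Char.FewSylow.NoRepDivisors
import Cfsg.Agent.Lib.Block.CentralChar

/-!
# The principal block for a Sylow subgroup of prime order with sparse divisors

The degrees of the principal block divide `|G : C(Q)|` times the entries of their vectors, so when the
divisors of `e (n p + 1)` are sparse some character has degree `p - 1`.
-/

set_option autoImplicit false
set_option linter.unusedSectionVars false
set_option linter.style.haveILetI false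

namespace CfsgLib.Char.FewSylow

open Cfsg CfsgLib.Char CfsgLib.Block CfsgLib.Block.Cyclic

universe u

variable {p : ℕ} [Fact p.Prime] {G : Type u} [Group G] [Fintype G] [DecidableEq G]
  (D : CycSetup p G) [Fintype D.K] [Fintype (Subgroup.centralizer (D.Q : Set G))]

/-- In a block with trivial character of the regular part the values at `Q` are the section values. -/
theorem value_xp {M : Ideal AlgInt} {B : Set (IrrCharacter G)} (h : D.BlockData M B)
    (htriv : ∀ y, (D.φ : D.K → ℂ) y = 1) {χ : IrrCharacter G} (hχ : χ ∈ B) {i : ZMod p} (hi : i ≠ 0) :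
    (χ : G → ℂ) (D.xp i) = D.dval (χ : G → ℂ) i := by
  classical
  have := Fintype.ofFinite (IrrCharacter D.K)
  have hv := value_eq_sum D.hQ D.hK (isClassFunction_irr χ) (D.xp_mem i) (1 : D.K)
  rw [OneMemClass.coe_one, mul_one, Finset.sum_eq_single D.φ (fun φ' _ hne => by
    rw [h.sec_out χ hχ φ' (fun ho => hne (D.inOrbit_eq htriv ho)) i hi, zero_mul])
    (fun hn => absurd (Finset.mem_univ _) hn), htriv, mul_one] at hv
  exact hv

/-- A degree divides the index of the centralizer times `p` times an entry of the vector. -/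
theorem deg_dvd_index_mul_vec {M : Ideal AlgInt} {B : Set (IrrCharacter G)} (h : D.BlockData M B)
    (htriv : ∀ y, (D.φ : D.K → ℂ) y = 1) {χ : IrrCharacter G} (hχ : χ ∈ B) (j : ZMod p) :
    (deg χ : ℤ) ∣ (Subgroup.centralizer (D.Q : Set G)).index * p * D.vec χ j := by
  classical
  set I := (Subgroup.centralizer (D.Q : Set G)).index with hI
  have hd : (deg χ : ℂ) ≠ 0 := Nat.cast_ne_zero.mpr (deg_pos χ).ne'
  have hp0 : (p : ℂ) ≠ 0 := p_cast_ne_zero
  set r : ℂ := ∑ i : ZMod p, (stdPsi p (-(i * j)) - 1) *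
    (if i = 0 then 0 else centralChar (χ : G → ℂ) (D.xp i)) with hr
  have hint : IsIntegral ℤ r := IsIntegral.sum _ fun i _ => by
    refine IsIntegral.mul (IsIntegral.sub ?_ isIntegral_one) ?_
    · exact IsIntegral.of_pow (Fact.out : p.Prime).pos (by rw [stdPsi_pow]; exact isIntegral_one)
    · split_ifs
      · exact isIntegral_zero
      · exact isIntegral_centralChar χ.2 _
  have hrat : r * (deg χ : ℂ) = (((I : ℤ) * p * D.vec χ j : ℤ) : ℂ) := by
    push_cast
    rw [D.coe_vec, hr, Finset.sum_mul, mul_assoc, ← mul_assoc (p : ℂ), mul_inv_cancel₀ hp0, one_mul,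
      Finset.mul_sum]
    refine Finset.sum_congr rfl fun i _ => ?_
    split_ifs with hi
    · rw [hi, zero_mul, neg_zero, AddChar.map_zero_eq_one, sub_self]
      ring
    · have hc : Subgroup.centralizer ({D.xp i} : Set G) = Subgroup.centralizer (D.Q : Set G) := by
        ext g
        rw [Subgroup.mem_centralizer_singleton_iff]
        exact (mem_centralizer_iff_commute D.hQ (D.xp_mem i) (D.xp_ne_one hi) g).symm
      rw [centralChar, hc, ← hI, val_one, ← value_xp D h htriv hχ hi]
      field_simp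
  obtain ⟨z, hz⟩ : ∃ z : ℤ, r = z := by
    have e : r = algebraMap ℚ ℂ ((((I : ℤ) * p * D.vec χ j : ℤ) : ℚ) / deg χ) := by
      rw [map_div₀, map_intCast, map_natCast, eq_div_iff hd]
      exact hrat
    rw [e, isIntegral_algebraMap_iff (algebraMap ℚ ℂ).injective,
      IsIntegrallyClosed.isIntegral_iff] at hint
    obtain ⟨z, hz⟩ := hint
    exact ⟨z, by rw [e, ← hz, eq_intCast, map_intCast]⟩
  rw [hz] at hrat
  exact Dvd.intro_left z (by exact_mod_cast hrat)

theorem vec_one_of_triv (htriv : ∀ y, (D.φ : D.K → ℂ) y = 1) (j : (ZMod p)ˣ) :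
    D.vec (Block.oneChar G) j = -1 := by
  have hd : ∀ i : ZMod p, D.dval (Block.oneChar G : G → ℂ) i = 1 := by
    intro i
    show (Nat.card D.K : ℂ)⁻¹ * ∑ y : D.K, (1 : ℂ) * starRingEnd ℂ ((D.φ : D.K → ℂ) y) = 1
    simp [htriv, Nat.card_eq_fintype_card]
  apply Int.cast_injective (α := ℂ)
  rw [D.coe_vec]
  simp only [hd]
  have hs : ∑ i : ZMod p, stdPsi p (-(i * j)) = 0 := by
    rw [Finset.sum_congr rfl fun i _ => show stdPsi p (-(i * j)) = stdPsi p (i * -(j : ZMod p)) by
      rw [mul_neg], sum_stdPsi_mul, if_neg (neg_ne_zero.mpr j.ne_zero)]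
  simp only [mul_one, Finset.sum_sub_distrib, hs, Finset.sum_const, Finset.card_univ, ZMod.card,
    nsmul_one, zero_sub, mul_neg, inv_mul_cancel₀ (p_cast_ne_zero (p := p)), Int.cast_neg, Int.cast_one]

theorem index_centralizer (htriv : ∀ y, (D.φ : D.K → ℂ) y = 1) {n : ℕ}
    (hidx : (norm D).index = n * p + 1) :
    (Subgroup.centralizer (D.Q : Set G)).index = Nat.card D.expE * (n * p + 1) := by
  rw [D.card_expE, D.stab_eq_normalizer htriv, ← hidx]
  exact (Subgroup.relIndex_mul_index (centralizer_le_normalizer' D.Q)).symm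

/-- A character of degree `p - 1` that is constant on the regular part of the centralizer. -/
theorem exists_constant_regular_of_sparse (hperf : commutator G = ⊤)
    (htriv : ∀ y, (D.φ : D.K → ℂ) y = 1) {n : ℕ} (hidx : (norm D).index = n * p + 1)
    (hs : Sparse (p : ℤ) (n : ℤ)) (hn : 1 ≤ n) (he : 2 ≤ Nat.card D.expE) :
    ∃ f : IrrCharacter G, deg f = p - 1 ∧ D.dval (f : G → ℂ) 1 = -1 ∧
      ∀ y : D.K, (f : G → ℂ) (y : G) = deg f := by
  classical
  have hp : p.Prime := Fact.out
  have := Fintype.ofFinite (IrrCharacter G)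
  obtain ⟨M, hM⟩ := CfsgLib.Block.exists_pModular hp
  have := hM.2.1
  have hcard : Nat.card D.Q = p ^ (Nat.card G).factorization p := by
    rw [factorization_eq_one D.dvd_card D.hsq, pow_one, D.hQ]
  have hBD := D.blockData_principal hM (P := Sylow.ofCard D.Q hcard) rfl htriv
  obtain ⟨X⟩ := D.exists_exceptional_family hM hBD
  set one := Block.oneChar G with hone
  have h1B : one ∈ principalBlock M G := one_mem_principalBlock
  set e := Nat.card D.expE with he'
  set k := Nat.card ((ZMod p)ˣ ⧸ D.expE) with hk'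
  have hunits : (Fintype.card (ZMod p)ˣ : ℤ) = p - 1 := by
    rw [ZMod.card_units_eq_totient, Nat.totient_prime hp, Nat.cast_sub hp.one_lt.le, Nat.cast_one]
  have hek : (e : ℤ) * k = p - 1 := by
    rw [← hunits, ← Nat.card_eq_fintype_card, D.expE.card_eq_card_quotient_mul_card_subgroup]
    push_cast
    ring
  have hk1 : (1 : ℤ) ≤ k := by exact_mod_cast (Nat.card_pos : 0 < k)
  have he2 : (2 : ℤ) ≤ e := by exact_mod_cast he
  have hp3 : (3 : ℤ) ≤ p := by
    have : (e : ℤ) * 1 ≤ e * k := mul_le_mul_of_nonneg_left hk1 (by positivity)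
    omega
  have hA0 : (0 : ℤ) < (n : ℤ) * p + 1 := by positivity
  have hcof : ∀ f : IrrCharacter G, f ∈ principalBlock M G → ∀ j : ZMod p, IsUnit (D.vec f j) →
      ¬ p ∣ deg f → ∃ v : ℤ, 0 < v ∧ (e : ℤ) * ((n : ℤ) * p + 1) = deg f * v := by
    intro f hf j hv hnd
    have h1 := deg_dvd_index_mul_vec D hBD htriv hf j
    rw [index_centralizer D htriv hidx, ← he'] at h1
    push_cast at h1
    obtain ⟨v, hv'⟩ := (Nat.Coprime.isCoprime
      (Nat.Coprime.symm (hp.coprime_iff_not_dvd.mpr hnd))).dvd_of_dvd_mul_right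
      ((hv.dvd_mul_right).mp h1)
    refine ⟨v, ?_, hv'⟩
    by_contra hneg
    have h3 : (deg f : ℤ) * v ≤ 0 := mul_nonpos_of_nonneg_of_nonpos (by positivity) (by omega)
    have h4 : 0 < (e : ℤ) * ((n : ℤ) * p + 1) := mul_pos (by omega) hA0
    omega
  -- the constant vectors
  have hneg : ∀ f ∈ principalBlock M G, f ≠ one → (∀ j : (ZMod p)ˣ, D.vec f j = -1) →
      (deg f : ℤ) = (n : ℤ) * p + 1 := by
    intro f hf hf1 hv
    obtain ⟨m, hm⟩ := deg_section D hBD htriv hf
    rw [Finset.sum_congr rfl fun j _ => hv j, Finset.sum_const, Finset.card_univ, nsmul_eq_mul,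
      hunits] at hm
    have hd' : (deg f : ℤ) = ((m : ℤ) - 1) * p + 1 := by rw [hm]; ring
    have hnd : ¬ p ∣ deg f := fun hdv => by
      have h2 : (p : ℤ) ∣ ((m : ℤ) - 1) * p + 1 := hd' ▸ Int.natCast_dvd_natCast.mpr hdv
      rw [Int.dvd_add_right ⟨_, mul_comm _ _⟩, ← Nat.cast_one, Int.natCast_dvd_natCast] at h2
      exact hp.one_lt.ne' (Nat.dvd_one.mp h2)
    have hd1 : deg f ≠ 1 := fun h1 => hf1 (hlin_of_perfect hperf h1)
    have hu1 : (1 : ℤ) ≤ (m : ℤ) - 1 := by
      by_contra hneg
      have : ((m : ℤ) - 1) * p ≤ 0 := mul_nonpos_of_nonpos_of_nonneg (by omega) (by omega)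
      have := deg_pos f
      omega
    obtain ⟨v, hv0, hve⟩ := hcof f hf ((1 : (ZMod p)ˣ) : ZMod p) (by rw [hv]; decide) hnd
    rw [hd'] at hve
    obtain ⟨h1, -⟩ := hs.plus hek hk1 hp3 (by omega) hu1 hv0 hve
    rw [hd', h1]
  have hpos : ∀ f ∈ principalBlock M G, (∀ j : (ZMod p)ˣ, D.vec f j = 1) →
      deg f = p - 1 ∨ ((k : ℤ) = 1 ∧ (deg f : ℤ) = e * ((n : ℤ) * p + 1)) := by
    intro f hf hv
    obtain ⟨m, hm⟩ := deg_section D hBD htriv hf
    rw [Finset.sum_congr rfl fun j _ => hv j, Finset.sum_const, Finset.card_univ, nsmul_eq_mul,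
      hunits] at hm
    have hd' : (deg f : ℤ) = ((m : ℤ) + 1) * p - 1 := by rw [hm]; ring
    have hnd : ¬ p ∣ deg f := fun hdv => by
      have h2 : (p : ℤ) ∣ ((m : ℤ) + 1) * p - 1 := hd' ▸ Int.natCast_dvd_natCast.mpr hdv
      have h3 := dvd_sub (dvd_mul_left (p : ℤ) ((m : ℤ) + 1)) h2
      rw [sub_sub_cancel, ← Nat.cast_one, Int.natCast_dvd_natCast] at h3
      exact hp.one_lt.ne' (Nat.dvd_one.mp h3)
    obtain ⟨v, hv0, hve⟩ := hcof f hf ((1 : (ZMod p)ˣ) : ZMod p) (by rw [hv]; decide) hnd
    rw [hd'] at hve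
    rcases hs.minus hek hk1 hp3 (by omega) (by omega) hv0 hve with ⟨h1, -⟩ | ⟨h1, h2⟩
    · rw [h1, one_mul] at hd'
      exact Or.inl (by omega)
    · rw [h2, mul_one, ← hd'] at hve
      exact Or.inr ⟨h1, hve.symm⟩
  obtain ⟨f, hfB, hfv, hfd⟩ : ∃ f ∈ principalBlock M G, (∀ j : (ZMod p)ˣ, D.vec f j = 1) ∧
      deg f = p - 1 := by
    by_contra hall
    push Not at hall
    by_cases hkone : k = 1
    · -- every vector in the block is constant
      haveI : Subsingleton ((ZMod p)ˣ ⧸ D.expE) := (Nat.card_eq_one_iff_unique.mp hkone).1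
      have hterm : ∀ f : IrrCharacter G, ((n : ℤ) * p + 1) ∣
          D.vec f ((1 : (ZMod p)ˣ) : ZMod p) * (deg f : ℤ) + (if f = one then 1 else 0) := by
        intro f
        by_cases hf1 : f = one
        · rw [if_pos hf1, hf1, hone, vec_one_of_triv D htriv, deg_one]
          simp
        rw [if_neg hf1, add_zero]
        by_cases hz : D.vec f ((1 : (ZMod p)ˣ) : ZMod p) = 0
        · rw [hz, zero_mul]; exact dvd_zero _
        have hf : f ∈ principalBlock M G := by
          by_contra hn'
          exact hz (D.vec_eq_zero (hBD.dval_out f hn') _)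
        have hc : ∀ j : (ZMod p)ˣ, D.vec f j = D.vec f ((1 : (ZMod p)ˣ) : ZMod p) := by
          intro j
          have hj : j ∈ D.expE := by
            rw [← QuotientGroup.eq_one_iff]
            exact Subsingleton.elim _ _
          simpa using D.vec_smul_expE f hj 1
        have hv : D.vec f ((1 : (ZMod p)ˣ) : ZMod p) = 1 ∨ D.vec f ((1 : (ZMod p)ˣ) : ZMod p) = -1 := by
          rcases X.u_cases f with hu | hu | hu
          · have h1 := X.vec_eq f (1 : (ZMod p)ˣ)
            rw [hu, zero_add] at h1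
            rw [h1] at hz ⊢
            rcases X.sign with hd | hd <;> rw [hd] at hz ⊢ <;> split_ifs at hz ⊢ <;> simp_all
          · exact Or.inl (by rw [X.vec_of_u (by rw [hu]; decide), hu])
          · exact Or.inr (by rw [X.vec_of_u (by rw [hu]; decide), hu])
        rcases hv with hv | hv
        · rw [hv, one_mul]
          rcases hpos f hf (fun j => (hc j).trans hv) with h1 | ⟨-, h1⟩
          · exact absurd h1 (hall f hf fun j => (hc j).trans hv)
          · rw [h1]; exact dvd_mul_left _ _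
        · rw [hv, neg_one_mul, dvd_neg, hneg f hf hf1 fun j => (hc j).trans hv]
      have hrel : ∑ f : IrrCharacter G, D.vec f ((1 : (ZMod p)ˣ) : ZMod p) * (deg f : ℤ) = 0 := by
        have h1 := D.sum_vec_regular ((1 : (ZMod p)ˣ) : ZMod p) (g := 1) (by simp [hp.ne_one])
        simp only [val_one] at h1
        exact_mod_cast h1
      have h2 := Finset.dvd_sum (fun f (_ : f ∈ Finset.univ) => hterm f)
      rw [Finset.sum_add_distrib, hrel, zero_add, Finset.sum_ite_eq', if_pos (Finset.mem_univ _)] at h2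
      have h3 := Int.le_of_dvd one_pos h2
      have : (p : ℤ) ≤ (n : ℤ) * p := le_mul_of_one_le_left (by omega) (by exact_mod_cast hn)
      omega
    · have hk2 : (2 : ℤ) ≤ k := by
        have : 0 < k := Nat.card_pos
        omega
      haveI : Nontrivial ((ZMod p)ˣ ⧸ D.expE) :=
        Finite.one_lt_card_iff_nontrivial.mp (show 1 < k by omega)
      have hu1 : X.u one ≠ 0 := by
        intro hu
        obtain ⟨k1, hk1'⟩ := ((X.mem one).mp h1B).resolve_left (fun hne => hne hu)
        obtain ⟨k2, hk2'⟩ := exists_ne k1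
        obtain ⟨j, rfl⟩ := QuotientGroup.mk_surjective k2
        have h1 := X.vec_Y k1 j
        rw [hk1', vec_one_of_triv D htriv, if_neg (fun e => hk2' e.symm)] at h1
        simp at h1
      have hu1' : X.u one = -1 := by
        rw [← X.vec_of_u hu1 (1 : (ZMod p)ˣ), vec_one_of_triv D htriv]
      have hcu : (Finset.univ.filter fun f => X.u f ≠ 0).card = e := by
        rw [← Fintype.card_subtype, ← Nat.card_eq_fintype_card, X.card_u]
      have hsum : ∑ f : IrrCharacter G, X.u f * (deg f : ℤ) =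
          (n : ℤ) * p - (e : ℤ) * ((n : ℤ) * p + 1) := by
        rw [Finset.sum_congr rfl (g := fun f => (if f = one then (n : ℤ) * p else 0) +
          (if X.u f ≠ 0 then -((n : ℤ) * p + 1) else 0)) fun f _ => ?_]
        · rw [Finset.sum_add_distrib, Finset.sum_ite_eq', if_pos (Finset.mem_univ _),
            ← Finset.sum_filter, Finset.sum_const, nsmul_eq_mul, hcu]
          ring
        · by_cases hf1 : f = one
          · rw [if_pos hf1, hf1, if_pos hu1, hu1', hone, deg_one]; push_cast; ring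
          rw [if_neg hf1, zero_add]
          by_cases hz : X.u f = 0
          · simp [hz]
          have hf : f ∈ principalBlock M G := (X.mem f).mpr (Or.inl hz)
          rcases (X.u_cases f).resolve_left hz with hu | hu
          · have hv : ∀ j : (ZMod p)ˣ, D.vec f j = 1 := fun j => (X.vec_of_u hz j).trans hu
            rcases hpos f hf hv with h1 | ⟨h1, -⟩
            · exact absurd h1 (hall f hf hv)
            · omega
          · rw [if_pos hz, hu, hneg f hf hf1 fun j => (X.vec_of_u hz j).trans hu]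
            ring
      set Y := X.Y ((1 : (ZMod p)ˣ) : (ZMod p)ˣ ⧸ D.expE) with hY
      set d := deg Y with hdd
      have hrel : (n : ℤ) * p - (e : ℤ) * ((n : ℤ) * p + 1) + X.δ * d = 0 := by
        have h1 := D.sum_vec_regular ((1 : (ZMod p)ˣ) : ZMod p) (g := 1) (by simp [hp.ne_one])
        simp only [val_one] at h1
        have h2 : ∑ f : IrrCharacter G, D.vec f ((1 : (ZMod p)ˣ) : ZMod p) * (deg f : ℤ) = 0 := by
          exact_mod_cast h1
        rw [← hsum]
        rw [Finset.sum_congr rfl (g := fun f => X.u f * (deg f : ℤ) +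
          (if f = Y then X.δ * d else 0)) fun f _ => by
            rw [X.vec_eq, ← hY]
            split_ifs with hf
            · subst hf; ring
            · ring, Finset.sum_add_distrib, Finset.sum_ite_eq', if_pos (Finset.mem_univ _)] at h2
        exact h2
      have hδ : X.δ = 1 := by
        refine X.sign.resolve_right fun hd => ?_
        rw [hd] at hrel
        have : (2 : ℤ) * ((n : ℤ) * p + 1) ≤ e * ((n : ℤ) * p + 1) :=
          mul_le_mul_of_nonneg_right he2 hA0.le
        have := Int.natCast_nonneg d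
        omega
      rw [hδ, one_mul] at hrel
      have hYB : Y ∈ principalBlock M G := (X.mem _).mpr (Or.inr ⟨_, rfl⟩)
      have hdeq : (d : ℤ) = ((e : ℤ) - 1) * ((n : ℤ) * p + 1) + 1 := by linarith
      have hpd : ¬ p ∣ d := fun hdv => by
        have h3 := Int.natCast_dvd_natCast.mpr hdv
        rw [hdeq, show ((e : ℤ) - 1) * ((n : ℤ) * p + 1) + 1 = (e : ℤ) + p * (((e : ℤ) - 1) * n) by ring,
          Int.dvd_add_left (dvd_mul_right _ _)] at h3
        have h4 := Int.le_of_dvd (by omega) h3
        have : (e : ℤ) * 2 ≤ e * k := mul_le_mul_of_nonneg_left hk2 (by positivity)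
        omega
      obtain ⟨v, hv0, hve⟩ := hcof Y hYB ((1 : (ZMod p)ˣ) : ZMod p)
        (by rw [hY, X.vec_Y, if_pos rfl, hδ]; decide) hpd
      have hcop : IsCoprime ((n : ℤ) * p + 1) (d : ℤ) := ⟨-((e : ℤ) - 1), 1, by rw [hdeq]; ring⟩
      have h4 : (d : ℤ) ∣ e := hcop.symm.dvd_of_dvd_mul_right ⟨v, hve⟩
      have h5 := Int.le_of_dvd (by omega) h4
      have h6 : (p : ℤ) ≤ (n : ℤ) * p := le_mul_of_one_le_left (by omega) (by exact_mod_cast hn)
      have h7 : ((e : ℤ) - 1) * (p + 1) ≤ ((e : ℤ) - 1) * ((n : ℤ) * p + 1) :=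
        mul_le_mul_of_nonneg_left (by omega) (by omega)
      have h8 : ((e : ℤ) - 1) * 2 ≤ ((e : ℤ) - 1) * (p + 1) :=
        mul_le_mul_of_nonneg_left (by omega) (by omega)
      omega
  refine ⟨f, hfd, ?_, fun y => value_regular D hBD htriv hfB ?_ y⟩
  · rw [D.dval_of_const (a := 1) hfv one_ne_zero, Int.cast_one]
  rw [sum_multN, Finset.sum_congr rfl fun j _ => hfv j, Finset.sum_const, Finset.card_univ, nsmul_eq_mul,
    hunits, hfd, Nat.cast_sub hp.one_lt.le]
  have : (0 : ℤ) ≤ (p : ℤ) * (D.multN f 0 : ℕ) := by positivity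
  omega

end CfsgLib.Char.FewSylow
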