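import Cfsg.Agent.Lib.Char.FewSylow.LargePrimePerfect
import Cfsg.Agent.Lib.Char.FewSylow.SparseBlock

/-!
# Perfect groups with a Sylow subgroup of prime order (Brauer, 1943)
-/

set_option autoImplicit false
set_option linter.unusedSectionVars false
set_option linter.style.haveILetI false

namespace CfsgLib.Char.FewSylow

open Cfsg CfsgLib.Char CfsgLib.Block CfsgLib.Block.Cyclic MulAction

universe u

variable {G : Type u} [Group G] [Finite G]

/-- A Sylow subgroup of prime order of a perfect group is not normal. -/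
theorem not_normal_of_perfect (hperf : commutator G = ⊤) {p : ℕ} [Fact p.Prime] (P : Sylow p G)
    (hP : Nat.card (P : Subgroup G) = p) : ¬ (P : Subgroup G).Normal := by
  intro hN
  refine not_normalizer_le_centralizer hperf P hP ?_
  rw [Subgroup.normalizer_eq_top_iff.mpr hN]
  haveI : IsCyclic (P : Subgroup G) := isCyclic_of_prime_card hP
  haveI := hN
  let φ : G →* MulAut (P : Subgroup G) := MulAut.conjNormal
  have hker : commutator G ≤ φ.ker := by
    rw [commutator_def, Subgroup.commutator_le]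
    intro a _ b _
    rw [MonoidHom.mem_ker, map_commutatorElement, commutatorElement_eq_one_iff_mul_comm]
    apply (IsCyclic.mulAutMulEquiv (P : Subgroup G)).injective
    rw [map_mul, map_mul, mul_comm]
  rw [hperf, top_le_iff] at hker
  intro g _
  rw [Subgroup.mem_centralizer_iff]
  intro h hh
  have h1 : φ g = 1 := MonoidHom.mem_ker.mp (hker ▸ Subgroup.mem_top g)
  have h2 := congrArg (fun σ : MulAut (P : Subgroup G) => ((σ ⟨h, hh⟩ : (P : Subgroup G)) : G)) h1
  simp only [φ, MulAut.conjNormal_apply, MulAut.one_apply] at h2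
  rw [mul_inv_eq_iff_eq_mul] at h2
  exact h2.symm

/-- A character constant on the regular part, negative at the subgroup, makes that part trivial. -/
theorem regular_trivial_of_constant [Fintype G] [DecidableEq G] {p : ℕ} [Fact p.Prime] (D : CycSetup p G)
    [Fintype D.K] (htriv : ∀ y, (D.φ : D.K → ℂ) y = 1)
    (hcore : ∀ K : Subgroup G, K.Normal → ¬ p ∣ Nat.card K → K = ⊥) {f : IrrCharacter G}
    (hdv : D.dval (f : G → ℂ) 1 = -1) (hfy : ∀ y : D.K, (f : G → ℂ) (y : G) = deg f) (y : D.K) :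
    (y : G) = 1 := by
  classical
  obtain ⟨k, ρ, hρ, hc⟩ := f.2
  have hk : deg f = k := by
    have h1 := val_one f
    rw [← hc, Representation.char_one, Module.finrank_fin_fun] at h1
    exact_mod_cast h1.symm
  let R := MonoidHom.ker ρ.toHomUnits
  have hmem : ∀ v : G, v ∈ R ↔ (f : G → ℂ) v = deg f := by
    intro v
    rw [MonoidHom.mem_ker, Units.ext_iff, ← hc, hk]
    have h1 := char_eq_degree_iff ρ v
    rw [Module.finrank_fin_fun] at h1
    exact h1.symm
  have hR : R = ⊥ := by
    refine hcore R (MonoidHom.normal_ker _) fun hdvd => ?_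
    haveI : R.Normal := MonoidHom.normal_ker _
    have hQR := le_of_normal_dvd D.hsq R hdvd D.Q D.hQ
    have hshift : ∀ (a : G) (b : G), a ∈ R → (f : G → ℂ) (a * b) = (f : G → ℂ) b := by
      intro a b ha
      have h1 : ρ a = 1 := congrArg Units.val (MonoidHom.mem_ker.mp ha)
      rw [← hc]
      show LinearMap.trace ℂ _ (ρ (a * b)) = LinearMap.trace ℂ _ (ρ b)
      rw [map_mul, h1, one_mul]
    have hconst : D.dval (f : G → ℂ) 1 = classInner (fun y : D.K => (deg f : ℂ)) (D.φ : D.K → ℂ) := by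
      rw [CycSetup.dval, secMult]
      congr 1
      funext y
      rw [hshift _ _ (hQR (D.xp_mem 1)), hfy]
    rw [hdv, classInner] at hconst
    simp only [htriv, map_one, mul_one, Finset.sum_const, Finset.card_univ, nsmul_eq_mul] at hconst
    have hKc : (Nat.card D.K : ℂ) ≠ 0 := Nat.cast_ne_zero.mpr Nat.card_pos.ne'
    rw [← Nat.card_eq_fintype_card, ← mul_assoc, inv_mul_cancel₀ hKc, one_mul] at hconst
    have h3 := congrArg Complex.re hconst
    simp only [Complex.neg_re, Complex.one_re, Complex.natCast_re] at h3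
    have : (0 : ℝ) ≤ (deg f : ℝ) := Nat.cast_nonneg _
    linarith
  exact Subgroup.mem_bot.mp (hR ▸ (hmem _).mpr (hfy y))

/-- The classification when there is no normal subgroup of order prime to `p`. -/
theorem classify_core_free_noRep (hperf : commutator G = ⊤) (p : ℕ) [Fact p.Prime] (P : Sylow p G)
    (hP : Nat.card (P : Subgroup G) = p)
    (hcore : ∀ K : Subgroup G, K.Normal → ¬ p ∣ Nat.card K → K = ⊥) {n : ℕ}
    (hnp : Nat.card (Sylow p G) = n * p + 1) (hR : NoRep p n) : Concl p G := by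
  classical
  haveI : Fintype G := Fintype.ofFinite G
  have hsq : ¬ p ^ 2 ∣ Nat.card G := not_sq_dvd_of_sylow hP
  have hn0 : 1 ≤ n := by
    by_contra hlt
    rw [show n = 0 by omega, zero_mul, zero_add] at hnp
    haveI : Subsingleton (Sylow p G) := (Nat.card_eq_one_iff_unique.mp hnp).1
    exact not_normal_of_perfect hperf P hP (Sylow.normal_of_subsingleton P)
  have hidx : (Subgroup.normalizer ((P : Subgroup G) : Set G)).index = n * p + 1 := by
    rw [← hnp]; exact (Sylow.card_eq_index_normalizer P).symm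
  obtain ⟨D, hD⟩ := exists_cycSetup (Q := (P : Subgroup G)) hP hsq
  let D' := D.withChar (Block.oneChar D.K)
  let _ : Fintype D'.K := Fintype.ofFinite _
  let _ : Fintype (norm D') := Fintype.ofFinite _
  let _ : Fintype (Subgroup.centralizer (D'.Q : Set G)) := Fintype.ofFinite _
  have hD' : D'.Q = (P : Subgroup G) := hD
  obtain ⟨E, hE⟩ : p ∣ Nat.card (norm D') := by
    conv_lhs => rw [← D'.hQ]
    exact Subgroup.card_dvd_of_le D'.Q.le_normalizer
  have hN : Nat.card (norm D') = E * p := by rw [hE, mul_comm]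
  have hidx' : (norm D').index = n * p + 1 := by rw [← hidx, norm, hD']
  have htriv : ∀ y, (D'.φ : D'.K → ℂ) y = 1 := fun _ => rfl
  have he : 2 ≤ Nat.card D'.expE := by
    by_contra hlt'
    have h1 : Nat.card D'.expE = 1 := by
      have := Nat.card_pos (α := D'.expE); omega
    rw [D'.card_expE, D'.stab_eq_normalizer htriv, Subgroup.relIndex_eq_one] at h1
    exact not_normalizer_le_centralizer hperf P hP (hD' ▸ h1)
  have hs := sparse_of_noRep hR
  obtain ⟨f, -, hdv, hfy⟩ := exists_constant_regular_of_sparse D' hperf htriv hidx' hs hn0 he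
  have hcent : Subgroup.centralizer (D'.Q : Set G) = D'.Q := by
    refine le_antisymm (fun c hc => ?_) D'.Q_le_C
    obtain ⟨i, hi⟩ := D'.exists_xp_mul_proj ⟨c, hc⟩
    rw [regular_trivial_of_constant D' htriv hcore hdv hfy, mul_one] at hi
    exact (show c = D'.xp i from hi) ▸ D'.xp_mem i
  have h : Small D' n E := ⟨hcent, hN, hidx'⟩
  exact h.classify_of_sparse hperf hs

/-- Brauer's theorem on perfect groups with a Sylow subgroup of prime order. -/
theorem classify_perfect_prime_order (hperf : commutator G = ⊤) (p : ℕ) [Fact p.Prime] (P : Sylow p G)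
    (hP : Nat.card (P : Subgroup G) = p) (n : ℕ) (hn : Nat.card (Sylow p G) = 1 + n * p) :
    (∃ (F : Type) (_ : Field F) (_ : Fintype F), Fintype.card F = p ∧ 3 < p ∧
      Nonempty (G ⧸ Cfsg.pPrimeCore p G ≃* Matrix.ProjectiveSpecialLinearGroup (Fin 2) F)) ∨
    (∃ (m : ℕ) (F : Type) (_ : Field F) (_ : Fintype F), Fintype.card F = 2 ^ m ∧ p = 2 ^ m + 1 ∧ 3 < p ∧
      Nonempty (G ⧸ Cfsg.pPrimeCore p G ≃* Matrix.SpecialLinearGroup (Fin 2) F)) ∨
    (∃ h u : ℕ, 0 < h ∧ 0 < u ∧ n * (u + 1) = h * u * p + u ^ 2 + u + h) := by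
  classical
  have hp : p.Prime := Fact.out
  haveI : Fintype G := Fintype.ofFinite G
  set M := Cfsg.pPrimeCore p G with hMdef
  have hMn : M.Normal := Subgroup.sSup_normal _ (fun K hK => hK.1)
  have hMd : ¬ p ∣ Nat.card M := CfsgLib.Coprime.pPrimeCore_not_dvd hp
  haveI := hMn
  haveI : Fintype (G ⧸ M) := Fintype.ofFinite _
  let π : G →* G ⧸ M := QuotientGroup.mk' M
  have hπ : Function.Surjective π := QuotientGroup.mk'_surjective M
  let P' : Sylow p (G ⧸ M) := P.mapSurjective hπ
  have hdvd : p ∣ Nat.card G := hP ▸ Subgroup.card_subgroup_dvd_card _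
  have hsq : ¬ p ^ 2 ∣ Nat.card G := not_sq_dvd_of_sylow hP
  have hcardM : Nat.card G = Nat.card (G ⧸ M) * Nat.card M := Subgroup.card_eq_card_quotient_mul_card_subgroup M
  have hdvd' : p ∣ Nat.card (G ⧸ M) := (hp.dvd_mul.mp (hcardM ▸ hdvd)).resolve_right hMd
  have hsq' : ¬ p ^ 2 ∣ Nat.card (G ⧸ M) := fun h => hsq (hcardM ▸ Dvd.dvd.mul_right h _)
  have hP' : Nat.card (P' : Subgroup (G ⧸ M)) = p := by
    rw [P'.card_eq_multiplicity, factorization_eq_one hdvd' hsq', pow_one]
  have hperf' : commutator (G ⧸ M) = ⊤ := by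
    have h1 := congrArg (Subgroup.map π) hperf
    rwa [commutator_def, Subgroup.map_commutator, Subgroup.map_top_of_surjective _ hπ, ← commutator_def] at h1
  have hcore' : ∀ K : Subgroup (G ⧸ M), K.Normal → ¬ p ∣ Nat.card K → K = ⊥ := by
    intro K hK hKd
    haveI := hK
    have hle : M ≤ K.comap π := fun a ha => by
      show π a ∈ K
      rw [show π a = 1 from (QuotientGroup.eq_one_iff a).mpr ha]
      exact K.one_mem
    have hnd : ¬ p ∣ Nat.card (K.comap π) := by
      intro h
      have h1 : Nat.card (K.comap π) ∣ Nat.card K * Nat.card M := by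
        have h2 := Subgroup.card_mul_index (K.comap π)
        rw [Subgroup.index_comap_of_surjective K hπ, hcardM] at h2
        have h3 := K.card_mul_index
        rw [← h3] at h2
        exact dvd_of_eq (Nat.eq_of_mul_eq_mul_right (Nat.pos_of_ne_zero Subgroup.index_ne_zero_of_finite)
          (by rw [h2]; ring))
      exact (hp.dvd_mul.mp (h.trans h1)).elim hKd hMd
    have hmem : K.comap π ≤ M := CfsgLib.Coprime.le_pPrimeCore_of_not_dvd hp hnd
    rw [eq_bot_iff]
    intro a ha
    obtain ⟨b, rfl⟩ := hπ a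
    exact Subgroup.mem_bot.mpr ((QuotientGroup.eq_one_iff b).mpr (hmem ha))
  obtain ⟨n', hn'⟩ : ∃ n', Nat.card (Sylow p (G ⧸ M)) = n' * p + 1 := ⟨Nat.card (Sylow p (G ⧸ M)) / p, by
    have h1 : Nat.card (Sylow p (G ⧸ M)) % p = 1 := by
      rw [card_sylow_modEq_one p (G ⧸ M), Nat.mod_eq_of_lt hp.one_lt]
    conv_lhs => rw [← Nat.div_add_mod (Nat.card (Sylow p (G ⧸ M))) p, h1, mul_comm]⟩
  have hn'0 : 1 ≤ n' := by
    by_contra hlt
    rw [show n' = 0 by omega, zero_mul, zero_add] at hn'
    haveI : Subsingleton (Sylow p (G ⧸ M)) := (Nat.card_eq_one_iff_unique.mp hn').1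
    exact not_normal_of_perfect hperf' P' hP' (Sylow.normal_of_subsingleton P')
  have hdiv : Nat.card (Sylow p (G ⧸ M)) ∣ Nat.card (Sylow p G) := by
    rw [Sylow.card_eq_index_normalizer P', Sylow.card_eq_index_normalizer P,
      ← Subgroup.index_comap_of_surjective _ hπ]
    refine Subgroup.index_dvd_of_le fun g hg => ?_
    show π g ∈ Subgroup.normalizer ((((P : Subgroup G).map π : Subgroup (G ⧸ M))) : Set (G ⧸ M))
    exact Subgroup.le_normalizer_map π (Subgroup.mem_map_of_mem π hg)
  obtain ⟨r, hr⟩ := hdiv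
  rw [hn, hn'] at hr
  obtain ⟨r', hr'⟩ : ∃ r', r = r' * p + 1 := by
    have hrm : r % p = 1 := by
      have h1 : ((n' * p + 1) * r) % p = 1 := by
        rw [← hr, Nat.add_mul_mod_self_right, Nat.mod_eq_of_lt hp.one_lt]
      rwa [Nat.mul_mod, show (n' * p + 1) % p = 1 by
        rw [add_comm, Nat.add_mul_mod_self_right, Nat.mod_eq_of_lt hp.one_lt], one_mul, Nat.mod_mod] at h1
    exact ⟨r / p, by conv_lhs => rw [← Nat.div_add_mod r p, hrm, mul_comm]⟩
  subst hr'
  have hn2 : n = n' + r' + n' * r' * p := by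
    have h1 : n * p = (n' + r' + n' * r' * p) * p := by
      have e : (n' * p + 1) * (r' * p + 1) = 1 + (n' + r' + n' * r' * p) * p := by ring
      omega
    exact Nat.eq_of_mul_eq_mul_right hp.pos h1
  by_cases hr0 : r' = 0
  swap
  · refine Or.inr (Or.inr ⟨r' * (n' + 1), n', Nat.mul_pos (by omega) (Nat.succ_pos _), hn'0, ?_⟩)
    rw [hn2]; ring
  by_cases hrep : NoRep p n
  swap
  · simp only [NoRep, not_forall, not_not] at hrep
    obtain ⟨h, u, hh, hu, he⟩ := hrep
    exact Or.inr (Or.inr ⟨h, u, hh, hu, he⟩)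
  rw [hr0, mul_zero, zero_mul, add_zero, add_zero] at hn2
  subst hn2
  rcases classify_core_free_noRep hperf' p P' hP' hcore' hn' hrep with
    ⟨F, iF, iFt, hF, hp3, ⟨φ⟩⟩ | ⟨m, F, iF, iFt, hF, hpm, hp3, ⟨φ⟩⟩
  · exact Or.inl ⟨F, iF, iFt, hF, hp3, ⟨φ⟩⟩
  · exact Or.inr (Or.inl ⟨m, F, iF, iFt, hF, hpm, hp3,
      ⟨φ.trans ((QuotientGroup.quotientMulEquivOfEq (center_eq_bot_of_two F hF)).trans QuotientGroup.quotientBot)⟩⟩)

end CfsgLib.Char.FewSylow
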