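import Cfsg.Agent.Lib.Char.FewSylow.ShapeExists

/-!
# The linear characters of the normalizer, induced

Each induced non-trivial linear character is one character of degree `n p + 1` or the sum of the
exceptional family; the permutation character has norm `n + 1`.
-/

set_option autoImplicit false
set_option linter.unusedSectionVars false
set_option linter.style.haveILetI false

open scoped ComplexConjugate

namespace CfsgLib.Char.FewSylow

open Cfsg CfsgLib.Char CfsgLib.Block CfsgLib.Block.Cyclic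

universe u

variable {p : ℕ} [Fact p.Prime] {G : Type u} [Group G] [Fintype G] [DecidableEq G]
  {D : CycSetup p G} [Fintype D.K] [Fintype (norm D)] {n e : ℕ}

/-- The multiplicity, as a natural number. -/
noncomputable def Small.mN (h : Small D n e) (f : IrrCharacter G) (μ : D.expE →* ℂˣ) : ℕ :=
  (h.mult_nat (isCharacter_irr f) μ).choose

theorem Small.mult_mN (h : Small D n e) (f : IrrCharacter G) (μ : D.expE →* ℂˣ) :
    h.mult (f : G → ℂ) μ = h.mN f μ :=
  (h.mult_nat (isCharacter_irr f) μ).choose_spec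

theorem Small.sum_mN (h : Small D n e) (f : IrrCharacter G) :
    ∑ μ : D.expE →* ℂˣ, h.mN f μ = fx D f := by
  have h1 := h.sum_mult (f : G → ℂ)
  simp only [h.mult_mN, h.fixd_eq] at h1
  exact_mod_cast h1

theorem Small.mN_le (h : Small D n e) (f : IrrCharacter G) (μ : D.expE →* ℂˣ) : h.mN f μ ≤ fx D f := by
  rw [← h.sum_mN f]
  exact Finset.single_le_sum (f := fun ν => h.mN f ν) (fun _ _ => Nat.zero_le _) (Finset.mem_univ μ)

theorem Small.mN_one (h : Small D n e) (μ : D.expE →* ℂˣ) [Decidable (μ = 1)] :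
    h.mN (Block.oneChar G) μ = if μ = 1 then 1 else 0 := by
  have h1 := (h.mult_mN (Block.oneChar G) μ).symm.trans (h.mult_one μ)
  exact_mod_cast h1

theorem Small.sum_mN_deg (h : Small D n e) [Fintype (IrrCharacter G)] (μ : D.expE →* ℂˣ) :
    ∑ f : IrrCharacter G, h.mN f μ * deg f = n * p + 1 := by
  have h1 := h.sum_mult_mul_degree μ
  simp only [h.mult_mN, val_one] at h1
  exact_mod_cast h1

theorem Small.sum_mN_fx (h : Small D n e) [Fintype (IrrCharacter G)] (μ : D.expE →* ℂˣ) :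
    ∑ f : IrrCharacter G, h.mN f μ * fx D f = n + 1 := by
  have h1 := h.sum_mult_mul_fixd μ
  simp only [h.mult_mN, h.fixd_eq] at h1
  exact_mod_cast h1

/-- The excess of the degree over the fixed points. -/
noncomputable def exc (D : CycSetup p G) [Fintype D.K] (f : IrrCharacter G) : ℤ :=
  (deg f : ℤ) - p * fx D f

theorem Small.sum_mN_exc (h : Small D n e) [Fintype (IrrCharacter G)] (μ : D.expE →* ℂˣ) :
    ∑ f : IrrCharacter G, (h.mN f μ : ℤ) * exc D f = 1 - p := by
  have h1 := congrArg (fun m : ℕ => (m : ℤ)) (h.sum_mN_deg μ)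
  have h2 := congrArg (fun m : ℕ => (m : ℤ)) (h.sum_mN_fx μ)
  push_cast at h1 h2
  simp only [exc, mul_sub, Finset.sum_sub_distrib, h1]
  rw [Finset.sum_congr rfl fun f _ => mul_left_comm _ (p : ℤ) _, ← Finset.mul_sum, h2]
  ring

namespace Shape

variable (S : Shape D n e) (h : Small D n e)
include S h

theorem mN_Y (k l : (ZMod p)ˣ ⧸ D.expE) (μ : D.expE →* ℂˣ) : h.mN (S.Y k) μ = h.mN (S.Y l) μ := by
  have h1 := h.mult_congr (f := (S.Y k : G → ℂ)) (f' := (S.Y l : G → ℂ))
    (fun g hg hgQ => S.reg k l g (h.regular_of_notMem hg hgQ))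
    (by rw [h.fixd_eq, h.fixd_eq, S.fx_Y, S.fx_Y]) μ
  rw [h.mult_mN, h.mult_mN] at h1
  exact_mod_cast h1

theorem d_pos (k : (ZMod p)ˣ ⧸ D.expE) : 0 < S.d := S.deg_Y k ▸ deg_pos (S.Y k)

theorem exc_Y_ne (k : (ZMod p)ˣ ⧸ D.expE) : exc D (S.Y k) ≠ 0 := by
  rw [exc, S.deg_Y, S.fx_Y]
  have := h.e_pos
  rcases S.alt with ⟨hx, hd, -⟩ | ⟨-, hd, -⟩
  · rw [hx, hd]; push_cast; omega
  · have : (S.d : ℤ) + e = S.x * p := by exact_mod_cast hd
    rw [mul_comm (p : ℤ)]
    omega

theorem numY_mul_d (hx : S.x ≠ 0) : numY D * S.d = n * p + 1 := by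
  obtain ⟨hn, hd, -⟩ := S.alt.resolve_left fun h1 => hx h1.1
  have hm := h.mul_numY
  have hp := (Fact.out : p.Prime).pos
  have h1 : (numY D : ℤ) * S.d = n * p + 1 := by
    have hn' : (n : ℤ) + 1 = S.x * numY D := by exact_mod_cast hn
    have hd' : (S.d : ℤ) + e = S.x * p := by exact_mod_cast hd
    have hm' : (e : ℤ) * numY D = p - 1 := by
      have := congrArg (fun m : ℕ => (m : ℤ)) hm
      push_cast [Nat.cast_sub (show 1 ≤ p by omega)] at this
      exact this
    linear_combination (numY D : ℤ) * hd' - (p : ℤ) * hn' - hm'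
  exact_mod_cast h1

theorem exc_nonpos (f : IrrCharacter G) {μ : D.expE →* ℂˣ} (hm : h.mN f μ ≠ 0) : exc D f ≤ 0 := by
  have hle := h.mN_le f μ
  have hp := (Fact.out : p.Prime).two_le
  rcases S.cases f with rfl | ⟨hd, hf⟩ | ⟨-, hf⟩ | ⟨k, rfl⟩ | hd
  · rw [exc, deg_one, h.fx_one]; push_cast; omega
  · rw [exc, hd, hf]; push_cast; nlinarith
  · omega
  · rw [S.fx_Y] at hle
    rcases S.alt with ⟨hx, -⟩ | ⟨-, hd, -⟩
    · omega
    · rw [exc, S.deg_Y, S.fx_Y]
      have : (S.d : ℤ) + e = S.x * p := by exact_mod_cast hd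
      rw [mul_comm (p : ℤ)]
      omega
  · rw [exc, hd]; push_cast; omega

theorem exc_eq_zero {f : IrrCharacter G} (he : exc D f = 0) : deg f = p * fx D f := by
  rw [exc, sub_eq_zero] at he
  exact_mod_cast he

/-- The two possibilities for a non-trivial linear character. -/
theorem mu_cases {μ : D.expE →* ℂˣ} (hμ : μ ≠ 1) :
    (∃ f₀, deg f₀ = n * p + 1 ∧ h.mN f₀ μ = 1 ∧ ∀ f, f ≠ f₀ → h.mN f μ = 0) ∨
      (S.x ≠ 0 ∧ (∀ k, h.mN (S.Y k) μ = 1) ∧ ∀ f, (∀ k, f ≠ S.Y k) → h.mN f μ = 0) := by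
  classical
  have := Fintype.ofFinite (IrrCharacter G)
  have hsum := h.sum_mN_deg μ
  by_cases hex : ∃ f₀, h.mN f₀ μ ≠ 0 ∧ deg f₀ = n * p + 1
  · obtain ⟨f₀, hm, hd⟩ := hex
    rw [← Finset.add_sum_erase _ _ (Finset.mem_univ f₀), hd] at hsum
    have h1 : n * p + 1 ≤ h.mN f₀ μ * (n * p + 1) := Nat.le_mul_of_pos_left _ (Nat.pos_of_ne_zero hm)
    have h2 : ∑ f ∈ Finset.univ.erase f₀, h.mN f μ * deg f = 0 := by omega
    have h3 : h.mN f₀ μ = 1 := by
      have : h.mN f₀ μ * (n * p + 1) = 1 * (n * p + 1) := by omega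
      exact Nat.eq_of_mul_eq_mul_right (Nat.succ_pos _) this
    refine Or.inl ⟨f₀, hd, h3, fun f hf => ?_⟩
    have := Finset.sum_eq_zero_iff.mp h2 f (Finset.mem_erase.mpr ⟨hf, Finset.mem_univ _⟩)
    exact (Nat.mul_eq_zero.mp this).resolve_right (deg_pos f).ne'
  · push Not at hex
    obtain ⟨k₀⟩ : Nonempty ((ZMod p)ˣ ⧸ D.expE) := inferInstance
    let _ : Fintype ((ZMod p)ˣ ⧸ D.expE) := Fintype.ofFinite _
    have hz : ∀ f : IrrCharacter G, (∀ k, f ≠ S.Y k) → (h.mN f μ : ℤ) * exc D f = 0 := by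
      intro f hf
      by_cases hm : h.mN f μ = 0
      · rw [hm, Nat.cast_zero, zero_mul]
      have hle := h.mN_le f μ
      rcases S.cases f with rfl | ⟨hd, -⟩ | ⟨-, hf0⟩ | ⟨k, hk⟩ | hd
      · rw [h.mN_one, if_neg hμ] at hm; exact absurd rfl hm
      · exact absurd hd (hex f hm)
      · omega
      · exact absurd hk (hf k)
      · rw [exc, hd]; push_cast; ring
    have hexc := h.sum_mN_exc μ
    rw [← Finset.sum_subset (Finset.subset_univ (Finset.univ.image S.Y)) (fun f _ hf => hz f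
      (fun k hk => hf (hk ▸ Finset.mem_image_of_mem _ (Finset.mem_univ k)))),
      Finset.sum_image (fun a _ b _ hab => S.inj hab), Finset.sum_congr rfl fun k _ => by
        rw [S.mN_Y h k k₀, exc, S.deg_Y, S.fx_Y], Finset.sum_const, Finset.card_univ,
      ← Nat.card_eq_fintype_card, nsmul_eq_mul] at hexc
    have hp := (Fact.out : p.Prime).two_le
    rcases S.alt with ⟨hx, -⟩ | ⟨-, hd, -⟩
    · exfalso
      have := h.mN_le (S.Y k₀) μ
      rw [S.fx_Y, hx] at this
      rw [Nat.le_zero.mp this] at hexc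
      simp at hexc
      omega
    · have hm' : (e : ℤ) * numY D = p - 1 := by
        have := congrArg (fun m : ℕ => (m : ℤ)) h.mul_numY
        push_cast [Nat.cast_sub (show 1 ≤ p by omega)] at this
        exact this
      have hd' : (S.d : ℤ) + e = S.x * p := by exact_mod_cast hd
      have h1 : ((p : ℤ) - 1) * ((h.mN (S.Y k₀) μ : ℤ) - 1) = 0 := by
        linear_combination -hexc + (numY D : ℤ) * (h.mN (S.Y k₀) μ : ℤ) * hd' -
          (h.mN (S.Y k₀) μ : ℤ) * hm'
      have h2 : h.mN (S.Y k₀) μ = 1 := by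
        have := (mul_eq_zero.mp h1).resolve_left (by omega)
        omega
      have hx : S.x ≠ 0 := by
        have := h.mN_le (S.Y k₀) μ
        rw [S.fx_Y] at this
        omega
      refine Or.inr ⟨hx, fun k => (S.mN_Y h k k₀ μ).trans h2, fun f hf => ?_⟩
      rw [← Finset.sum_add_sum_compl (Finset.univ.image S.Y),
        Finset.sum_image (fun a _ b _ hab => S.inj hab), Finset.sum_congr rfl fun k _ => by
          rw [S.mN_Y h k k₀, h2, one_mul, S.deg_Y], Finset.sum_const, Finset.card_univ,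
        ← Nat.card_eq_fintype_card, smul_eq_mul, S.numY_mul_d h hx] at hsum
      have h3 : ∑ f ∈ (Finset.univ.image S.Y)ᶜ, h.mN f μ * deg f = 0 := by omega
      have := Finset.sum_eq_zero_iff.mp h3 f (Finset.mem_compl.mpr fun hm => by
        obtain ⟨k, -, hk⟩ := Finset.mem_image.mp hm
        exact hf k hk.symm)
      exact (Nat.mul_eq_zero.mp this).resolve_right (deg_pos f).ne'

theorem mN_eq_zero_of_defect {f : IrrCharacter G} (hd : deg f = p * fx D f) {μ : D.expE →* ℂˣ}
    (hμ : μ ≠ 1) : h.mN f μ = 0 := by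
  have hp := (Fact.out : p.Prime).two_le
  rcases S.mu_cases h hμ with ⟨f₀, hd0, -, h0⟩ | ⟨-, -, h0⟩
  · refine h0 f fun hf => ?_
    subst hf
    have h1 : p ∣ n * p + 1 := ⟨_, hd0.symm.trans hd⟩
    rw [Nat.dvd_add_right (dvd_mul_left p n)] at h1
    have := Nat.le_of_dvd Nat.one_pos h1
    omega
  · refine h0 f fun k hk => S.exc_Y_ne h k ?_
    rw [← hk, exc, hd]
    push_cast
    ring

/-- The multiplicities in the permutation character. -/
theorem mN_trivial {f : IrrCharacter G} (hf : f ≠ Block.oneChar G) (hm : h.mN f 1 ≠ 0) :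
    deg f = p * fx D f ∧ h.mN f 1 = fx D f := by
  classical
  have := Fintype.ofFinite (IrrCharacter G)
  have hexc := h.sum_mN_exc 1
  rw [← Finset.add_sum_erase _ _ (Finset.mem_univ (Block.oneChar G)), h.mN_one, if_pos rfl, exc,
    deg_one, h.fx_one] at hexc
  push_cast at hexc
  have hnp : ∀ g ∈ Finset.univ.erase (Block.oneChar G), (h.mN g 1 : ℤ) * exc D g ≤ 0 := by
    intro g _
    by_cases hg : h.mN g 1 = 0
    · rw [hg, Nat.cast_zero, zero_mul]
    · exact mul_nonpos_of_nonneg_of_nonpos (by positivity) (S.exc_nonpos h g hg)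
  have h0 : ∑ g ∈ Finset.univ.erase (Block.oneChar G), (h.mN g 1 : ℤ) * exc D g = 0 := by linarith
  have h1 := (Finset.sum_eq_zero_iff_of_nonpos hnp).mp h0 f
    (Finset.mem_erase.mpr ⟨hf, Finset.mem_univ _⟩)
  have hd := S.exc_eq_zero h ((mul_eq_zero.mp h1).resolve_left (Int.natCast_ne_zero.mpr hm))
  refine ⟨hd, ?_⟩
  rw [← h.sum_mN f, Finset.sum_eq_single 1 (fun μ _ hμ => S.mN_eq_zero_of_defect h hd hμ)
    (fun hh => absurd (Finset.mem_univ _) hh)]

theorem mN_cross (f : IrrCharacter G) {μ : D.expE →* ℂˣ} (hμ : μ ≠ 1) :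
    h.mN f 1 * h.mN f μ = 0 := by
  classical
  by_cases hf : f = Block.oneChar G
  · rw [hf, h.mN_one μ, if_neg hμ, mul_zero]
  by_cases hm : h.mN f 1 = 0
  · rw [hm, zero_mul]
  · rw [S.mN_eq_zero_of_defect h (S.mN_trivial h hf hm).1 hμ, mul_zero]

theorem sum_sq [Fintype (IrrCharacter G)] : ∑ f : IrrCharacter G, h.mN f 1 * h.mN f 1 = n + 1 := by
  classical
  have h1 := h.sum_mN_deg 1
  rw [← Finset.add_sum_erase _ _ (Finset.mem_univ (Block.oneChar G)), h.mN_one, if_pos rfl,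
    deg_one] at h1
  rw [← Finset.add_sum_erase _ _ (Finset.mem_univ (Block.oneChar G)), h.mN_one, if_pos rfl]
  have h2 : ∑ g ∈ Finset.univ.erase (Block.oneChar G), h.mN g 1 * deg g =
      p * ∑ g ∈ Finset.univ.erase (Block.oneChar G), h.mN g 1 * h.mN g 1 := by
    rw [Finset.mul_sum]
    refine Finset.sum_congr rfl fun g hg => ?_
    by_cases hm : h.mN g 1 = 0
    · rw [hm, zero_mul, zero_mul, mul_zero]
    · obtain ⟨hd, he⟩ := S.mN_trivial h (Finset.mem_erase.mp hg).1 hm
      rw [hd, ← he]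
      ring
  rw [h2] at h1
  have h3 : p * ∑ g ∈ Finset.univ.erase (Block.oneChar G), h.mN g 1 * h.mN g 1 = p * n := by
    rw [mul_comm p n]; omega
  rw [Nat.eq_of_mul_eq_mul_left (Fact.out : p.Prime).pos h3]
  ring

/-- Every element of the normalizer outside the subgroup fixes `n + 1` points. -/
theorem card_fixedBy {g : G} (hg : g ∈ norm D) (hgQ : g ∉ D.Q) :
    Nat.card (MulAction.fixedBy (G ⧸ norm D) g) = n + 1 := by
  classical
  have := Fintype.ofFinite (IrrCharacter G)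
  have h1 := congrFun (h.permChar_eq.trans (h.expand 1)) g
  simp only [Finset.sum_apply, Pi.smul_apply, smul_eq_mul, h.mult_mN] at h1
  have h2 : ∀ f : IrrCharacter G,
      (h.mN f 1 : ℂ) * (f : G → ℂ) g = ((h.mN f 1 * h.mN f 1 : ℕ) : ℂ) := by
    intro f
    rw [← h.sum_mult_of_notMem (isClassFunction_irr f) (g := ⟨g, hg⟩) hgQ, Finset.mul_sum,
      Finset.sum_eq_single (1 : D.expE →* ℂˣ) (fun μ _ hμ => by
        rw [h.mult_mN, ← mul_assoc, ← Nat.cast_mul, S.mN_cross h f hμ, Nat.cast_zero, zero_mul])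
        (fun hh => absurd (Finset.mem_univ _) hh)]
    simp [h.mult_mN]
  simp only [h2, ← Nat.cast_sum, S.sum_sq h, permChar] at h1
  exact_mod_cast h1

end Shape

end CfsgLib.Char.FewSylow
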