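import Cfsg.Agent.Lib.Char.FewSylow.Minus
import Mathlib.GroupTheory.Sylow
import Mathlib.RingTheory.RootsOfUnity.Complex

/-!
# The involutions

With `4 ∣ n + 1`: no element has order `4`, every involution is conjugate to the one of the
complement, and `e = 2`.
-/

set_option autoImplicit false
set_option linter.unusedSectionVars false
set_option linter.style.haveILetI false

open scoped ComplexConjugate

namespace CfsgLib.Char.FewSylow

open Cfsg CfsgLib.Char CfsgLib.Block CfsgLib.Block.Cyclic MulAction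

universe u

variable {p : ℕ} [Fact p.Prime] {G : Type u} [Group G] [Fintype G] [DecidableEq G]
  {D : CycSetup p G} [Fintype D.K] [Fintype (norm D)] {n e : ℕ}

namespace Values

variable {w : G} {f : G → ℂ} {d : ℕ} (V : Values D e w f d) (hw : Gen D e w) (h : Small D n e)
  (S : Shape D n e)
include V hw h S

theorem half_value (hodd : Odd (e / 2)) : f (w ^ (e / 2)) = -1 := by
  rw [V.pow _ (V.half_pow_ne_one hw h S), hodd.neg_one_pow]

theorem int_value {g : G} (hg : ¬ p ∣ orderOf g) (hg1 : g ≠ 1) : ∃ v : ℤ, f g = v := by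
  rcases V.cases_value hw h S hg hg1 with h0 | ⟨x, a, -, -, h0⟩
  · exact ⟨0, by rw [h0, Int.cast_zero]⟩
  · exact ⟨(-1) ^ a, by rw [h0]; push_cast; rfl⟩

theorem not_four {g : G} (hd : Odd d) (hp5 : 5 ≤ p) (h4e : ¬ 4 ∣ e) : orderOf g ≠ 4 := by
  intro hg
  have hpc : ∀ k : ℕ, ¬ p ∣ orderOf (g ^ k) := fun k hk => by
    have := Nat.le_of_dvd (by norm_num : 0 < 4) (hg ▸ hk.trans (orderOf_pow_dvd k))
    omega
  have hne : ∀ k : ℕ, ¬ 2 ∣ k → f (g ^ k) = 0 := by
    intro k hk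
    have ho : orderOf (g ^ k) = 4 := by
      rw [Nat.Coprime.orderOf_pow, hg]
      rw [hg, show (4 : ℕ) = 2 ^ 2 by norm_num, Nat.coprime_pow_left_iff (by norm_num),
        Nat.Prime.coprime_iff_not_dvd Nat.prime_two]
      exact hk
    refine V.value_free_of_not_dvd hw h S (hpc k) (fun h1 => ?_) (ho ▸ h4e)
    rw [h1, orderOf_one] at ho
    omega
  have h2 : g ^ 2 ≠ 1 := fun h1 => by
    have := Nat.le_of_dvd (by norm_num) (hg ▸ orderOf_dvd_of_pow_eq_one h1)
    omega
  obtain ⟨v, hv⟩ := V.int_value hw h S (hpc 2) h2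
  obtain ⟨⟨N, hN⟩, -⟩ := V.exists_sums hw h (g := g) (hg ▸ (by norm_num))
  obtain ⟨M, hM⟩ := exists_sum_powers V.isChar g (ε := Complex.I) (by rw [hg, Complex.I_pow_four])
  rw [hg] at hN hM
  simp only [Finset.sum_range_succ, Finset.sum_range_zero, zero_add, pow_zero, one_mul, V.deg,
    hne 1 (by norm_num), hne 3 (by norm_num), add_zero, hv, mul_zero, Complex.I_sq] at hN hM
  have hN' : (d : ℤ) + v = 4 * N := by exact_mod_cast hN
  have hM' : (d : ℤ) + -1 * v = 4 * M := by exact_mod_cast hM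
  obtain ⟨c, hc⟩ := hd
  omega

theorem involution_conj {j : G} (hd : Odd d) (hp5 : 5 ≤ p) (hj : orderOf j = 2) :
    ∃ x : G, x * w ^ (e / 2) * x⁻¹ = j := by
  have hj1 : j ≠ 1 := fun h1 => by rw [h1, orderOf_one] at hj; omega
  have hpj : ¬ p ∣ orderOf j := fun hk => by
    have := Nat.le_of_dvd (by norm_num : 0 < 2) (hj ▸ hk)
    omega
  rcases V.cases_value hw h S hpj hj1 with h0 | ⟨x, a, hne, hxa, -⟩
  · exfalso
    obtain ⟨⟨N, hN⟩, -⟩ := V.exists_sums hw h (g := j) (hj ▸ dvd_rfl)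
    rw [hj] at hN
    simp only [Finset.sum_range_succ, Finset.sum_range_zero, zero_add, pow_zero, pow_one, V.deg, h0,
      add_zero] at hN
    have hN' : d = 2 * N := by exact_mod_cast hN
    obtain ⟨c, hc⟩ := hd
    omega
  · refine ⟨x, ?_⟩
    rw [← V.unique_involution hw h S (pow_mem (Subgroup.mem_zpowers w) a) ?_ hne]
    · exact hxa
    · have h2 : j * j = 1 := by rw [← sq, ← hj, pow_orderOf_eq_one]
      rw [← hxa] at h2
      have h3 : x * (w ^ a * w ^ a) * x⁻¹ = 1 := by rw [← h2]; group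
      exact conj_eq_one_iff.mp h3

/-- An element of the normalizer of the complement fixing a point common to the complement is in it. -/
theorem mem_of_fix {j : G} (hj : j ∈ Subgroup.normalizer (Subgroup.zpowers w : Set G))
    {y : G ⧸ norm D} (hy : y ∈ fixedBy (G ⧸ norm D) w) (hjy : j • y = y) :
    j ∈ Subgroup.zpowers w := by
  obtain ⟨g, hg, rfl⟩ := hw.exists_normalize h S hy
  have h1 : (g⁻¹ * j * g) • ((1 : G) : G ⧸ norm D) = ((1 : G) : G ⧸ norm D) := by
    rw [mul_smul, mul_smul, hjy, inv_smul_smul]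
  have h2 := hw.mem_zpowers_of_normalize h S (smul_base_eq_iff.mp h1)
    (mul_mem (mul_mem (inv_mem hg) hj) hg)
  have h3 := (Subgroup.mem_normalizer_iff.mp hg _).mp h2
  rwa [show g * (g⁻¹ * j * g) * g⁻¹ = j by group] at h3

/-- No involution outside the complement commutes with an element of odd prime order of it. -/
theorem not_commute (hd : Odd d) (hp5 : 5 ≤ p) (hodd : Odd (e / 2)) {j : G}
    (hj : j ∈ Subgroup.normalizer (Subgroup.zpowers w : Set G)) (hj2 : orderOf j = 2)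
    (hjW : j ∉ Subgroup.zpowers w) {l b : ℕ} (hl : l.Prime) (hl2 : l ≠ 2)
    (hzo : orderOf (w ^ b) = l) (hb : 2 ∣ b) : ¬ Commute j (w ^ b) := by
  classical
  intro hc
  have hp : p.Prime := Fact.out
  set z := w ^ b with hz
  have hzW : z ∈ Subgroup.zpowers w := pow_mem (Subgroup.mem_zpowers w) b
  have hcop : Nat.Coprime 2 l := (Nat.coprime_primes Nat.prime_two hl).mpr (Ne.symm hl2)
  set g := j * z with hg
  have hgo : orderOf g = 2 * l := by
    rw [hg, hc.orderOf_mul_eq_mul_orderOf_of_coprime (hj2.symm ▸ hzo.symm ▸ hcop), hj2, hzo]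
  have hle : l ∣ e := hzo ▸ hw.order ▸ orderOf_pow_dvd b
  have hpl : ¬ p ∣ 2 * l := fun hd' => by
    rcases hp.dvd_mul.mp hd' with h2 | h2
    · have := Nat.le_of_dvd (by norm_num) h2; omega
    · rw [Nat.prime_dvd_prime_iff_eq hp hl] at h2
      exact h.not_dvd_e (h2 ▸ hle)
  have hj_pow : ∀ k : ℕ, j ^ k = if 2 ∣ k then 1 else j := by
    intro k
    split_ifs with hk
    · exact orderOf_dvd_iff_pow_eq_one.mp (hj2.symm ▸ hk)
    · obtain ⟨c, rfl⟩ : Odd k := Nat.not_even_iff_odd.mp fun hev => hk hev.two_dvd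
      rw [pow_succ, orderOf_dvd_iff_pow_eq_one.mp (hj2.symm ▸ dvd_mul_right 2 c), one_mul]
  have hgl : g ^ l = j := by
    rw [hg, hc.mul_pow, hj_pow, if_neg (fun hd' => hl2 ((Nat.prime_dvd_prime_iff_eq
      Nat.prime_two hl).mp hd').symm), ← hzo, pow_orderOf_eq_one, mul_one]
  have hfj : f j = -1 := by
    obtain ⟨x, hx⟩ := V.involution_conj hw h S hd hp5 hj2
    rw [← hx, V.isClassFunction hw h, V.half_value hw h S hodd]
  have hval : ∀ k ∈ Finset.range (orderOf g), k ≠ 0 → k ≠ l →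
      f (g ^ k) = if 2 ∣ k then 1 else 0 := by
    intro k hk hk0 hkl
    rw [Finset.mem_range, hgo] at hk
    split_ifs with h2
    · have he : g ^ k = w ^ (b * k) := by rw [hg, hc.mul_pow, hj_pow, if_pos h2, one_mul, hz, ← pow_mul]
      have hne : w ^ (b * k) ≠ 1 := fun h1 => by
        have h3 : orderOf g ∣ k := orderOf_dvd_of_pow_eq_one (he.trans h1)
        have := Nat.le_of_dvd (Nat.pos_of_ne_zero hk0) h3
        omega
      rw [he, V.pow _ hne, Even.neg_one_pow (even_iff_two_dvd.mpr (hb.mul_right k))]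
    · have hkodd := h2
      refine V.free _ (fun hd' => hpl (hgo ▸ hd'.trans (orderOf_pow_dvd k))) fun x hx => ?_
      -- `g ^ k` fixes the point of `x`; so do its powers `z ^ (2 k)` and `j`
      have hfix : (g ^ k) • (x : G ⧸ norm D) = (x : G ⧸ norm D) := smul_mk_eq_iff.mpr hx
      have hmem : g ^ k ∈ stabilizer G (x : G ⧸ norm D) := hfix
      have h3 : (g ^ k) ^ 2 = z ^ (k * 2) := by
        rw [hg, ← pow_mul, hc.mul_pow, hj_pow, if_pos (dvd_mul_left 2 k), one_mul]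
      have h4 : (g ^ k) ^ l = j := by
        rw [← pow_mul, mul_comm, pow_mul, hgl, hj_pow, if_neg hkodd]
      have hzne : z ^ (k * 2) ≠ 1 := fun h1 => by
        have h5 : l ∣ k * 2 := hzo ▸ orderOf_dvd_of_pow_eq_one h1
        obtain ⟨c, hc'⟩ := (Nat.Coprime.dvd_of_dvd_mul_right hcop.symm h5)
        rcases (show c = 0 ∨ c = 1 ∨ 2 ≤ c by omega) with h0 | h0 | h0
        · rw [h0, mul_zero] at hc'; exact hk0 hc'
        · rw [h0, mul_one] at hc'; exact hkl hc'
        · have : l * 2 ≤ l * c := Nat.mul_le_mul_left l h0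
          omega
      have hzfix : (x : G ⧸ norm D) ∈ fixedBy (G ⧸ norm D) (z ^ (k * 2)) := by
        rw [← h3]
        exact (stabilizer G (x : G ⧸ norm D)).pow_mem hmem 2
      rw [hw.fixedBy_eq h S (pow_mem hzW _) hzne] at hzfix
      exact hjW (V.mem_of_fix hw h S hj hzfix (h4 ▸ (stabilizer G (x : G ⧸ norm D)).pow_mem hmem l))
  obtain ⟨⟨N, hN⟩, ⟨M, hM⟩⟩ := V.exists_sums hw h (g := g) (hgo ▸ dvd_mul_right 2 l)
  have hl' := hl.two_le
  have hmem0 : (0 : ℕ) ∈ Finset.range (orderOf g) := Finset.mem_range.mpr (by omega)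
  have hmeml : l ∈ (Finset.range (orderOf g)).erase 0 :=
    Finset.mem_erase.mpr ⟨by omega, Finset.mem_range.mpr (by omega)⟩
  set C := (((Finset.range (orderOf g)).erase 0).erase l) with hC
  have hC1 : ∑ a ∈ C, f (g ^ a) = ((C.filter fun a => 2 ∣ a).card : ℂ) := by
    rw [Finset.sum_congr rfl fun a ha => hval a (Finset.mem_of_mem_erase (Finset.mem_of_mem_erase ha))
      (Finset.ne_of_mem_erase (Finset.mem_of_mem_erase ha)) (Finset.ne_of_mem_erase ha), Finset.sum_boole]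
  have hC2 : ∑ a ∈ C, (-1 : ℂ) ^ a * f (g ^ a) = ((C.filter fun a => 2 ∣ a).card : ℂ) := by
    rw [← hC1]
    refine Finset.sum_congr rfl fun a ha => ?_
    rw [hval a (Finset.mem_of_mem_erase (Finset.mem_of_mem_erase ha))
      (Finset.ne_of_mem_erase (Finset.mem_of_mem_erase ha)) (Finset.ne_of_mem_erase ha)]
    split_ifs with h2
    · rw [Even.neg_one_pow (even_iff_two_dvd.mpr h2), one_mul]
    · rw [mul_zero]
  rw [← Finset.add_sum_erase _ _ hmem0, ← Finset.add_sum_erase _ _ hmeml, hC1] at hN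
  rw [← Finset.add_sum_erase _ _ hmem0, ← Finset.add_sum_erase _ _ hmeml, hC2] at hM
  simp only [pow_zero, one_mul, V.deg, hgl, (hl.odd_of_ne_two hl2).neg_one_pow, hgo, hfj] at hN hM
  have hN' : (d : ℤ) + (-1 + (C.filter fun a => 2 ∣ a).card) = (2 * l : ℕ) * N := by exact_mod_cast hN
  have hM' : (d : ℤ) + (-1 * -1 + (C.filter fun a => 2 ∣ a).card) = (2 * l : ℕ) * M := by
    exact_mod_cast hM
  push_cast at hN' hM'
  have h1 : (l : ℤ) ∣ 1 := ⟨(M : ℤ) - N, by linarith [mul_sub (l : ℤ) (M : ℤ) (N : ℤ)]⟩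
  have := Int.eq_one_of_dvd_one (by positivity) h1
  omega

/-- The two-part of the normalizer of the complement. -/
theorem exists_two_subgroup (hd : Odd d) (hp5 : 5 ≤ p) (h4e : ¬ 4 ∣ e) {s : ℕ} (hs : n + 1 = 2 ^ s) :
    ∃ A : Subgroup G, A ≤ Subgroup.normalizer (Subgroup.zpowers w : Set G) ∧
      Nat.card A = 2 ^ (s + 1) ∧ ∀ a ∈ A, a ≠ 1 → orderOf a = 2 := by
  haveI := Fact.mk Nat.prime_two
  have hdvd : 2 ^ (s + 1) ∣ Nat.card (Subgroup.normalizer (Subgroup.zpowers w : Set G)) := by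
    rw [hw.card_normalizer h S, hs, pow_succ, mul_comm]
    exact Nat.mul_dvd_mul_right V.even _
  obtain ⟨A, hA⟩ := Sylow.exists_subgroup_card_pow_prime 2 hdvd
  refine ⟨A.map (Subgroup.subtype _), Subgroup.map_subtype_le A, ?_, fun a ha ha1 => ?_⟩
  · rw [Subgroup.card_map_of_injective (Subgroup.subtype_injective _), hA]
  · have hdv : orderOf a ∣ 2 ^ (s + 1) := by
      have h1 := orderOf_dvd_natCard (⟨a, ha⟩ : A.map (Subgroup.subtype _))
      rwa [Subgroup.orderOf_mk, Subgroup.card_map_of_injective (Subgroup.subtype_injective _), hA] at h1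
    obtain ⟨k, -, hk⟩ := (Nat.dvd_prime_pow Nat.prime_two).mp hdv
    rcases (show k = 0 ∨ k = 1 ∨ 2 ≤ k by omega) with rfl | rfl | hk2
    · rw [pow_zero, orderOf_eq_one_iff] at hk; exact absurd hk ha1
    · rw [hk, pow_one]
    · exfalso
      refine V.not_four hw h S hd hp5 h4e (g := a ^ (2 ^ (k - 2))) ?_
      rw [orderOf_pow' a (pow_ne_zero _ two_ne_zero), hk, Nat.gcd_eq_right (pow_dvd_pow 2 (by omega)),
        Nat.pow_div (by omega) two_pos, show k - (k - 2) = 2 by omega]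
      norm_num

/-- The complement has order two. -/
theorem e_eq_two (hd : Odd d) (hp5 : 5 ≤ p) {a s : ℕ} (ha : e = 2 + a * (n + 1)) (hs : n + 1 = 2 ^ s)
    (hs2 : 2 ≤ s) : e = 2 := by
  classical
  by_contra hne
  have h4t : 4 ∣ n + 1 := by rw [hs, show (4 : ℕ) = 2 ^ 2 by norm_num]; exact pow_dvd_pow 2 hs2
  obtain ⟨q, hq⟩ := (h4t.mul_left a : 4 ∣ a * (n + 1))
  have hodd : Odd (e / 2) := ⟨q, by omega⟩
  have h4e : ¬ 4 ∣ e := by rintro ⟨c, hc⟩; omega
  have he6 : 1 < e / 2 := by omega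
  obtain ⟨A, hAN, hAc, hA2⟩ := V.exists_two_subgroup hw h S hd hp5 h4e hs
  set l := (e / 2).minFac with hldef
  have hl : l.Prime := Nat.minFac_prime (by omega)
  have hl2 : l ≠ 2 := fun h2 => by
    have := Nat.minFac_dvd (e / 2)
    rw [← hldef, h2] at this
    exact (Nat.not_even_iff_odd.mpr hodd) (even_iff_two_dvd.mpr this)
  obtain ⟨c, hc⟩ := Nat.minFac_dvd (e / 2)
  rw [← hldef] at hc
  have he2 : e = l * (2 * c) := by rw [mul_left_comm, ← hc]; have := V.even; omega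
  have hc0 : 0 < 2 * c := by
    rcases Nat.eq_zero_or_pos (2 * c) with h0 | h0
    · rw [h0, mul_zero] at he2; have := S.two_le; omega
    · exact h0
  have hzo : orderOf (w ^ (2 * c)) = l := by
    rw [orderOf_pow' w (by omega), hw.order, he2, Nat.gcd_eq_right (dvd_mul_left _ _),
      Nat.mul_div_cancel _ hc0]
  set z := w ^ (2 * c) with hz
  have hinv : ∀ j ∈ A, j ∉ Subgroup.zpowers w → j * z * j⁻¹ = z⁻¹ := by
    intro j hj hjW
    have hj1 : j ≠ 1 := fun h1 => hjW (h1 ▸ one_mem _)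
    have hj2 := hA2 j hj hj1
    have hjz : j * z * j⁻¹ ∈ Subgroup.zpowers w :=
      (Subgroup.mem_normalizer_iff.mp (hAN hj) _).mp (pow_mem (Subgroup.mem_zpowers w) _)
    obtain ⟨b, hb⟩ := (mem_powers_iff_mem_zpowers (x := w)).mpr hjz
    have hb' : w ^ b = j * z * j⁻¹ := hb
    have hbl : e ∣ b * l := by
      rw [← hw.order]
      refine orderOf_dvd_of_pow_eq_one ?_
      rw [pow_mul, hb', conj_pow, ← hzo, pow_orderOf_eq_one, mul_one, mul_inv_cancel]
    rw [he2, mul_comm b l] at hbl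
    obtain ⟨k, hk⟩ := Nat.dvd_of_mul_dvd_mul_left hl.pos hbl
    have hjk : j * z * j⁻¹ = z ^ k := by rw [← hb', hk, hz, ← pow_mul]
    have hjj : j * j = 1 := by rw [← sq, ← hj2, pow_orderOf_eq_one]
    have hkk : z ^ (k * k) = z := by
      rw [pow_mul, ← hjk, conj_pow, ← hjk]
      calc j * (j * z * j⁻¹) * j⁻¹ = (j * j) * z * (j * j)⁻¹ := by group
        _ = z := by rw [hjj, one_mul, inv_one, mul_one]
    have hdiv : (l : ℤ) ∣ ((k : ℤ) - 1) * ((k : ℤ) + 1) := by
      have h1 : z ^ (((k * k : ℕ) : ℤ) - 1) = 1 := by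
        rw [zpow_sub, zpow_natCast, zpow_one, hkk, mul_inv_cancel]
      have h2 := orderOf_dvd_iff_zpow_eq_one.mpr h1
      rw [hzo] at h2
      have : ((k : ℤ) - 1) * ((k : ℤ) + 1) = ((k * k : ℕ) : ℤ) - 1 := by push_cast; ring
      rwa [this]
    rcases (Nat.prime_iff_prime_int.mp hl).dvd_or_dvd hdiv with h3 | h3
    · exfalso
      have h4 : z ^ ((k : ℤ) - 1) = 1 := orderOf_dvd_iff_zpow_eq_one.mp (hzo.symm ▸ h3)
      rw [zpow_sub, zpow_natCast, zpow_one, mul_inv_eq_one] at h4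
      rw [h4] at hjk
      exact V.not_commute hw h S hd hp5 hodd (hAN hj) hj2 hjW hl hl2 hzo (dvd_mul_right 2 c)
        (mul_inv_eq_iff_eq_mul.mp hjk)
    · have h4 : z ^ ((k : ℤ) + 1) = 1 := orderOf_dvd_iff_zpow_eq_one.mp (hzo.symm ▸ h3)
      rw [zpow_add, zpow_natCast, zpow_one, mul_eq_one_iff_eq_inv] at h4
      rw [hjk, h4]
  have hAW : ∀ a ∈ A, a ∈ Subgroup.zpowers w → a ∈ ({1, w ^ (e / 2)} : Finset G) := by
    intro a ha haW
    by_cases ha1 : a = 1
    · rw [ha1]; simp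
    · have h2 : a * a = 1 := by rw [← sq, ← hA2 a ha ha1, pow_orderOf_eq_one]
      rw [V.unique_involution hw h S haW h2 ha1]
      simp
  have hnc : ∀ j1 ∈ A, ∀ j2 ∈ A, j1 ∉ Subgroup.zpowers w → j2 ∉ Subgroup.zpowers w →
      j1⁻¹ * j2 ∈ Subgroup.zpowers w := by
    intro j1 h1 j2 h2 hj1 hj2
    by_contra hn
    have h3 := hinv _ (A.mul_mem (A.inv_mem h1) h2) hn
    have h4 : j1⁻¹ * j2 * z * (j1⁻¹ * j2)⁻¹ = z := by
      have e1 := hinv j1 h1 hj1
      have e2 := hinv j2 h2 hj2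
      have e3 : j1⁻¹ * z⁻¹ * j1 = z := by rw [← e1]; group
      calc j1⁻¹ * j2 * z * (j1⁻¹ * j2)⁻¹ = j1⁻¹ * (j2 * z * j2⁻¹) * j1 := by group
        _ = z := by rw [e2, e3]
    rw [h4] at h3
    have h5 : z * z = 1 := by nth_rewrite 2 [h3]; rw [mul_inv_cancel]
    rw [← sq] at h5
    have := Nat.le_of_dvd two_pos (hzo ▸ orderOf_dvd_of_pow_eq_one h5)
    have := hl.two_le
    omega
  obtain ⟨B, hB, hAB⟩ : ∃ B : Finset G, B.card ≤ 4 ∧ ∀ a ∈ A, a ∈ B := by
    by_cases hex : ∃ j ∈ A, j ∉ Subgroup.zpowers w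
    · obtain ⟨j, hj, hjW⟩ := hex
      refine ⟨{1, w ^ (e / 2)} ∪ {j, j * w ^ (e / 2)},
        (Finset.card_union_le _ _).trans (add_le_add Finset.card_le_two Finset.card_le_two), fun a ha => ?_⟩
      by_cases haW : a ∈ Subgroup.zpowers w
      · exact Finset.mem_union_left _ (hAW a ha haW)
      · have h1 := hAW _ (A.mul_mem (A.inv_mem hj) ha) (hnc j hj a ha hjW haW)
        simp only [Finset.mem_insert, Finset.mem_singleton] at h1
        refine Finset.mem_union_right _ ?_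
        rcases h1 with h1 | h1
        · rw [inv_mul_eq_one.mp h1]; simp
        · rw [show a = j * w ^ (e / 2) by rw [← h1, mul_inv_cancel_left]]; simp
    · push Not at hex
      exact ⟨{1, w ^ (e / 2)}, Finset.card_le_two.trans (by norm_num), fun a ha => hAW a ha (hex a ha)⟩
  have h8 : Nat.card A ≤ B.card := by
    exact (Nat.card_le_card_of_injective (fun a : A => (⟨a, hAB a a.2⟩ : B))
      (fun a b hab => Subtype.ext (congrArg (fun x : B => (x : G)) hab))).trans
        (le_of_eq (Nat.card_eq_finsetCard B))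
  have : 8 ≤ 2 ^ (s + 1) := by
    calc 8 = 2 ^ 3 := by norm_num
      _ ≤ _ := Nat.pow_le_pow_right two_pos (by omega)
  omega

end Values

end CfsgLib.Char.FewSylow
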