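import Cfsg.Agent.Lib.Char.FewSylow.Main
import Cfsg.Agent.Lib.Perm.Small.Count

/-!
# The classification from a self-centralizing element
-/

set_option autoImplicit false
set_option linter.unusedSectionVars false
set_option linter.style.haveILetI false

namespace CfsgLib.Char.FewSylow

open Cfsg CfsgLib.Char CfsgLib.Block CfsgLib.Block.Cyclic

universe u

variable {G : Type u} [Group G] [Finite G]

theorem centralizer_zpowers (z : G) :
    Subgroup.centralizer ((Subgroup.zpowers z : Subgroup G) : Set G) = Subgroup.centralizer ({z} : Set G) := by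
  ext g
  rw [Subgroup.mem_centralizer_iff, Subgroup.mem_centralizer_singleton_iff]
  constructor
  · exact fun h => (h z (Subgroup.mem_zpowers z)).symm
  · rintro hg u ⟨i, rfl⟩
    exact ((show Commute g z from hg).zpow_right i).eq.symm

/-- A self-centralizing element of prime order spans a Sylow subgroup. -/
theorem exists_sylow_eq {p : ℕ} [Fact p.Prime] {z : G} (hz : orderOf z = p)
    (hC : Subgroup.centralizer ({z} : Set G) = Subgroup.zpowers z) :
    ∃ P : Sylow p G, (P : Subgroup G) = Subgroup.zpowers z := by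
  have hp := (Fact.out : p.Prime)
  have hzne : z ≠ 1 := fun h => by rw [h, orderOf_one] at hz; exact hp.one_lt.ne hz
  have hpg : IsPGroup p (Subgroup.zpowers z) :=
    IsPGroup.of_card (n := 1) (by rw [Nat.card_zpowers, hz, pow_one])
  obtain ⟨P, hzP⟩ := hpg.exists_le_sylow
  refine ⟨P, le_antisymm ?_ hzP⟩
  haveI : Nontrivial (P : Subgroup G) :=
    ⟨⟨⟨z, hzP (Subgroup.mem_zpowers z)⟩, 1, fun h => hzne (congrArg Subtype.val h)⟩⟩
  haveI : Nontrivial (Subgroup.center (P : Subgroup G)) := P.isPGroup'.center_nontrivial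
  obtain ⟨c, hc⟩ := exists_ne (1 : Subgroup.center (P : Subgroup G))
  have hcc := Subgroup.mem_center_iff.1 c.2
  have hcz : (c.1 : G) ∈ Subgroup.centralizer ({z} : Set G) :=
    Subgroup.mem_centralizer_singleton_iff.2 (congrArg Subtype.val (hcc ⟨z, hzP (Subgroup.mem_zpowers z)⟩)).symm
  rw [hC] at hcz
  have hgen := CfsgLib.Perm.Small.zpowers_eq_of_mem (p := p) (H := Subgroup.zpowers z)
    (by rw [Nat.card_zpowers, hz]) hcz (fun h => hc (Subtype.ext (Subtype.ext h)))
  intro x hx
  rw [← hC, Subgroup.mem_centralizer_singleton_iff]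
  obtain ⟨k, hk⟩ : z ∈ Subgroup.zpowers (c.1 : G) := hgen.symm ▸ Subgroup.mem_zpowers z
  have hxc : Commute x (c.1 : G) := congrArg Subtype.val (hcc ⟨x, hx⟩)
  rw [← hk]
  exact (hxc.zpow_right k).eq

/-- The classification. -/
theorem classify (hperf : commutator G = ⊤) (p : ℕ) [Fact p.Prime] (z : G) (hz : orderOf z = p)
    (hC : Subgroup.centralizer ({z} : Set G) = Subgroup.zpowers z)
    (hn : 2 * Nat.card (Sylow p G) < (p + 1) * (p + 2)) : Concl p G := by
  classical
  haveI : Fintype G := Fintype.ofFinite G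
  have hp := (Fact.out : p.Prime)
  obtain ⟨P, hP⟩ := exists_sylow_eq hz hC
  have hPc : Nat.card (P : Subgroup G) = p := by rw [hP, Nat.card_zpowers, hz]
  obtain ⟨D, hD⟩ := exists_cycSetup (Q := Subgroup.zpowers z) (by rw [Nat.card_zpowers, hz])
    (not_sq_dvd_of_sylow hPc)
  let _ : Fintype D.K := Fintype.ofFinite _
  let _ : Fintype (norm D) := Fintype.ofFinite _
  have hidx : (norm D).index = Nat.card (Sylow p G) := by
    rw [Sylow.card_eq_index_normalizer P]
    show (Subgroup.normalizer (D.Q : Set G)).index = (Subgroup.normalizer ((P : Subgroup G) : Set G)).index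
    rw [hP, hD]
  obtain ⟨n, hnp⟩ : ∃ n, Nat.card (Sylow p G) = n * p + 1 := by
    have h1 := card_sylow_modEq_one p G
    refine ⟨Nat.card (Sylow p G) / p, ?_⟩
    have h2 : Nat.card (Sylow p G) % p = 1 := by
      rw [h1, Nat.mod_eq_of_lt hp.one_lt]
    conv_lhs => rw [← Nat.div_add_mod (Nat.card (Sylow p G)) p, h2, mul_comm]
  obtain ⟨e, he⟩ : p ∣ Nat.card (norm D) := by
    conv_lhs => rw [← D.hQ]
    exact Subgroup.card_dvd_of_le D.Q.le_normalizer
  have h : Small D n e :=
    ⟨by rw [hD, centralizer_zpowers, hC], by rw [he, mul_comm], by rw [hidx, hnp]⟩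
  refine h.classify hperf ?_
  rw [hnp] at hn
  by_contra hlt
  have : (p + 3) * p ≤ 2 * n * p := Nat.mul_le_mul_right p (by omega)
  nlinarith

end CfsgLib.Char.FewSylow
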