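import Cfsg.Agent.Lib.Char.FewSylow.Section
import Cfsg.Agent.Lib.Char.FewSylow.Reduce

/-!
# Groups of order less than the cube of a prime divisor
-/

set_option autoImplicit false
set_option linter.unusedSectionVars false
set_option linter.style.haveILetI false

namespace CfsgLib.Char.FewSylow

open Cfsg CfsgLib.Char CfsgLib.Block CfsgLib.Block.Cyclic MulAction

universe u

variable {p : ℕ} [Fact p.Prime] {G : Type u} [Group G] [Fintype G] [DecidableEq G]

theorem hlin_of_perfect (hperf : commutator G = ⊤) {f : IrrCharacter G} (hf : deg f = 1) :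
    f = Block.oneChar G := by
  have h1 : (f : G → ℂ) 1 = 1 := by rw [val_one, hf, Nat.cast_one]
  obtain ⟨φ, hφ⟩ := exists_hom_of_linear (isCharacter_irr f) h1
  have hker : commutator G ≤ φ.ker := Abelianization.commutator_subset_ker φ
  rw [hperf, top_le_iff] at hker
  refine Subtype.ext (funext fun g => ?_)
  have hg : g ∈ φ.ker := hker ▸ Subgroup.mem_top g
  rw [hφ]
  show ((φ g : ℂˣ) : ℂ) = 1
  rw [MonoidHom.mem_ker.1 hg, Units.val_one]

/-- The arithmetic for the minus sign. -/
theorem minus_small {E n p u v : ℤ} (hE : 1 ≤ E) (hE2 : 2 * E ≤ p - 1) (hEn : E * n ≤ p - 1)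
    (hn : 0 ≤ n) (hu : 1 ≤ u) (hv : 0 < v) (hp : 3 ≤ p) (h : E * (n * p + 1) = (u * p - 1) * v) :
    u = 1 := by
  obtain ⟨w, hw⟩ : ∃ w, w = u * v - E * n := ⟨_, rfl⟩
  have hv' : v = w * p - E := by linear_combination h - p * hw
  have hw1 : 1 ≤ w := by
    by_contra hneg
    have : w * p ≤ 0 := mul_nonpos_of_nonpos_of_nonneg (by omega) (by omega)
    omega
  have key : E * (n + u) = w * (u * p - 1) := by
    rw [hv'] at hw
    linear_combination hw
  by_contra hne
  have h2 : 2 ≤ u := by omega
  have hup : 0 ≤ u * p - 1 := by nlinarith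
  have h3 : u * p - 1 ≤ w * (u * p - 1) := le_mul_of_one_le_left hup hw1
  have h4 : 2 * (E * u) ≤ (p - 1) * u := by
    rw [← mul_assoc]; exact mul_le_mul_of_nonneg_right hE2 (by omega)
  nlinarith

/-- The arithmetic for the plus sign. -/
theorem plus_small {E n p u v : ℤ} (hE : 1 ≤ E) (hE2 : 2 * E ≤ p - 1) (hEn : E * n ≤ p - 1)
    (hu : 1 ≤ u) (hv : 0 < v) (h : E * (n * p + 1) = (u * p + 1) * v) : u = n := by
  obtain ⟨w, hw⟩ : ∃ w, w = E * n - u * v := ⟨_, rfl⟩
  have hv' : v = E + w * p := by linear_combination (-1 : ℤ) * h - p * hw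
  have hw0 : 0 ≤ w := by
    by_contra hneg
    have : w * p ≤ -1 * p := mul_le_mul_of_nonneg_right (by omega) (by omega)
    omega
  have key : E * (n - u) = w * (u * p + 1) := by
    rw [hv'] at hw
    linear_combination -hw
  rcases eq_or_lt_of_le hw0 with hw1 | hw1
  · rw [← hw1, zero_mul, mul_eq_zero] at key
    omega
  · exfalso
    have hup : 0 ≤ u * p + 1 := by nlinarith
    have h3 : u * p + 1 ≤ w * (u * p + 1) := le_mul_of_one_le_left hup hw1
    nlinarith

/-- A character of degree `p - 1` that is constant on the regular part of the centralizer. -/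
theorem exists_constant_regular (hperf : commutator G = ⊤) (D : CycSetup p G) [Fintype D.K]
    (htriv : ∀ y, (D.φ : D.K → ℂ) y = 1) {E n : ℕ} (hN : Nat.card (norm D) = E * p)
    (hidx : (norm D).index = n * p + 1) (hEn : E * n < p) (hn : 2 ≤ n)
    (he : 2 ≤ Nat.card D.expE) :
    ∃ f : IrrCharacter G, deg f = p - 1 ∧ D.dval (f : G → ℂ) 1 = -1 ∧ f ≠ Block.oneChar G ∧
      ∀ y : D.K, (f : G → ℂ) (y : G) = deg f := by
  classical
  have hp : p.Prime := Fact.out
  have := Fintype.ofFinite (IrrCharacter G)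
  obtain ⟨M, hM⟩ := CfsgLib.Block.exists_pModular hp
  have := hM.2.1
  let _ : Fintype (Subgroup.centralizer (D.Q : Set G)) := Fintype.ofFinite _
  have hcard : Nat.card D.Q = p ^ (Nat.card G).factorization p := by
    rw [factorization_eq_one D.dvd_card D.hsq, pow_one, D.hQ]
  have hBD := D.blockData_principal hM (P := Sylow.ofCard D.Q hcard) rfl htriv
  obtain ⟨X⟩ := D.exists_exceptional_family hM hBD
  have hE0 : 1 ≤ E := Nat.pos_of_ne_zero fun h0 => Nat.card_pos.ne' (by rw [hN, h0, zero_mul])
  have hE2 : 2 * E < p := lt_of_le_of_lt (by rw [mul_comm]; exact Nat.mul_le_mul_left E hn) hEn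
  have hp3 : 3 ≤ p := by omega
  set one := Block.oneChar G with hone
  have h1B : one ∈ principalBlock M G := one_mem_principalBlock
  have hcof : ∀ f : IrrCharacter G, ¬ p ∣ deg f →
      ∃ v : ℤ, 0 < v ∧ (E : ℤ) * (n * p + 1) = deg f * v := by
    intro f hf
    have h1 : deg f ∣ E * (n * p + 1) * p := by
      have h2 : E * (n * p + 1) * p = Nat.card G := by
        rw [← (norm D).card_mul_index, hN, hidx]; ring
      rw [h2]
      exact charDegree_dvd f
    obtain ⟨v, hv⟩ := (Nat.Coprime.symm (hp.coprime_iff_not_dvd.mpr hf)).dvd_of_dvd_mul_right h1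
    refine ⟨v, ?_, by exact_mod_cast hv⟩
    have : 0 < E * (n * p + 1) := Nat.mul_pos hE0 (Nat.succ_pos _)
    rw [hv] at this
    exact_mod_cast Nat.pos_of_mul_pos_left this
  have hunits : (Fintype.card (ZMod p)ˣ : ℤ) = p - 1 := by
    rw [ZMod.card_units_eq_totient, Nat.totient_prime hp, Nat.cast_sub hp.one_lt.le, Nat.cast_one]
  have hZ : ∀ f, X.u f = 1 → deg f = p - 1 ∧ D.multN f 0 = 0 := by
    intro f hu
    have hmem : f ∈ principalBlock M G := X.mem_of_u (by rw [hu]; decide)
    have hS : ∑ j : (ZMod p)ˣ, D.vec f j = (p : ℤ) - 1 := by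
      rw [Finset.sum_congr rfl fun j _ => X.vec_of_u (by rw [hu]; decide) j, Finset.sum_const,
        Finset.card_univ, nsmul_eq_mul, hu, mul_one, hunits]
    obtain ⟨m, hm⟩ := deg_section D hBD htriv hmem
    rw [hS] at hm
    have hd' : (deg f : ℤ) = ((m : ℤ) + 1) * p - 1 := by rw [hm]; ring
    have hnd : ¬ p ∣ deg f := fun hdv => by
      have h2 : (p : ℤ) ∣ ((m : ℤ) + 1) * p - 1 := hd' ▸ Int.natCast_dvd_natCast.mpr hdv
      have h3 := dvd_sub (dvd_mul_left (p : ℤ) ((m : ℤ) + 1)) h2
      rw [sub_sub_cancel, ← Nat.cast_one, Int.natCast_dvd_natCast] at h3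
      exact hp.one_lt.ne' (Nat.dvd_one.mp h3)
    obtain ⟨v, hv0, hve⟩ := hcof f hnd
    rw [hd'] at hve
    have h1 := minus_small (p := (p : ℤ)) (n := (n : ℤ)) (by exact_mod_cast hE0) (by omega)
      (by have : ((E * n : ℕ) : ℤ) < p := by exact_mod_cast hEn
          push_cast at this; omega)
      (Int.natCast_nonneg n) (by omega) hv0 (by omega) hve
    have hm0 : m = 0 := by omega
    have hd : deg f = p - 1 := by rw [h1] at hd'; omega
    refine ⟨hd, ?_⟩
    have h4 := sum_multN D f
    rw [hS] at h4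
    obtain ⟨m', hm'⟩ := D.deg_eq hBD hmem
    have hφ1 : charDegree (D.φ : D.K → ℂ) = 1 := by
      have := (charDegree_eq D.φ).1
      rw [htriv] at this
      exact_mod_cast this.symm
    rw [D.stab_eq_normalizer htriv, Subgroup.relIndex_self, hφ1, one_mul, one_mul] at hm'
    change deg f = _ at hm'
    by_contra hne
    have h5 : p ≤ p * D.multN f 0 := Nat.le_mul_of_pos_right _ (Nat.pos_of_ne_zero hne)
    omega
  have hC : ∀ f, f ≠ one → X.u f = -1 → deg f = n * p + 1 := by
    intro f hf hu
    have hS : ∑ j : (ZMod p)ˣ, D.vec f j = -((p : ℤ) - 1) := by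
      rw [Finset.sum_congr rfl fun j _ => X.vec_of_u (by rw [hu]; decide) j, Finset.sum_const,
        Finset.card_univ, nsmul_eq_mul, hu, hunits]
      ring
    obtain ⟨m, hm⟩ := deg_section D hBD htriv (X.mem_of_u (by rw [hu]; decide))
    rw [hS] at hm
    have hd' : (deg f : ℤ) = ((m : ℤ) - 1) * p + 1 := by rw [hm]; ring
    have hnd : ¬ p ∣ deg f := fun hdv => by
      have h2 : (p : ℤ) ∣ ((m : ℤ) - 1) * p + 1 := hd' ▸ Int.natCast_dvd_natCast.mpr hdv
      rw [Int.dvd_add_right ⟨_, mul_comm _ _⟩, ← Nat.cast_one, Int.natCast_dvd_natCast] at h2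
      exact hp.one_lt.ne' (Nat.dvd_one.mp h2)
    have hd1 : deg f ≠ 1 := fun h1 => hf (hlin_of_perfect hperf h1)
    have hu1 : (1 : ℤ) ≤ (m : ℤ) - 1 := by
      by_contra hneg
      have : ((m : ℤ) - 1) * p ≤ 0 := mul_nonpos_of_nonpos_of_nonneg (by omega) (by omega)
      have := deg_pos f
      omega
    obtain ⟨v, hv0, hve⟩ := hcof f hnd
    rw [hd'] at hve
    have h1 := plus_small (p := (p : ℤ)) (n := (n : ℤ)) (by exact_mod_cast hE0) (by omega)
      (by have : ((E * n : ℕ) : ℤ) < p := by exact_mod_cast hEn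
          push_cast at this; omega) hu1 hv0 hve
    rw [h1] at hd'
    exact_mod_cast hd'
  obtain ⟨f, hfu⟩ : ∃ f, X.u f = 1 := by
    by_contra hall
    push Not at hall
    have hcu : (Finset.univ.filter fun f => X.u f ≠ 0).card = Nat.card D.expE := by
      rw [← Fintype.card_subtype, ← Nat.card_eq_fintype_card, X.card_u]
    obtain ⟨k⟩ : Nonempty ((ZMod p)ˣ ⧸ D.expE) := inferInstance
    obtain ⟨j, rfl⟩ := QuotientGroup.mk_surjective k
    have hrel := D.sum_vec_regular (j : ZMod p) (g := 1) (by simp [hp.ne_one])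
    simp only [val_one, X.vec_eq] at hrel
    have hrel' : ∑ f : IrrCharacter G, (X.u f + X.δ * (if f = X.Y j then 1 else 0)) * (deg f : ℤ) = 0 := by
      exact_mod_cast hrel
    rw [Finset.sum_congr rfl (g := fun f => X.u f * (deg f : ℤ) +
      (if f = X.Y j then X.δ * deg (X.Y j) else 0)) fun f _ => by
        split_ifs with hf
        · subst hf; ring
        · ring, Finset.sum_add_distrib, Finset.sum_ite_eq', if_pos (Finset.mem_univ _)] at hrel'
    have hDpos := deg_pos (X.Y j)
    by_cases hu1 : X.u one = 0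
    · -- the trivial character would be exceptional of sign `-1`
      obtain ⟨k1, hk1⟩ := ((X.mem one).mp h1B).resolve_left (fun hne => hne hu1)
      have hlow : ∀ f, X.u f * (deg f : ℤ) ≤ 0 := fun f => by
        rcases X.u_cases f with hz | hz | hz
        · simp [hz]
        · exact absurd hz (hall f)
        · rw [hz]; have := deg_pos f; omega
      obtain ⟨f0, hf0⟩ : ∃ f0, X.u f0 ≠ 0 := by
        by_contra hnone
        push Not at hnone
        rw [Finset.filter_false_of_mem (fun f _ => not_not.mpr (hnone f)), Finset.card_empty] at hcu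
        omega
      have hu0 : X.u f0 = -1 := ((X.u_cases f0).resolve_left hf0).resolve_left (hall f0)
      have hf1 : f0 ≠ one := fun h1 => hf0 (h1 ▸ hu1)
      have hd0 := hC f0 hf1 hu0
      have hone1 : deg (X.Y j) = 1 := by
        have h2 := X.regular_eq k1 (j : (ZMod p)ˣ ⧸ D.expE) 1 (by simp [hp.ne_one])
        rw [hk1, val_one, val_one, deg_one] at h2
        exact_mod_cast h2.symm
      have hsum : ∑ f : IrrCharacter G, X.u f * (deg f : ℤ) ≤ X.u f0 * (deg f0 : ℤ) := by
        rw [← Finset.add_sum_erase _ _ (Finset.mem_univ f0)]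
        linarith [Finset.sum_nonpos (fun f (_ : f ∈ Finset.univ.erase f0) => hlow f)]
      rw [hu0, hd0] at hsum
      rw [hone1] at hrel'
      have h4 : p ≤ n * p := Nat.le_mul_of_pos_left _ (by omega)
      push_cast at hsum hrel'
      rcases X.sign with hd | hd <;> rw [hd] at hrel' <;> nlinarith
    · have hu1' : X.u one = -1 := ((X.u_cases one).resolve_left hu1).resolve_left (hall one)
      have hterm : ∀ f : IrrCharacter G, X.u f * (deg f : ℤ) =
          (if f = one then (n : ℤ) * p else 0) + (if X.u f ≠ 0 then -((n : ℤ) * p + 1) else 0) := by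
        intro f
        by_cases hf1 : f = one
        · rw [if_pos hf1, hf1, if_pos hu1, hu1', hone, deg_one]; push_cast; ring
        rw [if_neg hf1, zero_add]
        by_cases hz : X.u f = 0
        · simp [hz]
        · have hu0 : X.u f = -1 := ((X.u_cases f).resolve_left hz).resolve_left (hall f)
          rw [if_pos hz, hu0, hC f hf1 hu0]
          push_cast; ring
      rw [Finset.sum_congr rfl fun f _ => hterm f, Finset.sum_add_distrib, Finset.sum_ite_eq',
        if_pos (Finset.mem_univ _), ← Finset.sum_filter, Finset.sum_const, nsmul_eq_mul, hcu] at hrel'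
      set e := Nat.card D.expE
      have hbig : (n : ℤ) * p + 2 ≤ X.δ * deg (X.Y j) := by
        have : (2 : ℤ) * ((n : ℤ) * p + 1) ≤ (e : ℤ) * ((n : ℤ) * p + 1) :=
          mul_le_mul_of_nonneg_right (by exact_mod_cast he) (by positivity)
        linarith
      rcases X.sign with hd | hd <;> rw [hd] at hrel' hbig
      · set d := deg (X.Y j)
        rw [one_mul] at hrel' hbig
        have hdeq : (d : ℤ) = ((e : ℤ) - 1) * ((n : ℤ) * p + 1) + 1 := by linarith
        have hcop : IsCoprime ((n : ℤ) * p + 1) (d : ℤ) := ⟨-((e : ℤ) - 1), 1, by rw [hdeq]; ring⟩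
        have hpd : ¬ p ∣ d := fun hdv => by
          have h2 : (p : ℤ) ∣ (e : ℤ) := by
            have h3 := Int.natCast_dvd_natCast.mpr hdv
            rw [hdeq, show ((e : ℤ) - 1) * ((n : ℤ) * p + 1) + 1 = (e : ℤ) + p * (((e : ℤ) - 1) * n) by ring,
              Int.dvd_add_left (dvd_mul_right _ _)] at h3
            exact h3
          have h3 : e ∣ p - 1 := by
            rw [← Nat.totient_prime hp, ← ZMod.card_units_eq_totient p, ← Nat.card_eq_fintype_card]
            exact Subgroup.card_subgroup_dvd_card _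
          have h4 := Nat.le_of_dvd (by omega) h3
          have h5 := Nat.le_of_dvd (by omega) (Int.natCast_dvd_natCast.mp h2)
          omega
        obtain ⟨v, hv0, hve⟩ := hcof _ hpd
        have h4 : (d : ℤ) ∣ E := hcop.symm.dvd_of_dvd_mul_right ⟨v, hve⟩
        have h5 := Nat.le_of_dvd hE0 (Int.natCast_dvd_natCast.mp h4)
        have h6 : (p : ℤ) ≤ (n : ℤ) * p := le_mul_of_one_le_left (by positivity) (by omega)
        omega
      · have : (0 : ℤ) < (n : ℤ) * p + 2 := by positivity
        omega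
  obtain ⟨hd, hf0⟩ := hZ f hfu
  have hne : f ≠ one := fun h1 => by rw [h1, deg_one] at hd; omega
  refine ⟨f, hd, ?_, hne,
    fun y => value_regular D hBD htriv (X.mem_of_u (by rw [hfu]; decide)) ?_ y⟩
  · rw [X.dval_of_u (by rw [hfu]; decide) one_ne_zero, hfu, Int.cast_one]
  rw [sum_multN, hf0, Finset.sum_congr rfl fun j _ => X.vec_of_u (by rw [hfu]; decide) j, Finset.sum_const,
    Finset.card_univ, nsmul_eq_mul, hfu, hunits, hd]
  omega

/-- The regular part of the centralizer is trivial. -/
theorem regular_eq_one [IsSimpleGroup G] (hperf : commutator G = ⊤) (D : CycSetup p G) [Fintype D.K]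
    (htriv : ∀ y, (D.φ : D.K → ℂ) y = 1) {E n : ℕ} (hN : Nat.card (norm D) = E * p)
    (hidx : (norm D).index = n * p + 1) (hEn : E * n < p) (hn : 2 ≤ n)
    (he : 2 ≤ Nat.card D.expE) (y : D.K) : (y : G) = 1 := by
  obtain ⟨f, -, -, hne, hf⟩ := exists_constant_regular hperf D htriv hN hidx hEn hn he
  exact eq_one_of_value_eq_deg hne (hf y)

end CfsgLib.Char.FewSylow
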