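import Mathlib.GroupTheory.Abelianization.Defs
import Cfsg.Agent.Lib.Perm.Dickson.Embed
import Mathlib.FieldTheory.Finite.Basic

/-!
# The projective general linear group over `ZMod p` is not perfect
-/

set_option autoImplicit false
set_option linter.style.haveILetI false

open scoped commutatorElement

namespace CfsgLib.Char.FewSylow

open CfsgLib.Perm.Dickson

variable {p : ℕ} [Fact p.Prime]

/-- For odd `p`. -/
theorem not_perfect_pgl (hp : p ≠ 2) : commutator (Matrix.ProjGenLinGroup (Fin 2) (ZMod p)) ≠ ⊤ := by
  intro htop
  have hle : commutator (Matrix.ProjGenLinGroup (Fin 2) (ZMod p)) ≤ psl (ZMod p) := by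
    rw [commutator_def, Subgroup.commutator_le]
    intro g _ h _
    cases g using Matrix.ProjGenLinGroup.induction_on with
    | mk A =>
      cases h using Matrix.ProjGenLinGroup.induction_on with
      | mk B =>
        rw [← map_commutatorElement, mk_mem_psl_iff]
        have h1 : Matrix.GeneralLinearGroup.det ⁅A, B⁆ = 1 := by
          rw [map_commutatorElement, commutatorElement_eq_one_iff_mul_comm, mul_comm]
        have h2 : (⁅A, B⁆).1.det = 1 := congrArg Units.val h1
        rw [h2]
        exact IsSquare.one
  rw [htop] at hle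
  have hch : ringChar (ZMod p) ≠ 2 := by rwa [ZMod.ringChar_zmod_n]
  obtain ⟨a, ha⟩ := FiniteField.exists_nonsquare hch
  have ha0 : a ≠ 0 := fun h => ha (h ▸ IsSquare.zero)
  exact ha ((di_mem_psl_iff (Units.mk0 a ha0)).mp (hle (Subgroup.mem_top _)))

end CfsgLib.Char.FewSylow
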