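import Cfsg.Agent.Lib.Char.FewSylow.LargePrime
import Cfsg.Agent.Lib.Char.FewSylow.NotPerfect

/-!
# A simple group with a prime divisor whose cube exceeds the order
-/

set_option autoImplicit false
set_option linter.unusedSectionVars false
set_option linter.style.haveILetI false

namespace CfsgLib.Char.FewSylow

open scoped commutatorElement

open Cfsg CfsgLib.Char CfsgLib.Block CfsgLib.Block.Cyclic MulAction

universe u

variable {G : Type u} [Group G] [Finite G] [IsSimpleGroup G]

theorem perfect_of_simple (hG : ¬ IsCyclic G) : commutator G = ⊤ := by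
  refine (Subgroup.Normal.eq_bot_or_eq_top (inferInstance : (commutator G).Normal)).resolve_left fun hb => hG ?_
  have hc : ∀ a b : G, a * b = b * a := fun a b => by
    have hm : ⁅a, b⁆ ∈ commutator G := Subgroup.commutator_mem_commutator (Subgroup.mem_top a) (Subgroup.mem_top b)
    rw [hb, Subgroup.mem_bot] at hm
    exact commutatorElement_eq_one_iff_mul_comm.mp hm
  let _ : CommGroup G := { (inferInstance : Group G) with mul_comm := hc }
  exact inferInstance

omit [IsSimpleGroup G] in
/-- A commutative Sylow subgroup is not central in its normalizer. -/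
theorem not_normalizer_le_centralizer (hperf : commutator G = ⊤) {p : ℕ} [Fact p.Prime] (P : Sylow p G)
    (hP : Nat.card (P : Subgroup G) = p) :
    ¬ Subgroup.normalizer ((P : Subgroup G) : Set G) ≤ Subgroup.centralizer ((P : Subgroup G) : Set G) := by
  intro hle
  haveI : IsCyclic (P : Subgroup G) := isCyclic_of_prime_card hP
  haveI : IsMulCommutative (P : Subgroup G) := ⟨⟨fun a b => IsCyclic.commGroup.mul_comm a b⟩⟩
  have hcompl := MonoidHom.ker_transferSylow_isComplement' P hle
  have hker : commutator G ≤ (MonoidHom.transferSylow P hle).ker := by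
    rw [commutator_def, Subgroup.commutator_le]
    intro a _ b _
    rw [MonoidHom.mem_ker, map_commutatorElement, commutatorElement_eq_one_iff_mul_comm]
    exact mul_comm' _ _
  rw [hperf, top_le_iff] at hker
  rw [hker, Subgroup.isComplement'_top_left] at hcompl
  rw [hcompl, Subgroup.card_bot] at hP
  exact (Fact.out : p.Prime).ne_one hP.symm

omit [IsSimpleGroup G] in
/-- A perfect group with `p + 1` Sylow subgroups of order `p` on which it is faithful. -/
theorem psl_of_succ_faithful (hperf : commutator G = ⊤) {p E : ℕ} [Fact p.Prime] (N : Subgroup G)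
    (hidx : N.index = p + 1) (hN : Nat.card N = E * p) (hE : E < p) (hE2 : 2 ≤ E)
    (hfaith : Function.Injective (MulAction.toPermHom G (G ⧸ N))) : Concl p G := by
  classical
  have hp : p.Prime := Fact.out
  haveI : Fintype (G ⧸ N) := Fintype.ofFinite _
  have hX : Fintype.card (G ⧸ N) = p + 1 := by
    rw [← Nat.card_eq_fintype_card, ← Subgroup.index_eq_card, hidx]
  set π := MulAction.toPermHom G (G ⧸ N) with hπ
  have hinj : Function.Injective π := hfaith
  let eπ := MonoidHom.ofInjective hinj
  haveI : IsPretransitive π.range (G ⧸ N) := by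
    refine ⟨fun x y => ?_⟩
    obtain ⟨g, hg⟩ := MulAction.exists_smul_eq G x y
    exact ⟨⟨π g, g, rfl⟩, by simpa [hπ, Subgroup.smul_def] using hg⟩
  have hcard : Nat.card π.range = (p + 1) * p * E := by
    rw [← Nat.card_congr eπ.toEquiv, ← N.card_mul_index, hidx, hN]; ring
  rcases Cfsg.Agent.S0732.result hp hX π.range hcard hE with ⟨hd, ⟨i⟩⟩ | ⟨hd, ⟨i⟩⟩ |
    ⟨q, hq, -, -, ε, hε⟩
  · -- the projective general linear group is not perfect
    exfalso
    obtain ⟨b, hb⟩ : ∃ b, p - 1 = 2 * b := by
      obtain ⟨c, hc⟩ := hp.odd_of_ne_two (by omega)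
      exact ⟨c, by omega⟩
    have hF : Fintype.card (ZMod p) = p := ZMod.card p
    let j := eπ.trans i
    have hno := CfsgLib.Char.FewSylow.not_perfect_pgl (p := p) (by omega)
    exact hno (by
      have h1 := congrArg (Subgroup.map j.toMonoidHom) hperf
      rw [commutator_def, Subgroup.map_commutator, Subgroup.map_top_of_surjective _ j.surjective,
        ← commutator_def] at h1
      exact h1)
  · exact Or.inl ⟨ZMod p, inferInstance, inferInstance, ZMod.card p, by omega, ⟨eπ.trans i⟩⟩
  · exfalso
    let ρ : G →* Equiv.Perm (GaloisField 2 q) := ε.permCongrHom.toMonoidHom.comp π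
    haveI : Fact (Nat.Prime 2) := ⟨Nat.prime_two⟩
    haveI : Finite (GaloisField 2 q) := Finite.of_equiv _ ε
    haveI : Nontrivial G := by
      rw [← Finite.one_lt_card_iff_nontrivial, ← N.card_mul_index, hidx]
      exact lt_of_lt_of_le (show 1 < p + 1 by omega) (Nat.le_mul_of_pos_left _ Nat.card_pos)
    obtain ⟨g, hg⟩ := exists_ne (1 : G)
    exact hg (subsingleton_of_semiaffine hperf ρ
      (ε.permCongrHom.injective.comp hinj) (fun g => hε ⟨π g, g, rfl⟩) g)

/-- A simple group with `p + 1` Sylow subgroups of order `p`. -/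
theorem psl_of_succ (hperf : commutator G = ⊤) {p E : ℕ} [Fact p.Prime] (N : Subgroup G)
    (hidx : N.index = p + 1) (hN : Nat.card N = E * p) (hE : E < p) (hE2 : 2 ≤ E) : Concl p G := by
  classical
  have hp : p.Prime := Fact.out
  haveI : Fintype (G ⧸ N) := Fintype.ofFinite _
  have hX : Fintype.card (G ⧸ N) = p + 1 := by
    rw [← Nat.card_eq_fintype_card, ← Subgroup.index_eq_card, hidx]
  refine psl_of_succ_faithful hperf N hidx hN hE hE2 ?_
  set π := MulAction.toPermHom G (G ⧸ N) with hπ
  show Function.Injective π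
  rw [← MonoidHom.ker_eq_bot_iff]
  refine (Subgroup.Normal.eq_bot_or_eq_top (inferInstance : π.ker.Normal)).resolve_right fun htop => ?_
  have hall : ∀ g : G, g ∈ N := fun g => by
    have h1 : π g = 1 := MonoidHom.mem_ker.mp (htop ▸ Subgroup.mem_top g)
    have h2 := congrArg (fun σ : Equiv.Perm (G ⧸ N) => σ ((1 : G) : G ⧸ N)) h1
    simp only [hπ, MulAction.toPermHom_apply, MulAction.toPerm_apply, Equiv.Perm.coe_one, id_eq] at h2
    rw [← mem_stabilizer_iff, MulAction.stabilizer_quotient] at h2
    exact h2
  rw [(Subgroup.eq_top_iff' N).mpr hall, Subgroup.index_top] at hidx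
  omega

/-- The classification. -/
theorem classify_large (hG : ¬ IsCyclic G) (p : ℕ) [Fact p.Prime] (hdvd : p ∣ Nat.card G)
    (hbig : Nat.card G < p ^ 3) : Concl p G := by
  classical
  haveI : Fintype G := Fintype.ofFinite G
  have hp : p.Prime := Fact.out
  have hperf := perfect_of_simple hG
  let P : Sylow p G := default
  have hPne : (P : Subgroup G) ≠ ⊤ := fun htop => by
    have hpg : IsPGroup p G := fun g => by
      obtain ⟨k, hk⟩ := P.isPGroup' ⟨g, htop ▸ Subgroup.mem_top g⟩
      exact ⟨k, congrArg Subtype.val hk⟩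
    haveI : Nontrivial (Subgroup.center G) := hpg.center_nontrivial
    rcases Subgroup.Normal.eq_bot_or_eq_top (inferInstance : (Subgroup.center G).Normal) with hb | ht
    · exact (Subgroup.nontrivial_iff_ne_bot _).mp inferInstance hb
    · refine hG ?_
      let _ : CommGroup G :=
        { (inferInstance : Group G) with
          mul_comm := fun a b => (Subgroup.mem_center_iff.mp (ht ▸ Subgroup.mem_top b) a) }
      exact inferInstance
  have hnotnormal : Nat.card (Sylow p G) ≠ 1 := fun h1 => by
    haveI : Subsingleton (Sylow p G) := (Nat.card_eq_one_iff_unique.mp h1).1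
    have hn := Sylow.normal_of_subsingleton P
    rcases hn.eq_bot_or_eq_top with hb | ht
    · exact P.ne_bot_of_dvd_card hdvd hb
    · exact hPne ht
  have hmod : Nat.card (Sylow p G) % p = 1 := by
    rw [card_sylow_modEq_one p G, Nat.mod_eq_of_lt hp.one_lt]
  obtain ⟨n, hnp⟩ : ∃ n, Nat.card (Sylow p G) = n * p + 1 := ⟨Nat.card (Sylow p G) / p, by
    conv_lhs => rw [← Nat.div_add_mod (Nat.card (Sylow p G)) p, hmod, mul_comm]⟩
  have hn0 : 1 ≤ n := by
    by_contra hlt
    rw [show n = 0 by omega, zero_mul, zero_add] at hnp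
    exact hnotnormal hnp
  have hidx : (Subgroup.normalizer ((P : Subgroup G) : Set G)).index = n * p + 1 := by
    rw [← hnp]; exact (Sylow.card_eq_index_normalizer P).symm
  have hGc := (Subgroup.normalizer ((P : Subgroup G) : Set G)).card_mul_index
  rw [hidx] at hGc
  have hsq : ¬ p ^ 2 ∣ Nat.card G := by
    intro h2
    obtain ⟨k, hk⟩ := P.card_eq_multiplicity.symm ▸ (pow_dvd_pow p
      ((hp.pow_dvd_iff_le_factorization Nat.card_pos.ne').mp h2))
    have h3 : p ^ 2 ∣ Nat.card (Subgroup.normalizer ((P : Subgroup G) : Set G)) :=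
      (Dvd.intro k hk.symm).trans (Subgroup.card_dvd_of_le (Subgroup.le_normalizer))
    have h4 := Nat.le_of_dvd Nat.card_pos h3
    have h5 : p ^ 2 * (n * p + 1) ≤ Nat.card G := (Nat.mul_le_mul_right _ h4).trans (le_of_eq hGc)
    have h6 : p ≤ n * p := Nat.le_mul_of_pos_left _ hn0
    have h7 : p ^ 2 * p < p ^ 2 * (n * p + 1) :=
      Nat.mul_lt_mul_of_pos_left (by omega) (pow_pos hp.pos 2)
    have h8 : p ^ 2 * p = p ^ 3 := (pow_succ p 2).symm
    omega
  have hP : Nat.card (P : Subgroup G) = p := by
    rw [P.card_eq_multiplicity, factorization_eq_one hdvd hsq, pow_one]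
  obtain ⟨D, hD⟩ := exists_cycSetup (Q := (P : Subgroup G)) hP hsq
  let D' := D.withChar (Block.oneChar D.K)
  let _ : Fintype D'.K := Fintype.ofFinite _
  let _ : Fintype (norm D') := Fintype.ofFinite _
  have hD' : D'.Q = (P : Subgroup G) := hD
  obtain ⟨E, hE⟩ : p ∣ Nat.card (norm D') := by
    conv_lhs => rw [← D'.hQ]
    exact Subgroup.card_dvd_of_le D'.Q.le_normalizer
  have hN : Nat.card (norm D') = E * p := by rw [hE, mul_comm]
  have hidx' : (norm D').index = n * p + 1 := by rw [← hidx, norm, hD']
  have hGE : Nat.card G = E * p * (n * p + 1) := by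
    rw [← (norm D').card_mul_index, hN, hidx']
  have hE0 : 0 < E := Nat.pos_of_ne_zero fun h0 => Nat.card_pos.ne' (by rw [hN, h0, zero_mul])
  have hlt : E * (n * p + 1) < p * p := by
    have h1 : E * (n * p + 1) * p < p * p * p := by
      calc E * (n * p + 1) * p = Nat.card G := by rw [hGE]; ring
        _ < p ^ 3 := hbig
        _ = p * p * p := by ring
    exact Nat.lt_of_mul_lt_mul_right h1
  have hEn : E * n < p := by
    have h1 : E * n * p < p * p := by
      have : E * n * p ≤ E * (n * p + 1) := by rw [mul_assoc]; exact Nat.mul_le_mul_left E (Nat.le_succ _)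
      omega
    exact Nat.lt_of_mul_lt_mul_right h1
  have htriv : ∀ y, (D'.φ : D'.K → ℂ) y = 1 := fun _ => rfl
  have he : 2 ≤ Nat.card D'.expE := by
    by_contra hlt'
    have h1 : Nat.card D'.expE = 1 := by
      have := Nat.card_pos (α := D'.expE); omega
    rw [D'.card_expE, D'.stab_eq_normalizer htriv, Subgroup.relIndex_eq_one] at h1
    exact not_normalizer_le_centralizer hperf P hP (hD' ▸ h1)
  have hE2 : 2 ≤ E := by
    have h1 : Nat.card D'.expE * p ≤ E * p := by
      rw [← hN, D'.card_expE, D'.stab_eq_normalizer htriv]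
      have h2 := Subgroup.relIndex_mul_relIndex D'.Q (Subgroup.centralizer (D'.Q : Set G)) (norm D')
        (fun a ha => by
          obtain ⟨i, rfl⟩ := D'.exists_xp_eq ha
          exact (mem_centralizer_iff_commute D'.hQ D'.hx D'.hx1 _).mpr ((Commute.refl D'.x).pow_left _))
        (centralizer_le_normalizer' D'.Q)
      have h3 : D'.Q.relIndex (norm D') * p = Nat.card (norm D') := by
        have h4 := (D'.Q.subgroupOf (norm D')).card_mul_index
        rw [Nat.card_congr (Subgroup.subgroupOfEquivOfLe D'.Q.le_normalizer).toEquiv, D'.hQ, mul_comm] at h4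
        exact h4
      rw [← h3, ← h2]
      refine Nat.mul_le_mul_right p (Nat.le_mul_of_pos_left _ ?_)
      exact Nat.pos_of_ne_zero Subgroup.index_ne_zero_of_finite
    exact he.trans (Nat.le_of_mul_le_mul_right h1 hp.pos)
  rcases eq_or_lt_of_le hn0 with hn1 | hn2
  · subst hn1
    rw [one_mul] at hidx'
    exact psl_of_succ hperf (norm D') hidx' hN (by omega) hE2
  have hK : ∀ y : D'.K, (y : G) = 1 :=
    regular_eq_one hperf D' htriv hN hidx' hEn hn2 he
  have hcent : Subgroup.centralizer (D'.Q : Set G) = D'.Q := by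
    let _ : Fintype (Subgroup.centralizer (D'.Q : Set G)) := Fintype.ofFinite _
    refine le_antisymm (fun c hc => ?_) D'.Q_le_C
    obtain ⟨i, hi⟩ := D'.exists_xp_mul_proj ⟨c, hc⟩
    rw [hK, mul_one] at hi
    exact (show c = D'.xp i from hi) ▸ D'.xp_mem i
  have h : Small D' n E := ⟨hcent, hN, hidx'⟩
  refine h.classify hperf ?_
  have : 2 * n ≤ E * n := Nat.mul_le_mul_right n hE2
  omega

end CfsgLib.Char.FewSylow
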