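import Cfsg.Agent.Lib.Char.FewSylow.LargePrimeMain
import Cfsg.Agent.Lib.Char.SLTwoCusp
import Cfsg.Prelude.Def_Solvable
import Cfsg.Agent.Lib.Coprime.Core

/-!
# A perfect group with a prime divisor whose cube exceeds the order
-/

set_option autoImplicit false
set_option linter.unusedSectionVars false
set_option linter.style.haveILetI false

namespace CfsgLib.Char.FewSylow

open Cfsg CfsgLib.Char CfsgLib.Block CfsgLib.Block.Cyclic MulAction

universe u

variable {G : Type u} [Group G] [Finite G]

/-- A normal subgroup whose order is divisible by `p` contains every subgroup of order `p`, when `p` divides the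
group order once. -/
theorem le_of_normal_dvd {p : ℕ} [Fact p.Prime] (hsq : ¬ p ^ 2 ∣ Nat.card G) (K : Subgroup G) [K.Normal]
    (hK : p ∣ Nat.card K) (Q : Subgroup G) (hQ : Nat.card Q = p) : Q ≤ K := by
  classical
  haveI : Fintype G := Fintype.ofFinite G
  obtain ⟨c, hc⟩ := exists_prime_orderOf_dvd_card' (G := K) p hK
  have hdvd : p ∣ Nat.card G := hQ ▸ Subgroup.card_subgroup_dvd_card Q
  have hf := factorization_eq_one hdvd hsq
  let S := Sylow.ofCard (p := p) (Subgroup.zpowers (c : G))
    (by rw [hf, pow_one, Nat.card_zpowers, Subgroup.orderOf_coe, hc])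
  let T := Sylow.ofCard (p := p) Q (by rw [hf, pow_one, hQ])
  obtain ⟨g, hg⟩ := MulAction.exists_smul_eq G S T
  intro q hq
  have h1 : q ∈ ((g • S : Sylow p G) : Subgroup G) := by rw [hg]; exact hq
  rw [Sylow.coe_subgroup_smul, Subgroup.mem_pointwise_smul_iff_inv_smul_mem] at h1
  obtain ⟨k, hk⟩ := Subgroup.mem_zpowers_iff.1 h1
  have h2 : (MulAut.conj g)⁻¹ • q ∈ K := hk ▸ K.zpow_mem c.2 k
  have h3 : g * ((MulAut.conj g)⁻¹ • q) * g⁻¹ ∈ K := (inferInstance : K.Normal).conj_mem _ h2 g
  simpa [MulAut.smul_def, mul_assoc] using h3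

/-- The classification when there is no normal subgroup of order prime to `p`. -/
theorem classify_core_free (hperf : commutator G = ⊤) (p : ℕ) [Fact p.Prime] (P : Sylow p G)
    (hPn : ¬ (P : Subgroup G).Normal) (hP : Nat.card (P : Subgroup G) = p) (hsq : ¬ p ^ 2 ∣ Nat.card G)
    (hcore : ∀ K : Subgroup G, K.Normal → ¬ p ∣ Nat.card K → K = ⊥) (hbig : Nat.card G < p ^ 3) :
    Concl p G := by
  classical
  haveI : Fintype G := Fintype.ofFinite G
  have hp : p.Prime := Fact.out
  have hmod : Nat.card (Sylow p G) % p = 1 := by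
    rw [card_sylow_modEq_one p G, Nat.mod_eq_of_lt hp.one_lt]
  obtain ⟨n, hnp⟩ : ∃ n, Nat.card (Sylow p G) = n * p + 1 := ⟨Nat.card (Sylow p G) / p, by
    conv_lhs => rw [← Nat.div_add_mod (Nat.card (Sylow p G)) p, hmod, mul_comm]⟩
  have hn0 : 1 ≤ n := by
    by_contra hlt
    rw [show n = 0 by omega, zero_mul, zero_add] at hnp
    haveI : Subsingleton (Sylow p G) := (Nat.card_eq_one_iff_unique.mp hnp).1
    exact hPn (Sylow.normal_of_subsingleton P)
  have hidx : (Subgroup.normalizer ((P : Subgroup G) : Set G)).index = n * p + 1 := by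
    rw [← hnp]; exact (Sylow.card_eq_index_normalizer P).symm
  obtain ⟨D, hD⟩ := exists_cycSetup (Q := (P : Subgroup G)) hP hsq
  let D' := D.withChar (Block.oneChar D.K)
  let _ : Fintype D'.K := Fintype.ofFinite _
  let _ : Fintype (norm D') := Fintype.ofFinite _
  have hD' : D'.Q = (P : Subgroup G) := hD
  obtain ⟨E, hE⟩ : p ∣ Nat.card (norm D') := by
    conv_lhs => rw [← D'.hQ]
    exact Subgroup.card_dvd_of_le D'.Q.le_normalizer
  have hN : Nat.card (norm D') = E * p := by rw [hE, mul_comm]
  have hidx' : (norm D').index = n * p + 1 := by rw [← hidx, norm, hD']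
  have hGE : Nat.card G = E * p * (n * p + 1) := by
    rw [← (norm D').card_mul_index, hN, hidx']
  have hlt : E * (n * p + 1) < p * p := by
    have h1 : E * (n * p + 1) * p < p * p * p := by
      calc E * (n * p + 1) * p = Nat.card G := by rw [hGE]; ring
        _ < p ^ 3 := hbig
        _ = p * p * p := by ring
    exact Nat.lt_of_mul_lt_mul_right h1
  have hEn : E * n < p := by
    have h1 : E * n * p < p * p := by
      have : E * n * p ≤ E * (n * p + 1) := by rw [mul_assoc]; exact Nat.mul_le_mul_left E (Nat.le_succ _)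
      omega
    exact Nat.lt_of_mul_lt_mul_right h1
  have htriv : ∀ y, (D'.φ : D'.K → ℂ) y = 1 := fun _ => rfl
  have he : 2 ≤ Nat.card D'.expE := by
    by_contra hlt'
    have h1 : Nat.card D'.expE = 1 := by
      have := Nat.card_pos (α := D'.expE); omega
    rw [D'.card_expE, D'.stab_eq_normalizer htriv, Subgroup.relIndex_eq_one] at h1
    exact not_normalizer_le_centralizer hperf P hP (hD' ▸ h1)
  have hE2 : 2 ≤ E := by
    have h1 : Nat.card D'.expE * p ≤ E * p := by
      rw [← hN, D'.card_expE, D'.stab_eq_normalizer htriv]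
      have h2 := Subgroup.relIndex_mul_relIndex D'.Q (Subgroup.centralizer (D'.Q : Set G)) (norm D')
        (fun a ha => by
          obtain ⟨i, rfl⟩ := D'.exists_xp_eq ha
          exact (mem_centralizer_iff_commute D'.hQ D'.hx D'.hx1 _).mpr ((Commute.refl D'.x).pow_left _))
        (centralizer_le_normalizer' D'.Q)
      have h3 : D'.Q.relIndex (norm D') * p = Nat.card (norm D') := by
        have h4 := (D'.Q.subgroupOf (norm D')).card_mul_index
        rw [Nat.card_congr (Subgroup.subgroupOfEquivOfLe D'.Q.le_normalizer).toEquiv, D'.hQ, mul_comm] at h4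
        exact h4
      rw [← h3, ← h2]
      refine Nat.mul_le_mul_right p (Nat.le_mul_of_pos_left _ ?_)
      exact Nat.pos_of_ne_zero Subgroup.index_ne_zero_of_finite
    exact he.trans (Nat.le_of_mul_le_mul_right h1 hp.pos)
  rcases eq_or_lt_of_le hn0 with hn1 | hn2
  · subst hn1
    rw [one_mul] at hidx'
    refine psl_of_succ_faithful hperf (norm D') hidx' hN (by omega) hE2 ?_
    rw [← MonoidHom.ker_eq_bot_iff]
    refine hcore _ (MonoidHom.normal_ker _) fun hdvd => hPn ?_
    set R := (MulAction.toPermHom G (G ⧸ norm D')).ker with hR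
    have hle : R ≤ norm D' := fun g hg => by
      have h1 : MulAction.toPermHom G (G ⧸ norm D') g = 1 := MonoidHom.mem_ker.mp hg
      have h2 := congrArg (fun σ : Equiv.Perm (G ⧸ norm D') => σ ((1 : G) : G ⧸ norm D')) h1
      simp only [MulAction.toPermHom_apply, MulAction.toPerm_apply, Equiv.Perm.coe_one, id_eq] at h2
      rw [← mem_stabilizer_iff, MulAction.stabilizer_quotient] at h2
      exact h2
    rw [← Subgroup.normalizer_eq_top_iff, eq_top_iff]
    intro g _
    -- the conjugate normalizes `P`, so it is `P`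
    have hQ : Nat.card ((g • P : Sylow p G) : Subgroup G) = p := by
      rw [(g • P).card_eq_multiplicity, ← P.card_eq_multiplicity, hP]
    haveI : R.Normal := MonoidHom.normal_ker _
    have hin : ((g • P : Sylow p G) : Subgroup G) ≤ Subgroup.normalizer ((P : Subgroup G) : Set G) :=
      ((le_of_normal_dvd hsq R hdvd _ hQ).trans hle).trans (le_of_eq (by rw [norm, hD']))
    have hsup := IsPGroup.to_sup_of_normal_right' (g • P).isPGroup' P.isPGroup' hin
    have h1 := P.is_maximal' hsup le_sup_right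
    have h2 : ((g • P : Sylow p G) : Subgroup G) ≤ (P : Subgroup G) := h1 ▸ le_sup_left
    have heq : (g • P : Sylow p G) = P := Sylow.ext (Subgroup.eq_of_le_of_card_ge h2 (by rw [hQ, hP]))
    exact Sylow.smul_eq_iff_mem_normalizer.mp heq
  · have hK : ∀ y : D'.K, (y : G) = 1 := by
      obtain ⟨f, hdeg, hdv, -, hfy⟩ := exists_constant_regular hperf D' htriv hN hidx' hEn hn2 he
      obtain ⟨k, ρ, hρ, hc⟩ := f.2
      have hk : deg f = k := by
        have h1 := val_one f
        rw [← hc, Representation.char_one, Module.finrank_fin_fun] at h1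
        exact_mod_cast h1.symm
      let R := MonoidHom.ker ρ.toHomUnits
      have hmem : ∀ v : G, v ∈ R ↔ (f : G → ℂ) v = deg f := by
        intro v
        rw [MonoidHom.mem_ker, Units.ext_iff, ← hc, hk]
        have h1 := char_eq_degree_iff ρ v
        rw [Module.finrank_fin_fun] at h1
        exact h1.symm
      have hR : R = ⊥ := by
        refine hcore R (MonoidHom.normal_ker _) fun hdvd => ?_
        haveI : R.Normal := MonoidHom.normal_ker _
        have hQR := le_of_normal_dvd hsq R hdvd D'.Q D'.hQ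
        have hshift : ∀ (a : G) (b : G), a ∈ R → (f : G → ℂ) (a * b) = (f : G → ℂ) b := by
          intro a b ha
          have h1 : ρ a = 1 := congrArg Units.val (MonoidHom.mem_ker.mp ha)
          rw [← hc]
          show LinearMap.trace ℂ _ (ρ (a * b)) = LinearMap.trace ℂ _ (ρ b)
          rw [map_mul, h1, one_mul]
        have hconst : D'.dval (f : G → ℂ) 1 = classInner (fun y : D'.K => (deg f : ℂ)) (D'.φ : D'.K → ℂ) := by
          rw [CycSetup.dval, secMult]
          congr 1
          funext y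
          rw [hshift _ _ (hQR (D'.xp_mem 1)), hfy]
        rw [hdv, classInner] at hconst
        simp only [htriv, map_one, mul_one, Finset.sum_const, Finset.card_univ, nsmul_eq_mul] at hconst
        have hKc : (Nat.card D'.K : ℂ) ≠ 0 := Nat.cast_ne_zero.mpr Nat.card_pos.ne'
        rw [← Nat.card_eq_fintype_card, ← mul_assoc, inv_mul_cancel₀ hKc, one_mul] at hconst
        have h3 := congrArg Complex.re hconst
        simp only [Complex.neg_re, Complex.one_re, Complex.natCast_re] at h3
        have : (0 : ℝ) ≤ (deg f : ℝ) := Nat.cast_nonneg _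
        linarith
      intro y
      exact Subgroup.mem_bot.mp (hR ▸ (hmem _).mpr (hfy y))
    have hcent : Subgroup.centralizer (D'.Q : Set G) = D'.Q := by
      let _ : Fintype (Subgroup.centralizer (D'.Q : Set G)) := Fintype.ofFinite _
      refine le_antisymm (fun c hc => ?_) D'.Q_le_C
      obtain ⟨i, hi⟩ := D'.exists_xp_mul_proj ⟨c, hc⟩
      rw [hK, mul_one] at hi
      exact (show c = D'.xp i from hi) ▸ D'.xp_mem i
    have h : Small D' n E := ⟨hcent, hN, hidx'⟩
    refine h.classify hperf ?_
    have : 2 * n ≤ E * n := Nat.mul_le_mul_right n hE2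
    omega

/-- The order of the projective special linear group is at least half that of the special one. -/
theorem card_psl_ge (F : Type) [Field F] [Fintype F] :
    (Fintype.card F + 1) * ((Fintype.card F - 1) * Fintype.card F) ≤
      2 * Nat.card (Matrix.ProjectiveSpecialLinearGroup (Fin 2) F) := by
  classical
  rw [← CfsgLib.Char.TwoChars.card_sl_two (F := F),
    ← (Subgroup.center (Matrix.SpecialLinearGroup (Fin 2) F)).card_mul_index]
  show _ ≤ 2 * (Subgroup.center (Matrix.SpecialLinearGroup (Fin 2) F)).index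
  refine Nat.mul_le_mul_right _ ?_
  rw [Nat.card_congr (Matrix.SpecialLinearGroup.center_equiv_rootsOfUnity (R := F) (n := Fin 2)).toEquiv]
  rw [show max (Fintype.card (Fin 2)) 1 = 2 by simp]
  exact card_rootsOfUnity F 2

/-- The center is trivial in characteristic two. -/
theorem center_eq_bot_of_two (F : Type) [Field F] [Fintype F] {m : ℕ} (hF : Fintype.card F = 2 ^ m) :
    Subgroup.center (Matrix.SpecialLinearGroup (Fin 2) F) = ⊥ := by
  classical
  haveI : CharP F 2 := by
    obtain ⟨q, hq⟩ := CharP.exists F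
    obtain ⟨n, hqp, hn⟩ := @FiniteField.card F _ _ q hq
    rw [hF] at hn
    have h2 : q ∣ 2 ^ m := hn ▸ dvd_pow_self q n.pos.ne'
    rwa [(Nat.prime_dvd_prime_iff_eq hqp Nat.prime_two).1 (hqp.dvd_of_dvd_pow h2)] at hq
  rw [Subgroup.eq_bot_iff_forall]
  intro g hg
  obtain ⟨r, hr, hrg⟩ := Matrix.SpecialLinearGroup.mem_center_iff.1 hg
  have hr1 : r = 1 := by
    rw [Fintype.card_fin] at hr
    have h2 : (r - 1) ^ 2 = 0 := by rw [sub_pow_char, hr, one_pow, sub_self]
    exact sub_eq_zero.1 ((pow_eq_zero_iff two_ne_zero).1 h2)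
  exact Subtype.ext (by rw [← hrg, hr1, map_one]; rfl)

/-- The classification (Brauer and Reynolds). -/
theorem classify_perfect_large (hperf : commutator G = ⊤) (p : ℕ) [Fact p.Prime] (hdvd : p ∣ Nat.card G)
    (hbig : Nat.card G < p ^ 3) (P : Sylow p G) (hPn : ¬ (P : Subgroup G).Normal)
    (h2 : ∀ N : Subgroup G, N.Normal → Nat.card N ≠ 2) :
    (∃ (F : Type) (_ : Field F) (_ : Fintype F), Fintype.card F = p ∧ 3 < p ∧
      Nonempty (G ≃* Matrix.ProjectiveSpecialLinearGroup (Fin 2) F)) ∨
    (∃ (m : ℕ) (F : Type) (_ : Field F) (_ : Fintype F), Fintype.card F = 2 ^ m ∧ p = 2 ^ m + 1 ∧ 3 < p ∧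
      Nonempty (G ≃* Matrix.SpecialLinearGroup (Fin 2) F)) := by
  classical
  have hp : p.Prime := Fact.out
  have hn : p + 1 ≤ Nat.card (Sylow p G) := by
    have hmod : Nat.card (Sylow p G) % p = 1 := by
      rw [card_sylow_modEq_one p G, Nat.mod_eq_of_lt hp.one_lt]
    have h1 : Nat.card (Sylow p G) ≠ 1 := fun h1 => by
      haveI : Subsingleton (Sylow p G) := (Nat.card_eq_one_iff_unique.mp h1).1
      exact hPn (Sylow.normal_of_subsingleton P)
    by_contra hlt
    rcases Nat.lt_or_ge (Nat.card (Sylow p G)) p with h | h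
    · rw [Nat.mod_eq_of_lt h] at hmod; exact h1 hmod
    · rw [show Nat.card (Sylow p G) = p by omega, Nat.mod_self] at hmod; omega
  have hGc : Nat.card (Subgroup.normalizer ((P : Subgroup G) : Set G)) * Nat.card (Sylow p G) = Nat.card G := by
    rw [Sylow.card_eq_index_normalizer P]
    exact Subgroup.card_mul_index _
  have hsq : ¬ p ^ 2 ∣ Nat.card G := by
    intro hd
    have h3 : p ^ 2 ∣ Nat.card (P : Subgroup G) := by
      rw [P.card_eq_multiplicity]
      exact pow_dvd_pow p ((hp.pow_dvd_iff_le_factorization Nat.card_pos.ne').mp hd)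
    have h4 := Nat.le_of_dvd Nat.card_pos (h3.trans (Subgroup.card_dvd_of_le Subgroup.le_normalizer))
    have h5 : p ^ 2 * (p + 1) ≤ Nat.card G := (Nat.mul_le_mul h4 hn).trans (le_of_eq hGc)
    have h6 : p ^ 2 * p < p ^ 2 * (p + 1) := Nat.mul_lt_mul_of_pos_left (by omega) (pow_pos hp.pos 2)
    rw [show p ^ 2 * p = p ^ 3 by ring] at h6
    omega
  set M := Cfsg.pPrimeCore p G with hMdef
  have hMn : M.Normal := Subgroup.sSup_normal _ (fun K hK => hK.1)
  have hMd : ¬ p ∣ Nat.card M := CfsgLib.Coprime.pPrimeCore_not_dvd hp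
  haveI := hMn
  haveI : Fintype (G ⧸ M) := Fintype.ofFinite _
  let π : G →* G ⧸ M := QuotientGroup.mk' M
  have hπ : Function.Surjective π := QuotientGroup.mk'_surjective M
  let P' : Sylow p (G ⧸ M) := P.mapSurjective hπ
  have hcardM : Nat.card G = Nat.card (G ⧸ M) * Nat.card M := Subgroup.card_eq_card_quotient_mul_card_subgroup M
  have hdvd' : p ∣ Nat.card (G ⧸ M) := (hp.dvd_mul.mp (hcardM ▸ hdvd)).resolve_right hMd
  have hsq' : ¬ p ^ 2 ∣ Nat.card (G ⧸ M) := fun h => hsq (hcardM ▸ Dvd.dvd.mul_right h _)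
  have hP' : Nat.card (P' : Subgroup (G ⧸ M)) = p := by
    rw [P'.card_eq_multiplicity, factorization_eq_one hdvd' hsq', pow_one]
  have hperf' : commutator (G ⧸ M) = ⊤ := by
    have h1 := congrArg (Subgroup.map π) hperf
    rwa [commutator_def, Subgroup.map_commutator, Subgroup.map_top_of_surjective _ hπ, ← commutator_def] at h1
  have hPn' : ¬ (P' : Subgroup (G ⧸ M)).Normal := by
    intro hN'
    have hle := not_normalizer_le_centralizer hperf' P' hP'
    refine hle ?_
    rw [Subgroup.normalizer_eq_top_iff.mpr hN']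
    haveI : IsCyclic (P' : Subgroup (G ⧸ M)) := isCyclic_of_prime_card hP'
    haveI : (P' : Subgroup (G ⧸ M)).Normal := hN'
    -- the action on a cyclic normal subgroup is through a commutative group
    let φ : G ⧸ M →* MulAut (P' : Subgroup (G ⧸ M)) := MulAut.conjNormal
    have hker : commutator (G ⧸ M) ≤ φ.ker := by
      rw [commutator_def, Subgroup.commutator_le]
      intro a _ b _
      rw [MonoidHom.mem_ker, map_commutatorElement, commutatorElement_eq_one_iff_mul_comm]
      apply (IsCyclic.mulAutMulEquiv (P' : Subgroup (G ⧸ M))).injective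
      rw [map_mul, map_mul, mul_comm]
    rw [hperf', top_le_iff] at hker
    intro g _
    rw [Subgroup.mem_centralizer_iff]
    intro h hh
    have h1 : φ g = 1 := MonoidHom.mem_ker.mp (hker ▸ Subgroup.mem_top g)
    have h2 := congrArg (fun σ : MulAut (P' : Subgroup (G ⧸ M)) => ((σ ⟨h, hh⟩ : (P' : Subgroup (G ⧸ M))) : G ⧸ M)) h1
    simp only [φ, MulAut.conjNormal_apply, MulAut.one_apply] at h2
    rw [mul_inv_eq_iff_eq_mul] at h2
    exact h2.symm
  have hcore' : ∀ K : Subgroup (G ⧸ M), K.Normal → ¬ p ∣ Nat.card K → K = ⊥ := by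
    intro K hK hKd
    have hcard : Nat.card (K.comap π) = Nat.card K * Nat.card M := by
      rw [Subgroup.card_eq_card_quotient_mul_card_subgroup (M.subgroupOf (K.comap π)),
        Nat.card_congr (Subgroup.subgroupOfEquivOfLe (show M ≤ K.comap π from fun a ha => by
          show π a ∈ K
          rw [show π a = 1 from (QuotientGroup.eq_one_iff a).mpr ha]
          exact K.one_mem)).toEquiv]
      congr 1
      refine Nat.card_congr ((QuotientGroup.quotientMulEquivOfEq ?_).trans
        (QuotientGroup.quotientKerEquivOfSurjective (π.subgroupComap K)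
          (π.subgroupComap_surjective_of_surjective K hπ))).toEquiv
      ext a
      rw [Subgroup.mem_subgroupOf, MonoidHom.mem_ker, Subtype.ext_iff]
      exact (QuotientGroup.eq_one_iff (a : G)).symm
    have hmem : K.comap π ≤ M := le_sSup (show K.comap π ∈ {N : Subgroup G | N.Normal ∧ (Nat.card N).Coprime p} from
      ⟨hK.comap π, by
        refine (hp.coprime_iff_not_dvd.mpr fun h => ?_).symm
        rw [hcard] at h
        exact (hp.dvd_mul.mp h).elim hKd hMd⟩)
    rw [eq_bot_iff]
    intro a ha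
    obtain ⟨b, rfl⟩ := hπ a
    exact Subgroup.mem_bot.mpr ((QuotientGroup.eq_one_iff b).mpr (hmem ha))
  have hbig' : Nat.card (G ⧸ M) < p ^ 3 :=
    lt_of_le_of_lt (hcardM ▸ Nat.le_mul_of_pos_right _ Nat.card_pos) hbig
  have hMbot : Nat.card M ≤ 2 → M = ⊥ := fun h => Subgroup.card_eq_one.mp (by
    have := h2 M hMn
    have := Nat.card_pos (α := M)
    omega)
  rcases classify_core_free hperf' p P' hPn' hP' hsq' hcore' hbig' with
    ⟨F, iF, iFt, hF, hp3, ⟨φ⟩⟩ | ⟨m, F, iF, iFt, hF, hpm, hp3, ⟨φ⟩⟩
  · left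
    have hge := card_psl_ge F
    rw [← Nat.card_congr φ.toEquiv, hF] at hge
    have hM1 : M = ⊥ := hMbot (by
      by_contra hM2
      have h1 : (p + 1) * ((p - 1) * p) * 3 ≤ 2 * Nat.card (G ⧸ M) * Nat.card M := Nat.mul_le_mul hge (by omega)
      rw [mul_assoc 2, ← hcardM] at h1
      obtain ⟨q, rfl⟩ : ∃ q, p = q + 4 := ⟨p - 4, by omega⟩
      simp only [show q + 4 - 1 = q + 3 from rfl] at h1
      have e1 : (q + 4 + 1) * ((q + 3) * (q + 4)) * 3 = 3 * q ^ 3 + 36 * q ^ 2 + 141 * q + 180 := by ring
      have e2 : (q + 4) ^ 3 = q ^ 3 + 12 * q ^ 2 + 48 * q + 64 := by ring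
      omega)
    exact ⟨F, iF, iFt, hF, hp3,
      ⟨((QuotientGroup.quotientBot.symm.trans (QuotientGroup.quotientMulEquivOfEq hM1.symm))).trans φ⟩⟩
  · right
    let ψ : G ⧸ M ≃* Matrix.SpecialLinearGroup (Fin 2) F :=
      φ.trans ((QuotientGroup.quotientMulEquivOfEq (center_eq_bot_of_two F hF)).trans QuotientGroup.quotientBot)
    have hcard := CfsgLib.Char.TwoChars.card_sl_two (F := F)
    rw [← Nat.card_congr ψ.toEquiv, hF] at hcard
    have hM1 : M = ⊥ := hMbot (by
      by_contra hM2
      have h1 : (2 ^ m + 1) * ((2 ^ m - 1) * 2 ^ m) * 3 ≤ Nat.card G := by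
        rw [hcardM, hcard]; exact Nat.mul_le_mul_left _ (by omega)
      rw [hpm] at hbig
      obtain ⟨q, hq⟩ : ∃ q, 2 ^ m = q + 4 := ⟨2 ^ m - 4, by
        rcases Nat.lt_or_ge m 2 with h | h
        · interval_cases m <;> simp_all
        · have : 2 ^ 2 ≤ 2 ^ m := Nat.pow_le_pow_right (by norm_num) h
          omega⟩
      rw [hq] at h1 hbig
      simp only [show q + 4 - 1 = q + 3 from rfl] at h1
      have e1 : (q + 4 + 1) * ((q + 3) * (q + 4)) * 3 = 3 * q ^ 3 + 36 * q ^ 2 + 141 * q + 180 := by ring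
      have e2 : (q + 4 + 1) ^ 3 = q ^ 3 + 15 * q ^ 2 + 75 * q + 125 := by ring
      omega)
    exact ⟨m, F, iF, iFt, hF, hpm, hp3,
      ⟨((QuotientGroup.quotientBot.symm.trans (QuotientGroup.quotientMulEquivOfEq hM1.symm))).trans ψ⟩⟩

end CfsgLib.Char.FewSylow
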