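import Mathlib.RingTheory.IntegralDomain
import Mathlib.GroupTheory.Abelianization.Defs
import Cfsg.Prelude.Def_Perm

/-!
# A perfect group of semi-affine maps of a finite field is trivial
-/

set_option autoImplicit false
set_option linter.unusedSectionVars false

namespace CfsgLib.Char.FewSylow

open scoped commutatorElement

universe u v

variable {R : Type u} [Field R] [Finite R]

/-- Automorphisms of a finite field commute. -/
theorem ringAut_comm (φ ψ : R ≃+* R) (x : R) : φ (ψ x) = ψ (φ x) := by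
  obtain ⟨g, hg⟩ := IsCyclic.exists_generator (α := Rˣ)
  by_cases hx : x = 0
  · simp [hx]
  have key : ∀ θ : R ≃+* R, ∃ k : ℤ, θ (g : R) = ((g ^ k : Rˣ) : R) := fun θ => by
    obtain ⟨k, hk⟩ := hg (Units.map (θ : R →* R) g)
    exact ⟨k, (congrArg Units.val hk).symm⟩
  have hpow : ∀ θ : R ≃+* R, ∀ i : ℤ, θ ((g ^ i : Rˣ) : R) = (((Units.map (θ : R →* R) g) ^ i : Rˣ) : R) :=
    fun θ i => by rw [← map_zpow]; rfl
  obtain ⟨k, hk⟩ := key φ
  obtain ⟨l, hl⟩ := key ψ
  obtain ⟨i, hi⟩ := hg (Units.mk0 x hx)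
  have hk' : Units.map (φ : R →* R) g = g ^ k := Units.ext hk
  have hl' : Units.map (ψ : R →* R) g = g ^ l := Units.ext hl
  have hx' : x = ((g ^ i : Rˣ) : R) := (congrArg Units.val hi).symm
  rw [hx', hpow φ, hpow ψ, hk', hl', ← zpow_mul, ← zpow_mul, hpow φ, hpow ψ, hk', hl', ← zpow_mul,
    ← zpow_mul]
  congr 2
  ring

/-- A perfect group of semi-affine maps has only one element. -/
theorem subsingleton_of_semiaffine {G : Type v} [Group G] (hperf : commutator G = ⊤)
    (ρ : G →* Equiv.Perm R) (hinj : Function.Injective ρ)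
    (hρ : ∀ g, ρ g ∈ Cfsg.semiaffineGroup R) : ∀ g : G, g = 1 := by
  have haff : ∀ g : G, ∃ (a b : R), a ≠ 0 ∧ ∀ x, ρ g x = a * x + b := by
    let H : Subgroup G :=
      { carrier := {g | ∃ (a b : R), a ≠ 0 ∧ ∀ x, ρ g x = a * x + b}
        one_mem' := ⟨1, 0, one_ne_zero, fun x => by simp⟩
        mul_mem' := by
          rintro g h ⟨a, b, ha, hg⟩ ⟨c, d, hc, hh⟩
          exact ⟨a * c, a * d + b, mul_ne_zero ha hc, fun x => by
            rw [map_mul, Equiv.Perm.coe_mul, Function.comp_apply, hh, hg]; ring⟩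
        inv_mem' := by
          rintro g ⟨a, b, ha, hg⟩
          refine ⟨a⁻¹, -(a⁻¹ * b), inv_ne_zero ha, fun x => (ρ g).injective ?_⟩
          rw [map_inv, Equiv.Perm.inv_def, Equiv.apply_symm_apply, hg]
          field_simp
          ring }
    have hH : H = ⊤ := by
      rw [eq_top_iff, ← hperf, commutator_def, Subgroup.commutator_le]
      intro g _ h _
      obtain ⟨a, b, φ, hg⟩ := hρ g
      obtain ⟨c, d, ψ, hh⟩ := hρ h
      set A : R := a * φ c with hA
      set C : R := c * ψ a with hC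
      have hC0 : C ≠ 0 := mul_ne_zero c.ne_zero (fun he => a.ne_zero (ψ.injective (he.trans (map_zero ψ).symm)))
      have hA0 : A ≠ 0 := mul_ne_zero a.ne_zero (fun he => c.ne_zero (φ.injective (he.trans (map_zero φ).symm)))
      refine ⟨A * C⁻¹, a * φ d + b - A * C⁻¹ * (c * ψ b + d), mul_ne_zero hA0 (inv_ne_zero hC0), fun y => ?_⟩
      obtain ⟨x, rfl⟩ := (ρ (h * g)).surjective y
      have e1 : ρ (g * h) x = A * φ (ψ x) + (a * φ d + b) := by
        rw [map_mul, Equiv.Perm.coe_mul, Function.comp_apply, hh, hg, map_add, map_mul, hA]; ring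
      have e2 : ρ (h * g) x = C * φ (ψ x) + (c * ψ b + d) := by
        rw [map_mul, Equiv.Perm.coe_mul, Function.comp_apply, hg, hh, map_add, map_mul, hC,
          ringAut_comm φ ψ x]; ring
      have e3 : ρ ⁅g, h⁆ (ρ (h * g) x) = ρ (g * h) x := by
        rw [← Function.comp_apply (f := ρ ⁅g, h⁆) (g := ρ (h * g)), ← Equiv.Perm.coe_mul, ← map_mul,
          commutatorElement_def]
        congr 2
        group
      rw [e3, e1, e2]
      field_simp
      ring
    exact fun g => (hH ▸ Subgroup.mem_top g : g ∈ H)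
  have htr : ∀ g : G, ∃ b : R, ∀ x, ρ g x = x + b := by
    let H : Subgroup G :=
      { carrier := {g | ∃ b : R, ∀ x, ρ g x = x + b}
        one_mem' := ⟨0, fun x => by simp⟩
        mul_mem' := by
          rintro g h ⟨b, hg⟩ ⟨d, hh⟩
          exact ⟨d + b, fun x => by
            rw [map_mul, Equiv.Perm.coe_mul, Function.comp_apply, hh, hg]; ring⟩
        inv_mem' := by
          rintro g ⟨b, hg⟩
          refine ⟨-b, fun x => (ρ g).injective ?_⟩
          rw [map_inv, Equiv.Perm.inv_def, Equiv.apply_symm_apply, hg]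
          ring }
    have hH : H = ⊤ := by
      rw [eq_top_iff, ← hperf, commutator_def, Subgroup.commutator_le]
      intro g _ h _
      obtain ⟨a, b, ha, hg⟩ := haff g
      obtain ⟨c, d, hc, hh⟩ := haff h
      refine ⟨a * d + b - (c * b + d), fun y => ?_⟩
      obtain ⟨x, rfl⟩ := (ρ (h * g)).surjective y
      have e3 : ρ ⁅g, h⁆ (ρ (h * g) x) = ρ (g * h) x := by
        rw [← Function.comp_apply (f := ρ ⁅g, h⁆) (g := ρ (h * g)), ← Equiv.Perm.coe_mul, ← map_mul,
          commutatorElement_def]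
        congr 2
        group
      rw [e3]
      simp only [map_mul, Equiv.Perm.coe_mul, Function.comp_apply, hg, hh]
      ring
    exact fun g => (hH ▸ Subgroup.mem_top g : g ∈ H)
  intro g
  have hbot : commutator G ≤ ⊥ := by
    rw [commutator_def, Subgroup.commutator_le]
    intro a _ b _
    rw [Subgroup.mem_bot, commutatorElement_eq_one_iff_mul_comm]
    obtain ⟨s, hs⟩ := htr a
    obtain ⟨t, ht⟩ := htr b
    refine hinj (Equiv.ext fun x => ?_)
    simp only [map_mul, Equiv.Perm.coe_mul, Function.comp_apply, hs, ht]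
    ring
  rw [hperf] at hbot
  exact Subgroup.mem_bot.mp (hbot (Subgroup.mem_top g))

end CfsgLib.Char.FewSylow
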