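import Mathlib.GroupTheory.GroupAction.MultipleTransitivity
import Mathlib.Data.Fintype.CardEmbedding
import Cfsg.Agent.Lib.Perm.Zassenhaus.OddDegree
import Cfsg.Agent.Lib.Char.SuzukiZassenhaus.Main

/-!
# Groups whose involution centralizers are elementary abelian of order `q`

A group of order `(q + 1) q (q - 1)` whose involutions are conjugate, with elementary abelian
centralizers of order `q`, is sharply triply transitive on `q + 1` points.
-/

set_option autoImplicit false
set_option linter.unusedSectionVars false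
set_option linter.style.haveILetI false

namespace CfsgLib.Char.FewSylow

open MulAction

universe u

variable {G : Type u} [Group G] [Finite G]

theorem card_centralizer_conj (x w : G) :
    Nat.card (Subgroup.centralizer ({x * w * x⁻¹} : Set G)) =
      Nat.card (Subgroup.centralizer ({w} : Set G)) := by
  refine Nat.card_congr
    { toFun := fun g => ⟨x⁻¹ * g * x, ?_⟩
      invFun := fun g => ⟨x * g * x⁻¹, ?_⟩
      left_inv := fun g => Subtype.ext (by simp [mul_assoc])
      right_inv := fun g => Subtype.ext (by simp [mul_assoc]) }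
  · refine Subgroup.mem_centralizer_singleton_iff.mpr ?_
    have h : (g : G) * (x * w * x⁻¹) = x * w * x⁻¹ * g := Subgroup.mem_centralizer_singleton_iff.mp g.2
    calc x⁻¹ * (g : G) * x * w = x⁻¹ * ((g : G) * (x * w * x⁻¹)) * x := by group
      _ = x⁻¹ * (x * w * x⁻¹ * g) * x := by rw [h]
      _ = w * (x⁻¹ * g * x) := by group
  · refine Subgroup.mem_centralizer_singleton_iff.mpr ?_
    have h : (g : G) * w = w * g := Subgroup.mem_centralizer_singleton_iff.mp g.2
    calc x * (g : G) * x⁻¹ * (x * w * x⁻¹) = x * ((g : G) * w) * x⁻¹ := by group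
      _ = x * (w * g) * x⁻¹ := by rw [h]
      _ = x * w * x⁻¹ * (x * g * x⁻¹) := by group

variable {f : ℕ} {w : G}

/-- The group is `PSL(2, q)`. -/
theorem psl_of_involution_centralizer (hf : 1 ≤ f)
    (hcard : Nat.card G = (2 ^ f + 1) * 2 ^ f * (2 ^ f - 1)) (hw : orderOf w = 2)
    (hconj : ∀ j : G, orderOf j = 2 → ∃ x : G, x * w * x⁻¹ = j)
    (hA : Nat.card (Subgroup.centralizer ({w} : Set G)) = 2 ^ f)
    (hexp : ∀ a ∈ Subgroup.centralizer ({w} : Set G), a * a = 1) :
    ∃ (F : Type) (_ : Field F) (_ : Fintype F), Fintype.card F = 2 ^ f ∧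
      Nonempty (G ≃* Matrix.ProjectiveSpecialLinearGroup (Fin 2) F) := by
  classical
  set A := Subgroup.centralizer ({w} : Set G) with hAdef
  set q := 2 ^ f with hq
  have hq2 : 2 ≤ q := le_trans (by norm_num) (Nat.pow_le_pow_right two_pos hf)
  have hqe : 2 ∣ q := dvd_pow_self 2 (by omega)
  have hwA : w ∈ A := Subgroup.mem_centralizer_singleton_iff.mpr rfl
  have hord : ∀ a ∈ A, a ≠ 1 → orderOf a = 2 := fun a ha ha1 =>
    orderOf_eq_prime (by rw [sq]; exact hexp a ha) ha1
  have hcomm : ∀ a ∈ A, ∀ b ∈ A, a * b = b * a := fun a ha b hb => by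
    have e : ∀ c ∈ A, c⁻¹ = c := fun c hc => inv_eq_of_mul_eq_one_right (hexp c hc)
    rw [← e _ (A.mul_mem ha hb), mul_inv_rev, e a ha, e b hb]
  have hcent : ∀ a ∈ A, a ≠ 1 → Subgroup.centralizer ({a} : Set G) = A := by
    intro a ha ha1
    refine (Subgroup.eq_of_le_of_card_ge (fun b hb =>
      Subgroup.mem_centralizer_singleton_iff.mpr (hcomm b hb a ha)) ?_).symm
    obtain ⟨x, hx⟩ := hconj a (hord a ha ha1)
    rw [← hx, card_centralizer_conj]
  -- conjugating a non-trivial element of `A` into `A`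
  have hnorm : ∀ g : G, ∀ a ∈ A, a ≠ 1 → g * a * g⁻¹ ∈ A → g ∈ Subgroup.normalizer (A : Set G) := by
    intro g a ha ha1 hga
    refine Subgroup.mem_normalizer_fintype fun b hb => ?_
    have h1 : g * a * g⁻¹ ≠ 1 := fun h => ha1 (conj_eq_one_iff.mp h)
    rw [SetLike.mem_coe] at hb ⊢
    rw [← hcent _ hga h1, Subgroup.mem_centralizer_singleton_iff]
    calc g * b * g⁻¹ * (g * a * g⁻¹) = g * (b * a) * g⁻¹ := by group
      _ = g * (a * b) * g⁻¹ := by rw [hcomm b hb a ha]
      _ = g * a * g⁻¹ * (g * b * g⁻¹) := by group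
  set N := Subgroup.normalizer (A : Set G) with hN
  have hAN : A ≤ N := Subgroup.le_normalizer
  have hNA : ∀ g ∈ N, ∀ a ∈ A, g * a * g⁻¹ ∈ A := fun g hg a ha =>
    (Subgroup.mem_normalizer_iff.mp hg a).mp ha
  have hcardN : Nat.card N = q * (q - 1) := by
    let T := {a : A // a ≠ 1}
    have hT : Nat.card T = q - 1 := by
      have : Fintype A := Fintype.ofFinite A
      rw [Nat.card_eq_fintype_card, Fintype.card_subtype_compl, Fintype.card_subtype_eq,
        ← Nat.card_eq_fintype_card, hA]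
    have hw1 : w ≠ 1 := fun h => by rw [h, orderOf_one] at hw; omega
    choose σ hσ using fun a : T => hconj a.1 (hord _ a.1.2 fun h => a.2 (Subtype.ext h))
    have hσN : ∀ a : T, σ a ∈ N := fun a => hnorm _ w hwA hw1 (by rw [hσ a]; exact a.1.2)
    rw [← hT, ← hA, ← Nat.card_prod, eq_comm]
    refine Nat.card_eq_of_bijective (fun x => (⟨σ x.2 * x.1, mul_mem (hσN _) (hAN x.1.2)⟩ : N)) ⟨?_, ?_⟩
    · rintro ⟨a, s⟩ ⟨b, t⟩ h
      have h' : σ s * a = σ t * b := congrArg Subtype.val h
      have hst : (s : A) = t := by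
        refine Subtype.ext ?_
        rw [← hσ s, ← hσ t]
        have e : ∀ (x c : G), c ∈ A → x * c * w * (x * c)⁻¹ = x * w * x⁻¹ := fun x c hc => by
          have := Subgroup.mem_centralizer_singleton_iff.mp hc
          calc x * c * w * (x * c)⁻¹ = x * (c * w) * c⁻¹ * x⁻¹ := by group
            _ = x * (w * c) * c⁻¹ * x⁻¹ := by rw [this]
            _ = _ := by group
        rw [← e (σ s) a a.2, h', e (σ t) b b.2]
      have hst' : s = t := Subtype.ext hst
      subst hst'
      exact Prod.ext (Subtype.ext (mul_left_cancel h')) rfl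
    · rintro ⟨g, hg⟩
      have hgw : g * w * g⁻¹ ∈ A := hNA g hg w hwA
      have hgw1 : g * w * g⁻¹ ≠ 1 := fun h => hw1 (conj_eq_one_iff.mp h)
      set t : T := ⟨⟨_, hgw⟩, fun h => hgw1 (congrArg Subtype.val h)⟩ with ht
      have hmem : (σ t)⁻¹ * g ∈ A := by
        refine Subgroup.mem_centralizer_singleton_iff.mpr ?_
        have h1 : σ t * w * (σ t)⁻¹ = g * w * g⁻¹ := hσ t
        calc (σ t)⁻¹ * g * w = (σ t)⁻¹ * (g * w * g⁻¹) * g := by group
          _ = (σ t)⁻¹ * (σ t * w * (σ t)⁻¹) * g := by rw [h1]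
          _ = w * ((σ t)⁻¹ * g) := by group
      exact ⟨(⟨_, hmem⟩, t), Subtype.ext (mul_inv_cancel_left _ _)⟩
  have hindex : N.index = q + 1 := by
    have h := N.index_mul_card
    rw [hcard, hcardN, mul_assoc] at h
    exact Nat.eq_of_mul_eq_mul_right (Nat.mul_pos (by omega) (by omega)) h
  -- an involution of `N` lies in `A`
  have hinv : ∀ b ∈ N, b * b = 1 → b ∈ A := by
    intro b hb hb2
    have hcop : Nat.Coprime 2 (q - 1) :=
      (Nat.Prime.coprime_iff_not_dvd Nat.prime_two).mpr (by omega)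
    haveI : (A.subgroupOf N).Normal := Subgroup.normal_in_normalizer
    set bq : N ⧸ A.subgroupOf N := QuotientGroup.mk (⟨b, hb⟩ : N) with hbq
    have hidx : Nat.card (N ⧸ A.subgroupOf N) = q - 1 := by
      have h1 := (A.subgroupOf N).index_mul_card
      rw [Nat.card_congr (Subgroup.subgroupOfEquivOfLe hAN).toEquiv, hA, hcardN, mul_comm q] at h1
      exact Nat.eq_of_mul_eq_mul_right (by omega) h1
    have h2 : orderOf bq ∣ 2 := by
      refine orderOf_dvd_of_pow_eq_one ?_
      rw [hbq, ← QuotientGroup.mk_pow, sq, show (⟨b, hb⟩ : N) * ⟨b, hb⟩ = 1 from Subtype.ext hb2,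
        QuotientGroup.mk_one]
    have h3 : orderOf bq ∣ q - 1 := hidx ▸ orderOf_dvd_natCard bq
    have h4 : bq = 1 := orderOf_eq_one_iff.mp (Nat.eq_one_of_dvd_coprimes hcop h2 h3)
    exact Subgroup.mem_subgroupOf.mp ((QuotientGroup.eq_one_iff (N := A.subgroupOf N) (⟨b, hb⟩ : N)).mp h4)
  -- `A` acts freely away from the base point
  set x0 : G ⧸ N := ((1 : G) : G ⧸ N) with hx0
  have hfix0 : ∀ g : G, g • x0 = x0 ↔ g ∈ N := fun g => by
    rw [← mem_stabilizer_iff, MulAction.stabilizer_quotient]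
  have hfree : ∀ a ∈ A, a ≠ 1 → ∀ y : G ⧸ N, a • y = y → y = x0 := by
    intro a ha ha1 y hy
    obtain ⟨g, rfl⟩ := QuotientGroup.mk_surjective y
    rw [MulAction.Quotient.smul_coe, smul_eq_mul, eq_comm, QuotientGroup.eq, ← mul_assoc] at hy
    have h2 : g⁻¹ * a * g * (g⁻¹ * a * g) = 1 := by
      rw [show g⁻¹ * a * g * (g⁻¹ * a * g) = g⁻¹ * (a * a) * g by group, hexp a ha, mul_one, inv_mul_cancel]
    have h3 := hinv _ hy h2
    have h4 : g ∈ N := by
      have := hnorm g⁻¹ a ha ha1 (by rwa [inv_inv])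
      exact inv_mem_iff.mp this
    rw [hx0, QuotientGroup.eq, mul_one]
    exact inv_mem h4
  have hcardX : Nat.card (G ⧸ N) = q + 1 := by rw [← Subgroup.index_eq_card, hindex]
  haveI : Fintype (G ⧸ N) := Fintype.ofFinite _
  have hreg : ∀ y z : G ⧸ N, y ≠ x0 → z ≠ x0 → ∃ a ∈ A, a • y = z := by
    intro y z hy hz
    let φ : A → {x : G ⧸ N // x ≠ x0} := fun a => ⟨(a : G) • y, fun h => hy (by
      have : y = (a : G)⁻¹ • x0 := by rw [← h, inv_smul_smul]
      rw [this]
      exact (hfix0 _).mpr (inv_mem (hAN a.2)))⟩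
    have hinj : Function.Injective φ := by
      intro a b hab
      have h1 : ((b : G)⁻¹ * a) • y = y := by
        rw [mul_smul, show (a : G) • y = (b : G) • y from congrArg Subtype.val hab, inv_smul_smul]
      by_contra hne
      exact hy (hfree _ (A.mul_mem (A.inv_mem b.2) a.2)
        (fun h => hne (Subtype.ext (inv_mul_eq_one.mp h).symm)) y h1)
    haveI : Fintype A := Fintype.ofFinite A
    have hbij : Function.Bijective φ := (Fintype.bijective_iff_injective_and_card φ).mpr ⟨hinj, by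
      rw [← Nat.card_eq_fintype_card, hA, Fintype.card_subtype_compl, Fintype.card_subtype_eq,
        ← Nat.card_eq_fintype_card, hcardX, Nat.add_sub_cancel]⟩
    obtain ⟨a, ha⟩ := hbij.2 ⟨z, hz⟩
    exact ⟨a, a.2, congrArg Subtype.val ha⟩
  have hthree : ∀ y z : G ⧸ N, y ≠ x0 → z ≠ x0 → z ≠ y → ∀ g : G,
      g • x0 = x0 → g • y = y → g • z = z → g = 1 := by
    intro y z hy hz hzy g hg0 hgy hgz
    obtain ⟨a, ha, hay⟩ := hreg y z hy hz
    have ha1 : a ≠ 1 := fun h => hzy (by rw [← hay, h, one_smul])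
    have hgN := (hfix0 g).mp hg0
    have h1 : (a⁻¹ * (g * a * g⁻¹)) • y = y := by
      rw [mul_smul, mul_smul, mul_smul, inv_smul_eq_iff, hay,
        show g⁻¹ • y = y by rw [inv_smul_eq_iff, hgy], hay, hgz]
    have h2 : a⁻¹ * (g * a * g⁻¹) = 1 := by
      by_contra hne
      exact hy (hfree _ (A.mul_mem (A.inv_mem ha) (hNA g hgN a ha)) hne y h1)
    have h3 : g ∈ A := by
      rw [← hcent a ha ha1, Subgroup.mem_centralizer_singleton_iff]
      exact mul_inv_eq_iff_eq_mul.mp (inv_mul_eq_one.mp h2).symm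
    by_contra hg1
    exact hy (hfree g h3 hg1 y hgy)
  -- three distinct points have trivial stabilizer
  have hstab : ∀ x : Fin 3 ↪ G ⧸ N, ∀ g : G, g • x = x → g = 1 := by
    intro x g hg
    have hgi : ∀ i, g • x i = x i := fun i => by
      rw [← Function.Embedding.smul_apply, hg]
    obtain ⟨c, hc⟩ := MulAction.exists_smul_eq G (x 0) x0
    have hk : ∀ i, (c * g * c⁻¹) • (c • x i) = c • x i := fun i => by
      rw [mul_smul, mul_smul, inv_smul_smul, hgi]
    have hne : ∀ i j, i ≠ j → c • x i ≠ c • x j := fun i j hij he => hij (x.injective (smul_left_cancel c he))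
    have h0 := hk 0
    rw [hc] at h0
    have := hthree (c • x 1) (c • x 2) (hc ▸ hne 1 0 (by decide)) (hc ▸ hne 2 0 (by decide))
      (hne 2 1 (by decide)) _ h0 (hk 1) (hk 2)
    exact conj_eq_one_iff.mp this
  haveI : Fintype G := Fintype.ofFinite G
  have hemb : Fintype.card (Fin 3 ↪ G ⧸ N) = Fintype.card G := by
    rw [Fintype.card_embedding_eq, Fintype.card_fin, ← Nat.card_eq_fintype_card (α := G ⧸ N),
      ← Nat.card_eq_fintype_card (α := G), hcardX, hcard]
    simp only [Nat.descFactorial_succ, Nat.descFactorial_zero, mul_one, Nat.sub_zero,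
      Nat.add_sub_cancel]
    rw [show q + 1 - 2 = q - 1 by omega]
    ring
  have htrans : ∀ x y : Fin 3 ↪ G ⧸ N, ∃ g : G, g • x = y := by
    intro x y
    have hinj : Function.Injective fun g : G => g • x := fun a b hab => by
      have h1 : (b⁻¹ * a) • x = x := by rw [mul_smul, show a • x = b • x from hab, inv_smul_smul]
      exact (inv_mul_eq_one.mp (hstab x _ h1)).symm
    exact ((Fintype.bijective_iff_injective_and_card _).mpr ⟨hinj, hemb.symm⟩).2 y
  set π := MulAction.toPermHom G (G ⧸ N) with hπ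
  have hfaith : Function.Injective π := by
    rw [injective_iff_map_eq_one]
    intro g hg
    have hx : ∀ y : G ⧸ N, g • y = y := fun y => by
      have := congrArg (fun σ : Equiv.Perm (G ⧸ N) => σ y) hg
      simpa [hπ] using this
    obtain ⟨e⟩ : Nonempty (Fin 3 ↪ G ⧸ N) := Function.Embedding.nonempty_of_card_le (by
      rw [Fintype.card_fin, ← Nat.card_eq_fintype_card, hcardX]; omega)
    exact hstab e g (Function.Embedding.ext fun i => hx _)
  have h3 : IsMultiplyPretransitive π.range (G ⧸ N) 3 := by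
    rw [isMultiplyPretransitive_iff]
    intro x y
    obtain ⟨g, hg⟩ := htrans x y
    refine ⟨⟨π g, g, rfl⟩, ?_⟩
    ext i
    have := congrArg (fun z : Fin 3 ↪ G ⧸ N => z i) hg
    simpa [hπ, Subgroup.smul_def] using this
  have hsharp : ∀ x : Fin 3 ↪ G ⧸ N, stabilizer π.range x = ⊥ := by
    intro x
    rw [Subgroup.eq_bot_iff_forall]
    rintro ⟨_, g, rfl⟩ hg
    have hg' : g • x = x := by
      ext i
      have := congrArg (fun z : Fin 3 ↪ G ⧸ N => z i) (mem_stabilizer_iff.mp hg)
      simpa [hπ, Subgroup.smul_def] using this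
    simp [hstab x g hg']
  obtain ⟨F, hF, hFF, hcF, ⟨eF⟩⟩ :=
    CfsgLib.Perm.ZOdd.iso_pgl hf (by rw [← Nat.card_eq_fintype_card, hcardX]) h3 hsharp
  obtain ⟨e2⟩ := SuzZ.nonempty_psl_equiv hf hcF
  exact ⟨F, hF, hFF, hcF, ⟨((MonoidHom.ofInjective hfaith).trans eF).trans e2⟩⟩

end CfsgLib.Char.FewSylow
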