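import Cfsg.Agent.Lib.Char.FewSylow.Plus
import Cfsg.Agent.Lib.Char.FewSylow.Involutions
import Cfsg.Agent.Lib.Char.FewSylow.Sharp
import Cfsg.Agent.Lib.Char.FewSylow.Semiaffine
import Cfsg.Agent.S0732
import Mathlib.GroupTheory.Transfer

/-!
# Few Sylow subgroups of prime order
-/

set_option autoImplicit false
set_option linter.unusedSectionVars false
set_option linter.style.haveILetI false

namespace CfsgLib.Char.FewSylow

open Cfsg CfsgLib.Char CfsgLib.Block CfsgLib.Block.Cyclic MulAction

universe u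

/-- The conclusion of the classification. -/
def Concl (p : ℕ) (G : Type u) [Group G] : Prop :=
  (∃ (F : Type) (_ : Field F) (_ : Fintype F), Fintype.card F = p ∧ 3 < p ∧
      Nonempty (G ≃* Matrix.ProjectiveSpecialLinearGroup (Fin 2) F)) ∨
    ∃ (m : ℕ) (F : Type) (_ : Field F) (_ : Fintype F), Fintype.card F = 2 ^ m ∧ p = 2 ^ m + 1 ∧
      3 < p ∧ Nonempty (G ≃* Matrix.ProjectiveSpecialLinearGroup (Fin 2) F)

variable {p : ℕ} [Fact p.Prime] {G : Type u} [Group G] [Fintype G] [DecidableEq G]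
  {D : CycSetup p G} [Fintype D.K] [Fintype (norm D)] {n e : ℕ}

theorem Small.two_le (h : Small D n e) (hperf : commutator G = ⊤) : 2 ≤ e := by
  classical
  by_contra hlt
  have he : e = 1 := by have := h.e_pos; omega
  have hcard : Nat.card D.Q = p ^ (Nat.card G).factorization p := by
    rw [factorization_eq_one D.dvd_card D.hsq, pow_one, D.hQ]
  set P := Sylow.ofCard D.Q hcard with hP
  have hNQ : norm D = D.Q := (Subgroup.eq_of_le_of_card_ge D.Q.le_normalizer
    (by rw [h.card_norm, he, one_mul, D.hQ])).symm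
  have hle : Subgroup.normalizer ((P : Subgroup G) : Set G) ≤ Subgroup.centralizer ((P : Subgroup G) : Set G) := by
    show norm D ≤ Subgroup.centralizer (D.Q : Set G)
    rw [hNQ, h.cent]
  haveI : IsMulCommutative (P : Subgroup G) := ⟨⟨fun a b => Subtype.ext (by
    have hb : (b : G) ∈ Subgroup.centralizer (D.Q : Set G) := by rw [h.cent]; exact b.2
    exact Subgroup.mem_centralizer_iff.mp hb a a.2)⟩⟩
  have hcompl := MonoidHom.ker_transferSylow_isComplement' P hle
  have hker : commutator G ≤ (MonoidHom.transferSylow P hle).ker := by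
    rw [commutator_def, Subgroup.commutator_le]
    intro a _ b _
    rw [MonoidHom.mem_ker, map_commutatorElement, commutatorElement_eq_one_iff_mul_comm]
    exact mul_comm' _ _
  rw [hperf, top_le_iff] at hker
  rw [hker, Subgroup.isComplement'_top_left] at hcompl
  have h1 : Nat.card D.Q = 1 := by
    show Nat.card (P : Subgroup G) = 1
    rw [hcompl, Subgroup.card_bot]
  rw [D.hQ] at h1
  exact (Fact.out : p.Prime).ne_one h1

theorem Small.one_le (h : Small D n e) (hperf : commutator G = ⊤) : 1 ≤ n := by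
  by_contra hlt
  have hn : n = 0 := by omega
  have htop : norm D = ⊤ := Subgroup.index_eq_one.mp (by rw [h.index, hn, zero_mul])
  obtain ⟨w, hw, hwo, -, -⟩ := h.exists_gen (h.two_le hperf)
  let ψ : G →* D.expE := h.act.comp
    { toFun := fun g => ⟨g, by rw [htop]; exact Subgroup.mem_top g⟩
      map_one' := rfl
      map_mul' := fun _ _ => rfl }
  have hker : commutator G ≤ ψ.ker := Abelianization.commutator_subset_ker ψ
  rw [hperf, top_le_iff] at hker
  have h1 : h.act ⟨w, hw⟩ = 1 := MonoidHom.mem_ker.mp (show w ∈ ψ.ker by rw [hker]; exact Subgroup.mem_top w)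
  have h2 : w ∈ D.Q := (h.act_eq_one_iff _).mp h1
  have h3 : w = 1 := by
    by_contra hne
    rw [orderOf_eq_p D.hQ h2 hne] at hwo
    exact h.not_dvd_e (dvd_of_eq hwo)
  rw [h3, orderOf_one] at hwo
  have := h.two_le hperf
  omega

/-- With `n = 1` the group is `PSL(2, p)`. -/
theorem Small.psl_of_one (h : Small D n e) (hperf : commutator G = ⊤) (hn : n = 1) (hp5 : 5 ≤ p)
    (ht : 2 ≤ numY D) : Concl p G := by
  classical
  subst hn
  have hp : p.Prime := Fact.out
  have he := h.two_le hperf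
  have hm := h.mul_numY
  have he2 : 2 * e ≤ p - 1 := by
    have : e * 2 ≤ e * numY D := Nat.mul_le_mul_left e ht
    omega
  haveI : Fintype (G ⧸ norm D) := Fintype.ofFinite _
  have hX : Fintype.card (G ⧸ norm D) = p + 1 := by
    rw [← Nat.card_eq_fintype_card, ← Subgroup.index_eq_card, h.index, one_mul]
  set π := MulAction.toPermHom G (G ⧸ norm D) with hπ
  have hker : ∀ g : G, π g = 1 → g = 1 := by
    intro g hg
    have hN : ∀ x : G, x⁻¹ * g * x ∈ norm D := fun x => smul_mk_eq_iff.mp (by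
      have := congrArg (fun σ : Equiv.Perm (G ⧸ norm D) => σ x) hg
      simpa [hπ] using this)
    have hgN : g ∈ norm D := by simpa using hN 1
    have hQint : ∀ v ∈ D.Q, (∀ x : G, x⁻¹ * v * x ∈ norm D) → v = 1 := by
      intro v hv hall
      obtain ⟨i, rfl⟩ := D.exists_xp_eq hv
      by_contra hne
      have hi : i ≠ 0 := fun hi => hne (by rw [hi, D.xp_zero])
      have htop : norm D = ⊤ := (Subgroup.eq_top_iff' _).mpr fun x => (h.mem_norm_of_conj hi (hall x)).2
      have := h.index
      rw [htop, Subgroup.index_top] at this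
      omega
    have hc : ∀ u ∈ D.Q, g * u = u * g := by
      intro u hu
      have h1 : g * u * g⁻¹ * u⁻¹ ∈ D.Q :=
        D.Q.mul_mem ((Subgroup.mem_normalizer_iff.mp hgN u).mp hu) (D.Q.inv_mem hu)
      have hall : ∀ x : G, x⁻¹ * (g * u * g⁻¹ * u⁻¹) * x ∈ norm D := by
        intro x
        have e1 : x⁻¹ * (g * u * g⁻¹ * u⁻¹) * x =
            (x⁻¹ * g * x) * ((u⁻¹ * x)⁻¹ * g * (u⁻¹ * x))⁻¹ := by group
        rw [e1]
        exact mul_mem (hN x) (inv_mem (hN _))
      have h2 := hQint _ h1 hall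
      rw [mul_inv_eq_one, mul_inv_eq_iff_eq_mul] at h2
      exact h2
    have hgQ : g ∈ D.Q := by
      rw [← h.cent]
      exact Subgroup.mem_centralizer_iff.mpr fun u hu => (hc u hu).symm
    exact hQint g hgQ hN
  have hinj : Function.Injective π := (injective_iff_map_eq_one π).mpr hker
  let eπ := MonoidHom.ofInjective hinj
  haveI : IsPretransitive π.range (G ⧸ norm D) := by
    refine ⟨fun x y => ?_⟩
    obtain ⟨g, hg⟩ := MulAction.exists_smul_eq G x y
    exact ⟨⟨π g, g, rfl⟩, by simpa [hπ, Subgroup.smul_def] using hg⟩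
  have hcard : Nat.card π.range = (p + 1) * p * e := by
    rw [← Nat.card_congr eπ.toEquiv, h.card_G]; ring
  rcases Cfsg.Agent.S0732.result hp hX π.range hcard (by omega) with ⟨h1, -⟩ | ⟨-, ⟨i⟩⟩ |
    ⟨q, hq, hpq, hd, ε, hε⟩
  · omega
  · exact Or.inl ⟨ZMod p, inferInstance, inferInstance, ZMod.card p, by omega, ⟨eπ.trans i⟩⟩
  · exfalso
    let ρ : G →* Equiv.Perm (GaloisField 2 q) := ε.permCongrHom.toMonoidHom.comp π
    haveI : Fact (Nat.Prime 2) := ⟨Nat.prime_two⟩
    haveI : Finite (GaloisField 2 q) := Finite.of_equiv _ ε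
    obtain ⟨w, -, hwo, -, -⟩ := h.exists_gen he
    have := subsingleton_of_semiaffine hperf ρ
      (ε.permCongrHom.injective.comp hinj) (fun g => hε ⟨π g, g, rfl⟩) w
    rw [this, orderOf_one] at hwo
    omega

/-- The classification for a self-centralizing subgroup of order `p`. -/
theorem Small.classify_of_sparse (h : Small D n e) (hperf : commutator G = ⊤)
    (hs : Sparse (p : ℤ) (n : ℤ)) : Concl p G := by
  classical
  have hp : p.Prime := Fact.out
  have he := h.two_le hperf
  have hn0 := h.one_le hperf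
  have hp3 := h.p_three_le he
  have hlin : ∀ f : IrrCharacter G, deg f = 1 → f = Block.oneChar G := by
    intro f hf
    have h1 : (f : G → ℂ) 1 = 1 := by rw [val_one, hf, Nat.cast_one]
    obtain ⟨φ, hφ⟩ := exists_hom_of_linear (isCharacter_irr f) h1
    have hker : commutator G ≤ φ.ker := Abelianization.commutator_subset_ker φ
    rw [hperf, top_le_iff] at hker
    refine Subtype.ext (funext fun g => ?_)
    have hg : g ∈ φ.ker := hker ▸ Subgroup.mem_top g
    rw [hφ]
    show ((φ g : ℂˣ) : ℂ) = 1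
    rw [MonoidHom.mem_ker.1 hg, Units.val_one]
  obtain ⟨S⟩ := exists_shape_of_sparse h hn0 hs hlin
  have hp5 := S.five_le h hn0
  rcases S.alternatives h hn0 with ⟨hx, hd, ht, -⟩ | ⟨hx, ht, hd, a, ha⟩
  · exact h.psl_of_one hperf (S.n_eq_one_of_plus h hn0 hx hd ht) hp5 ht
  rcases eq_or_lt_of_le hn0 with hn1 | hn2
  · exact h.psl_of_one hperf hn1.symm hp5 (by omega)
  obtain ⟨w, hw⟩ := h.exists_Gen he
  obtain ⟨f, V⟩ := S.exists_values h hw hn0 hx ht hd
  have hdodd : Odd S.d := by
    obtain ⟨c, hc⟩ := hp.odd_of_ne_two (by omega)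
    obtain ⟨b, hb⟩ := V.even
    exact ⟨c - b, by omega⟩
  obtain ⟨s, hs⟩ : ∃ s, n + 1 = 2 ^ s := ⟨_, Nat.eq_prime_pow_of_unique_prime_dvd (by omega)
    fun {l} hl hd' => V.two_power hw h S ht ha hl hd'⟩
  have hs2 : 2 ≤ s := by
    by_contra hlt
    have : 2 ^ s ≤ 2 ^ 1 := Nat.pow_le_pow_right two_pos (by omega)
    omega
  have he2 : e = 2 := V.e_eq_two hw h S hdodd hp5 ha hs hs2
  obtain ⟨A, hAN, hAc, hA2⟩ := V.exists_two_subgroup hw h S hdodd hp5 (by omega) hs
  have hw2 : orderOf w = 2 := hw.order.trans he2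
  have hcent : Subgroup.normalizer (Subgroup.zpowers w : Set G) = Subgroup.centralizer ({w} : Set G) := by
    refine le_antisymm (fun g hg => ?_) (fun g hg => ?_)
    · have := V.half_commute hw h S hg
      rw [he2, Nat.div_self two_pos, pow_one] at this
      exact Subgroup.mem_centralizer_singleton_iff.mpr this.eq
    · refine Subgroup.mem_normalizer_fintype fun v hv => ?_
      obtain ⟨i, rfl⟩ := hv
      refine ⟨i, ?_⟩
      have hc : Commute g (w ^ i) :=
        (show Commute g w from Subgroup.mem_centralizer_singleton_iff.mp hg).zpow_right i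
      show w ^ i = g * w ^ i * g⁻¹
      rw [hc.eq, mul_inv_cancel_right]
  have hpq : p = 2 ^ (s + 1) + 1 := by
    have hm : e * numY D = p - 1 := h.mul_numY
    rw [← ht, hs] at hm
    have : 2 * 2 ^ s = p - 1 := he2 ▸ hm
    rw [pow_succ, mul_comm]
    omega
  have hAeq : A = Subgroup.centralizer ({w} : Set G) := by
    refine Subgroup.eq_of_le_of_card_ge (hcent ▸ hAN) (le_of_eq ?_)
    rw [← hcent, hw.card_normalizer h S, hAc, hs, pow_succ, mul_comm]
    exact congrArg _ he2
  have hG : Nat.card G = (2 ^ (s + 1) + 1) * 2 ^ (s + 1) * (2 ^ (s + 1) - 1) := by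
    have h1 := S.numY_mul_d h (by omega)
    rw [← ht, hs] at h1
    have h2 : S.d = 2 ^ (s + 1) - 1 := by
      have : S.d + 2 = p := he2 ▸ hd
      omega
    have hG2 : Nat.card G = 2 * p * (n * p + 1) := he2 ▸ h.card_G
    rw [hG2, ← h1, ← h2, ← hpq, pow_succ]
    ring
  obtain ⟨F, hF, hFF, hcF, hiso⟩ := psl_of_involution_centralizer (f := s + 1) (by omega) hG hw2
    (fun j hj => by
      obtain ⟨x, hx'⟩ := V.involution_conj hw h S hdodd hp5 hj
      rw [he2, Nat.div_self two_pos, pow_one] at hx'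
      exact ⟨x, hx'⟩)
    (by rw [← hAeq, hAc])
    (fun b hb => by
      by_cases hb1 : b = 1
      · rw [hb1, mul_one]
      · rw [← sq, ← hA2 b (hAeq ▸ hb) hb1, pow_orderOf_eq_one])
  exact Or.inr ⟨s + 1, F, hF, hFF, hcF, hpq, by omega, hiso⟩

theorem Small.classify (h : Small D n e) (hperf : commutator G = ⊤) (hn : 2 * n < p + 3) : Concl p G := by
  refine h.classify_of_sparse hperf (sparse_of_small ?_ (Int.natCast_nonneg n))
  obtain ⟨c, hc⟩ := (Fact.out : p.Prime).odd_of_ne_two (by
    have := h.p_three_le (h.two_le hperf)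
    omega)
  have h1 : 2 * n ≤ p + 1 := by omega
  exact_mod_cast h1

end CfsgLib.Char.FewSylow
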