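import Cfsg.Agent.Lib.Char.Basic
import Mathlib.Algebra.Field.GeomSum

/-!
# Multiplicities in the restriction to a cyclic subgroup
-/

set_option autoImplicit false

namespace CfsgLib.Char.FewSylow

open Cfsg CfsgLib.Char

universe u

variable {G : Type u} [Group G] [Finite G]

/-- The multiplicity of an eigenvalue, from the values on the powers. -/
theorem exists_sum_powers {f : G → ℂ} (hf : IsCharacter G f) (g : G) {ε : ℂ}
    (hε : ε ^ orderOf g = 1) :
    ∃ N : ℕ, ∑ a ∈ Finset.range (orderOf g), ε ^ a * f (g ^ a) = (orderOf g : ℂ) * N := by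
  classical
  obtain ⟨m, ρ, rfl⟩ := hf
  obtain ⟨b, μ, h1, -, h3⟩ := exists_eigen_data ρ g
  refine ⟨(Finset.univ.filter fun i => ε * μ i = 1).card, ?_⟩
  simp only [h3, Finset.mul_sum, ← mul_pow]
  rw [Finset.sum_comm, Finset.sum_congr rfl (g := fun i => if ε * μ i = 1 then (orderOf g : ℂ) else 0)
    fun i _ => ?_, ← Finset.sum_filter, Finset.sum_const, nsmul_eq_mul, mul_comm]
  split_ifs with hi
  · simp [hi]
  · rw [geom_sum_eq hi, mul_pow, hε, h1, one_mul, sub_self, zero_div]

end CfsgLib.Char.FewSylow
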