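import Cfsg.Agent.Lib.Char.FewSylow.Points
import Cfsg.Agent.Lib.Char.FewSylow.Powers
import Cfsg.Agent.Lib.Block.RealBlocks

/-!
# One fixed point per exceptional character

The values of the exceptional characters are `±1` at the elements conjugate into a complement and
`0` at the other regular elements, and the multiplicities in cyclic subgroups leave only the case
`e = 2`, with an elementary abelian centralizer of an involution.
-/

set_option autoImplicit false
set_option linter.unusedSectionVars false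
set_option linter.style.haveILetI false

open scoped ComplexConjugate

namespace CfsgLib.Char.FewSylow

open Cfsg CfsgLib.Char CfsgLib.Block CfsgLib.Block.Cyclic MulAction

universe u

variable {p : ℕ} [Fact p.Prime] {G : Type u} [Group G] [Fintype G] [DecidableEq G]
  {D : CycSetup p G} [Fintype D.K] [Fintype (norm D)] {n e : ℕ}

/-- The values of one exceptional character. -/
structure Values (D : CycSetup p G) (e : ℕ) (w : G) (f : G → ℂ) (d : ℕ) : Prop where
  isChar : IsCharacter G f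
  deg : f 1 = d
  pow : ∀ a : ℕ, w ^ a ≠ 1 → f (w ^ a) = (-1) ^ a
  free : ∀ g : G, ¬ p ∣ orderOf g → (∀ x : G, x⁻¹ * g * x ∉ norm D) → f g = 0
  even : 2 ∣ e

theorem Shape.exists_values (S : Shape D n e) (h : Small D n e) {w : G} (hw : Gen D e w)
    (hn0 : 1 ≤ n) (hx : S.x = 1) (ht : n + 1 = numY D) (hd : S.d + e = p) :
    ∃ f, Values D e w f S.d := by
  classical
  have := Fintype.ofFinite (IrrCharacter G)
  let _ : Fintype ((ZMod p)ˣ ⧸ D.expE) := Fintype.ofFinite _
  obtain ⟨k⟩ : Nonempty ((ZMod p)ˣ ⧸ D.expE) := inferInstance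
  have hm := h.mul_numY
  have he := S.two_le
  have htd := S.numY_mul_d h (by omega)
  have hdne : S.d ≠ n * p + 1 := fun hd' => by
    have h1 : 2 * S.d ≤ numY D * S.d := Nat.mul_le_mul_right _ (by omega)
    omega
  have hsum := h.sum_mN (S.Y k)
  rw [S.fx_Y, hx] at hsum
  obtain ⟨μ₀, hμ₀⟩ : ∃ μ, h.mN (S.Y k) μ ≠ 0 := by
    by_contra hall
    push Not at hall
    rw [Finset.sum_eq_zero fun μ _ => hall μ] at hsum
    exact zero_ne_one hsum
  have hYdz : ¬ (deg (S.Y k) = p * fx D (S.Y k)) := fun hdz =>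
    S.exc_Y_ne h k (by rw [exc, hdz]; push_cast; ring)
  have hYone : S.Y k ≠ Block.oneChar G := fun h1 => by
    have h2 := S.deg_Y k
    rw [h1, deg_one] at h2
    have h4 : 2 * e ≤ numY D * e := Nat.mul_le_mul_right _ (by omega)
    rw [mul_comm (numY D) e] at h4
    omega
  have hμ1 : μ₀ ≠ 1 := fun h1 => hYdz (S.mN_trivial h hYone (h1 ▸ hμ₀)).1
  have hcases : (∀ l, h.mN (S.Y l) μ₀ = 1) ∧ ∀ f, (∀ l, f ≠ S.Y l) → h.mN f μ₀ = 0 := by
    rcases S.mu_cases h hμ1 with ⟨f₀, hd0, -, h0⟩ | ⟨-, h1, h2⟩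
    · exfalso
      refine hμ₀ (h0 _ fun hf => hdne ?_)
      rw [← S.deg_Y k, hf, hd0]
    · exact ⟨h1, h2⟩
  obtain ⟨hY1, hY0⟩ := hcases
  have huniq : ∀ l, ∀ μ, μ ≠ μ₀ → h.mN (S.Y l) μ = 0 := by
    intro l μ hμ
    have h1 := h.sum_mN (S.Y l)
    rw [S.fx_Y, hx, ← Finset.add_sum_erase _ _ (Finset.mem_univ μ₀), hY1 l] at h1
    exact Finset.sum_eq_zero_iff.mp (by omega : ∑ ν ∈ Finset.univ.erase μ₀, h.mN (S.Y l) ν = 0) μ
      (Finset.mem_erase.mpr ⟨hμ, Finset.mem_univ _⟩)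
  -- the conjugate family member
  set Yb := Block.conjChar (S.Y k) with hYb
  have hfb : (Yb : G → ℂ) = fun g => conj ((S.Y k : G → ℂ) g) := rfl
  have hbd : deg Yb = S.d := by
    have h1 := val_one Yb
    rw [hfb] at h1
    simp only [val_one, map_natCast, S.deg_Y] at h1
    exact_mod_cast h1.symm
  have hbf : fx D Yb = 1 := by
    have h1 := h.fixd_eq Yb
    rw [hfb] at h1
    have h2 := h.fixd_eq (S.Y k)
    rw [S.fx_Y, hx] at h2
    simp only [fixd] at h1 h2
    rw [← map_sum, ← map_natCast (starRingEnd ℂ) p, ← map_inv₀, ← map_mul, h2, map_natCast] at h1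
    exact_mod_cast h1.symm
  obtain ⟨l, hl⟩ : ∃ l, Yb = S.Y l := by
    rcases S.cases Yb with h1 | ⟨h1, -⟩ | ⟨-, h1⟩ | h1 | h1
    · exfalso
      have h4 : 2 * e ≤ numY D * e := Nat.mul_le_mul_right _ (by omega)
      rw [h1, deg_one] at hbd
      rw [mul_comm (numY D) e] at h4
      omega
    · exact absurd (hbd ▸ h1) hdne
    · omega
    · exact h1
    · rw [hbf, mul_one] at h1; omega
  have hinv : μ₀⁻¹ = μ₀ := by
    by_contra hne
    have h1 := huniq l μ₀⁻¹ hne
    have h2 := h.mult_conj (S.Y k : G → ℂ) μ₀⁻¹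
    rw [← hfb, hl, show μ₀⁻¹⁻¹ = μ₀ from MonoidHom.ext fun r => inv_inv _, h.mult_mN, h.mult_mN, h1, hY1, map_natCast] at h2
    simp at h2
  have hpw : ∀ a : ℕ, μ₀ (h.act (⟨w, hw.mem⟩ ^ a)) = μ₀ (h.act ⟨w, hw.mem⟩) ^ a := fun a => by
    rw [map_pow, map_pow]
  have hsign : (μ₀ (h.act ⟨w, hw.mem⟩) : ℂ) = -1 := by
    have h2 : (μ₀ (h.act ⟨w, hw.mem⟩) : ℂ) * μ₀ (h.act ⟨w, hw.mem⟩) = 1 := by
      have := congrArg (fun φ : D.expE →* ℂˣ => (φ (h.act ⟨w, hw.mem⟩) : ℂˣ)) hinv
      simp only [MonoidHom.inv_apply] at this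
      rw [← Units.val_mul]
      nth_rewrite 1 [← this]
      rw [inv_mul_cancel, Units.val_one]
    refine (mul_self_eq_one_iff.mp h2).resolve_left fun h1 => hμ1 (MonoidHom.ext fun r => ?_)
    obtain ⟨g, rfl⟩ := h.act_surjective r
    obtain ⟨a, -, hv⟩ := hw.decomp g g.2
    have h3 : h.act ((⟨w, hw.mem⟩ ^ a)⁻¹ * g) = 1 := (h.act_eq_one_iff _).mpr hv
    rw [map_mul, map_inv, inv_mul_eq_one] at h3
    rw [MonoidHom.one_apply, ← h3, hpw, Units.ext_iff, Units.val_pow_eq_pow_val, h1, one_pow,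
      Units.val_one]
  refine ⟨(S.Y k : G → ℂ), isCharacter_irr _, by rw [val_one, S.deg_Y], fun a ha => ?_,
    fun g hg hfree => ?_, ?_⟩
  · have hmem : w ^ a ∈ norm D := (norm D).pow_mem hw.mem a
    rw [← h.sum_mult_of_notMem (isClassFunction_irr (S.Y k)) (g := ⟨w ^ a, hmem⟩)
      (fun hm => ha (hw.inter a hm)), Finset.sum_eq_single μ₀ (fun μ _ hμ => by
        rw [h.mult_mN, huniq k μ hμ, Nat.cast_zero, zero_mul])
      (fun hh => absurd (Finset.mem_univ _) hh), h.mult_mN, hY1, Nat.cast_one, one_mul,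
      show (⟨w ^ a, hmem⟩ : norm D) = ⟨w, hw.mem⟩ ^ a from rfl, hpw, Units.val_pow_eq_pow_val, hsign]
  · have h1 := congrFun (h.expand μ₀) g
    rw [h.indFun_lam_of_notConj μ₀ hfree, Finset.sum_apply] at h1
    rw [← Finset.sum_subset (Finset.subset_univ (Finset.univ.image S.Y)) (fun f _ hf => by
      rw [Pi.smul_apply, h.mult_mN, hY0 f (fun l hl => hf (hl ▸ Finset.mem_image_of_mem _
        (Finset.mem_univ l))), Nat.cast_zero, zero_smul]),
      Finset.sum_image (fun a _ b _ hab => S.inj hab), Finset.sum_congr rfl fun l _ => by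
        rw [Pi.smul_apply, h.mult_mN, hY1, Nat.cast_one, one_smul, S.reg l k g hg],
      Finset.sum_const, nsmul_eq_mul, eq_comm, mul_eq_zero] at h1
    exact h1.resolve_left (Nat.cast_ne_zero.mpr (Finset.card_pos.mpr ⟨k, Finset.mem_univ k⟩).ne')
  · have h1 : (μ₀ (h.act ⟨w, hw.mem⟩) : ℂ) ^ e = 1 := by
      rw [← Units.val_pow_eq_pow_val, ← hpw, show (⟨w, hw.mem⟩ : norm D) ^ e = 1 from
        Subtype.ext (show w ^ e = 1 by rw [← hw.order]; exact pow_orderOf_eq_one w),
        map_one, map_one, Units.val_one]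
    rw [hsign, neg_one_pow_eq_one_iff_even (by norm_num : (-1 : ℂ) ≠ 1)] at h1
    exact h1.two_dvd

namespace Values

variable {w : G} {f : G → ℂ} {d : ℕ} (V : Values D e w f d) (hw : Gen D e w) (h : Small D n e)
include V hw h

theorem isClassFunction : IsClassFunction G f := isClassFunction_of_isCharacter V.isChar

/-- A regular element is conjugate into the complement or has value `0`. -/
theorem cases_value (S : Shape D n e) {g : G} (hg : ¬ p ∣ orderOf g) (hg1 : g ≠ 1) :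
    f g = 0 ∨ ∃ (x : G) (a : ℕ), w ^ a ≠ 1 ∧ x * w ^ a * x⁻¹ = g ∧ f g = (-1) ^ a := by
  by_cases hfree : ∀ x : G, x⁻¹ * g * x ∉ norm D
  · exact Or.inl (V.free g hg hfree)
  · push Not at hfree
    obtain ⟨x, hx⟩ := hfree
    have hQ : x⁻¹ * g * x ∉ D.Q := fun hm => by
      have hne : x⁻¹ * g * x ≠ 1 := fun h1 => hg1 (by
        calc g = x * (x⁻¹ * g * x) * x⁻¹ := by group
          _ = 1 := by rw [h1, mul_one, mul_inv_cancel])
      have := MulEquiv.orderOf_eq (MulAut.conj x⁻¹) g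
      rw [MulAut.conj_apply, inv_inv, orderOf_eq_p D.hQ hm hne] at this
      exact hg (dvd_of_eq this)
    obtain ⟨u, -, a, -, hne, hua⟩ := hw.exists_conj h S hx hQ
    have he : x * u * w ^ a * (x * u)⁻¹ = g := by
      calc x * u * w ^ a * (x * u)⁻¹ = x * (u * w ^ a * u⁻¹) * x⁻¹ := by group
        _ = g := by rw [hua]; group
    refine Or.inr ⟨x * u, a, hne, he, ?_⟩
    rw [← he, V.isClassFunction hw h, V.pow a hne]

theorem value_free_of_not_dvd (S : Shape D n e) {g : G} (hg : ¬ p ∣ orderOf g) (hg1 : g ≠ 1)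
    (hne : ¬ orderOf g ∣ e) : f g = 0 := by
  refine (V.cases_value hw h S hg hg1).resolve_right ?_
  rintro ⟨x, a, -, hxa, -⟩
  refine hne ?_
  have := MulEquiv.orderOf_eq (MulAut.conj x) (w ^ a)
  rw [MulAut.conj_apply, hxa] at this
  rw [this, ← hw.order]
  exact orderOf_pow_dvd a

/-- The two alternating sums over the powers. -/
theorem exists_sums {g : G} (h2 : 2 ∣ orderOf g) :
    (∃ N : ℕ, ∑ a ∈ Finset.range (orderOf g), f (g ^ a) = (orderOf g : ℂ) * N) ∧
      ∃ N : ℕ, ∑ a ∈ Finset.range (orderOf g), (-1 : ℂ) ^ a * f (g ^ a) = (orderOf g : ℂ) * N := by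
  refine ⟨?_, exists_sum_powers V.isChar g (Even.neg_one_pow (even_iff_two_dvd.mpr h2))⟩
  obtain ⟨N, hN⟩ := exists_sum_powers V.isChar g (one_pow (orderOf g))
  exact ⟨N, by simpa using hN⟩

theorem half_pow_ne_one (S : Shape D n e) : w ^ (e / 2) ≠ 1 := fun h1 => by
  have h2 := orderOf_dvd_of_pow_eq_one h1
  rw [hw.order] at h2
  have := Nat.le_of_dvd (by have := S.two_le; omega) h2
  have := S.two_le
  omega

theorem unique_involution (S : Shape D n e) {j : G} (hj : j ∈ Subgroup.zpowers w) (hj2 : j * j = 1)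
    (hj1 : j ≠ 1) : j = w ^ (e / 2) := by
  have he := S.two_le
  have hf : IsOfFinOrder w := isOfFinOrder_of_finite w
  rw [hf.mem_zpowers_iff_mem_range_orderOf, Finset.mem_image] at hj
  obtain ⟨a, ha, rfl⟩ := hj
  rw [Finset.mem_range, hw.order] at ha
  rw [← pow_add] at hj2
  obtain ⟨c, hc⟩ := orderOf_dvd_of_pow_eq_one hj2
  rw [hw.order] at hc
  have ha0 : a ≠ 0 := fun h0 => hj1 (by rw [h0, pow_zero])
  have hc1 : c = 1 := by
    rcases (show c = 0 ∨ c = 1 ∨ 2 ≤ c by omega) with h0 | h0 | h0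
    · rw [h0, mul_zero] at hc; omega
    · exact h0
    · have : e * 2 ≤ e * c := Nat.mul_le_mul_left e h0
      omega
  rw [hc1, mul_one] at hc
  congr 1
  omega

theorem orderOf_half (S : Shape D n e) : orderOf (w ^ (e / 2)) = 2 := by
  refine orderOf_eq_prime ?_ (V.half_pow_ne_one hw h S)
  rw [← pow_mul, Nat.div_mul_cancel V.even, ← hw.order, pow_orderOf_eq_one]

theorem half_commute (S : Shape D n e) {q : G}
    (hq : q ∈ Subgroup.normalizer (Subgroup.zpowers w : Set G)) : Commute q (w ^ (e / 2)) := by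
  have hi : q * w ^ (e / 2) * q⁻¹ ∈ Subgroup.zpowers w :=
    (Subgroup.mem_normalizer_iff.mp hq _).mp (pow_mem (Subgroup.mem_zpowers w) _)
  have h2 : q * w ^ (e / 2) * q⁻¹ * (q * w ^ (e / 2) * q⁻¹) = 1 := by
    rw [show q * w ^ (e / 2) * q⁻¹ * (q * w ^ (e / 2) * q⁻¹) = q * (w ^ (e / 2) * w ^ (e / 2)) * q⁻¹ by
      group, ← sq, orderOf_dvd_iff_pow_eq_one.mp (V.orderOf_half hw h S).dvd, mul_one, mul_inv_cancel]
  have h3 := V.unique_involution hw h S hi h2 (fun h4 => V.half_pow_ne_one hw h S (conj_eq_one_iff.mp h4))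
  exact mul_inv_eq_iff_eq_mul.mp h3

/-- No odd prime divides the number of exceptional characters. -/
theorem two_power (S : Shape D n e) (ht : n + 1 = numY D) {a : ℕ} (ha : e = 2 + a * (n + 1))
    {l : ℕ} (hl : l.Prime) (hdvd : l ∣ n + 1) : l = 2 := by
  classical
  by_contra hl2
  have hp : p.Prime := Fact.out
  have hle : ¬ l ∣ e := fun hd => hl2 ((Nat.prime_dvd_prime_iff_eq hl Nat.prime_two).mp
    ((Nat.dvd_add_left (hdvd.mul_left a)).mp (ha ▸ hd)))
  have hlp : l < p := by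
    have h1 := Nat.le_of_dvd h.numY_pos (ht ▸ hdvd)
    have h2 : numY D ≤ e * numY D := Nat.le_mul_of_pos_left _ h.e_pos
    have := h.mul_numY
    have := hp.two_le
    omega
  haveI := Fact.mk hl
  have hH : l ∣ Nat.card (Subgroup.normalizer (Subgroup.zpowers w : Set G)) := by
    rw [hw.card_normalizer h S]
    exact hdvd.mul_left e
  obtain ⟨q, hq⟩ := exists_prime_orderOf_dvd_card' l hH
  set i := w ^ (e / 2) with hi
  have hc : Commute (q : G) i := V.half_commute hw h S q.2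
  have hqo : orderOf (q : G) = l := by rw [Subgroup.orderOf_coe, hq]
  have hio : orderOf i = 2 := V.orderOf_half hw h S
  have hcop : Nat.Coprime l 2 := (Nat.coprime_primes hl Nat.prime_two).mpr hl2
  set g := (q : G) * i with hg
  have hgo : orderOf g = l * 2 := by
    rw [hg, hc.orderOf_mul_eq_mul_orderOf_of_coprime (hqo.symm ▸ hio.symm ▸ hcop), hqo, hio]
  have hgl : g ^ l = i := by
    obtain ⟨b, hb⟩ := hl.odd_of_ne_two hl2
    rw [hg, hc.mul_pow]
    conv_lhs => rw [← hqo, pow_orderOf_eq_one, one_mul, hqo]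
    rw [hb, pow_succ, pow_mul, orderOf_dvd_iff_pow_eq_one.mp hio.dvd, one_pow, one_mul]
  obtain ⟨⟨N, hN⟩, ⟨M, hM⟩⟩ := V.exists_sums hw h (g := g) (hgo ▸ dvd_mul_left 2 l)
  have hzero : ∀ b ∈ Finset.range (orderOf g), b ≠ 0 ∧ b ≠ l → f (g ^ b) = 0 := by
    rintro b hb ⟨hb0, hbl⟩
    rw [Finset.mem_range, hgo] at hb
    have hne : g ^ b ≠ 1 := fun h1 => by
      have := Nat.le_of_dvd (Nat.pos_of_ne_zero hb0) (orderOf_dvd_of_pow_eq_one h1)
      omega
    refine V.value_free_of_not_dvd hw h S (fun hd => ?_) hne fun hd => ?_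
    · have h1 : p ∣ l * 2 := hgo ▸ hd.trans (orderOf_pow_dvd b)
      rcases hp.dvd_mul.mp h1 with h2 | h2
      · exact absurd (Nat.le_of_dvd hl.pos h2) (by omega)
      · have h3 := (Nat.prime_dvd_prime_iff_eq hp Nat.prime_two).mp h2
        have := hl.two_le
        omega
    · refine hle (dvd_trans ?_ hd)
      by_contra hnd
      have h1 : orderOf (g ^ b) ∣ 2 :=
        ((Nat.Prime.coprime_iff_not_dvd hl).mpr hnd).symm.dvd_of_dvd_mul_left
          (hgo ▸ orderOf_pow_dvd b)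
      have h2 : g ^ (b * 2) = 1 := by rw [pow_mul]; exact orderOf_dvd_iff_pow_eq_one.mp h1
      have h3 := orderOf_dvd_of_pow_eq_one h2
      rw [hgo] at h3
      obtain ⟨c, hc'⟩ := Nat.dvd_of_mul_dvd_mul_right (by norm_num) h3
      rcases (show c = 0 ∨ c = 1 ∨ 2 ≤ c by omega) with h0 | h0 | h0
      · rw [h0, mul_zero] at hc'; exact hb0 hc'
      · rw [h0, mul_one] at hc'; exact hbl hc'
      · have : l * 2 ≤ l * c := Nat.mul_le_mul_left l h0
        omega
  have hl' := hl.two_le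
  rw [Finset.sum_eq_add (0 : ℕ) l (by omega) hzero (fun h0 => absurd (Finset.mem_range.mpr (by omega)) h0)
    (fun h0 => absurd (Finset.mem_range.mpr (by omega)) h0)] at hN
  rw [Finset.sum_eq_add (0 : ℕ) l (by omega) (fun b hb hbb => by rw [hzero b hb hbb, mul_zero])
    (fun h0 => absurd (Finset.mem_range.mpr (by omega)) h0)
    (fun h0 => absurd (Finset.mem_range.mpr (by omega)) h0)] at hM
  simp only [pow_zero, one_mul, V.deg, hgl, (hl.odd_of_ne_two hl2).neg_one_pow, hgo,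
    hi, V.pow _ (V.half_pow_ne_one hw h S)] at hN hM
  have hN' : (d : ℤ) + (-1) ^ (e / 2) = (l * 2 : ℕ) * N := by exact_mod_cast hN
  have hM' : (d : ℤ) + -1 * (-1) ^ (e / 2) = (l * 2 : ℕ) * M := by exact_mod_cast hM
  have h1 : (l : ℤ) ∣ (-1) ^ (e / 2) := by
    refine ⟨(N : ℤ) - M, ?_⟩
    push_cast at hN' hM'
    linarith [mul_sub (l : ℤ) (N : ℤ) (M : ℤ)]
  have h2 : IsUnit ((l : ℤ)) := isUnit_of_dvd_unit h1 (IsUnit.pow _ isUnit_one.neg)
  rw [Int.isUnit_iff] at h2
  omega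

end Values

end CfsgLib.Char.FewSylow
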