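import Cfsg.Agent.Lib.Char.FewSylow.Normalizer
import Cfsg.Agent.Lib.Char.Induction
import Cfsg.Agent.Lib.Char.Perm
import Cfsg.Agent.Lib.BSW.CharTools

/-!
# Multiplicities of the linear characters of the normalizer

`h.mult f μ` is the multiplicity in the restriction of `f` of the linear character of the
normalizer belonging to `μ`; `fixd D f` is the dimension of the fixed space of the subgroup.
-/

set_option autoImplicit false
set_option linter.unusedSectionVars false
set_option linter.style.haveILetI false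

open scoped ComplexConjugate

namespace CfsgLib.Char.FewSylow

open Cfsg CfsgLib.Char CfsgLib.Block.Cyclic

universe u

variable {p : ℕ} [Fact p.Prime] {G : Type u} [Group G] [Fintype G] [DecidableEq G]

/-- The dimension of the fixed points of the subgroup. -/
noncomputable def fixd (D : CycSetup p G) (f : G → ℂ) : ℂ :=
  (p : ℂ)⁻¹ * ∑ i : ZMod p, f (D.xp i)

theorem p_cast_ne_zero : (p : ℂ) ≠ 0 := Nat.cast_ne_zero.mpr (Fact.out : p.Prime).ne_zero

theorem p_mul_fixd (D : CycSetup p G) (f : G → ℂ) :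
    (p : ℂ) * fixd D f = ∑ i : ZMod p, f (D.xp i) := by
  rw [fixd, ← mul_assoc, mul_inv_cancel₀ p_cast_ne_zero, one_mul]

/-- The exponents form a finite group. -/
noncomputable scoped instance instFintypeExpE (D : CycSetup p G) [Fintype D.K] : Fintype D.expE :=
  Fintype.ofFinite _

namespace Small

variable {D : CycSetup p G} [Fintype D.K] [Fintype (norm D)] {n e : ℕ} (h : Small D n e)

/-- The linear character of the normalizer belonging to a character of its action. -/
noncomputable def lam (μ : D.expE →* ℂˣ) : norm D → ℂ := fun g => (μ (h.act g) : ℂ)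

/-- The multiplicity of a linear character of the normalizer. -/
noncomputable def mult (f : G → ℂ) (μ : D.expE →* ℂˣ) : ℂ :=
  classInner (fun g : norm D => f g) (h.lam μ)

include h

theorem isCharacter_lam (μ : D.expE →* ℂˣ) : IsCharacter (norm D) (h.lam μ) :=
  isCharacter_of_isIrr (isIrrCharacter_lin (μ.comp h.act))

theorem mult_nat {f : G → ℂ} (hf : IsCharacter G f) (μ : D.expE →* ℂˣ) : ∃ m : ℕ, h.mult f μ = m :=
  classInner_isCharacter (isCharacter_comp hf (norm D).subtype) (h.isCharacter_lam μ)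

/-- The coset of an element of the normalizer. -/
theorem sum_coset (f : G → ℂ) (g : norm D) :
    ∑ k ∈ Finset.univ.filter (fun k => h.act k = h.act g), f (k : G) =
      ∑ i : ZMod p, f ((g : G) * D.xp i) := by
  classical
  refine (Finset.sum_bij
    (fun i _ => (⟨(g : G) * D.xp i, mul_mem g.2 (D.Q.le_normalizer (D.xp_mem i))⟩ : norm D))
    (fun i _ => ?_) (fun a _ b _ hab => ?_) (fun k hk => ?_) (fun _ _ => rfl)).symm
  · refine Finset.mem_filter.mpr ⟨Finset.mem_univ _, ?_⟩
    rw [← inv_mul_eq_one, ← map_inv, ← map_mul, h.act_eq_one_iff]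
    have e : ((g : G) * D.xp i)⁻¹ * (g : G) = (D.xp i)⁻¹ := by group
    show ((g : G) * D.xp i)⁻¹ * (g : G) ∈ D.Q
    rw [e]
    exact D.Q.inv_mem (D.xp_mem i)
  · exact D.xp_injective (mul_left_cancel (congrArg Subtype.val hab))
  · have h1 : h.act (g⁻¹ * k) = 1 := by
      rw [map_mul, map_inv, (Finset.mem_filter.mp hk).2, inv_mul_cancel]
    obtain ⟨i, hi⟩ := D.exists_xp_eq ((h.act_eq_one_iff _).mp h1)
    refine ⟨i, Finset.mem_univ _, Subtype.ext ?_⟩
    show (g : G) * D.xp i = k
    rw [hi]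
    show (g : G) * ((g : G)⁻¹ * k) = k
    rw [mul_inv_cancel_left]

theorem sum_mult_coset (f : G → ℂ) (g : norm D) :
    ∑ μ : D.expE →* ℂˣ, h.mult f μ * (μ (h.act g) : ℂ) =
      (p : ℂ)⁻¹ * ∑ i : ZMod p, f ((g : G) * D.xp i) := by
  classical
  rw [← h.sum_coset f g]
  simp only [mult, classInner, lam, BSW.dual_conj, Finset.sum_mul, Finset.mul_sum, mul_assoc,
    ← Units.val_mul, ← map_mul]
  rw [Finset.sum_comm, Finset.sum_filter]
  refine Finset.sum_congr rfl fun k _ => ?_
  split_ifs with hk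
  · simp only [hk, inv_mul_cancel, map_one, Units.val_one, mul_one, Finset.sum_const,
      Finset.card_univ, ← Nat.card_eq_fintype_card, BSW.card_dual, h.card_expE, nsmul_eq_mul,
      h.card_norm]
    have he : (e : ℂ) ≠ 0 := Nat.cast_ne_zero.mpr h.e_pos.ne'
    have := p_cast_ne_zero (p := p)
    push_cast
    field_simp
  · rw [← Finset.mul_sum, ← Finset.mul_sum, BSW.sum_dual, mul_zero, mul_zero]
    exact fun e => hk (inv_mul_eq_one.mp e)

theorem sum_mult_of_mem {f : G → ℂ} {g : norm D} (hg : (g : G) ∈ D.Q) :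
    ∑ μ : D.expE →* ℂˣ, h.mult f μ * (μ (h.act g) : ℂ) = fixd D f := by
  rw [h.sum_mult_coset, fixd]
  congr 1
  obtain ⟨j, hj⟩ := D.exists_xp_eq hg
  simp only [← hj, ← D.xp_add]
  exact Fintype.sum_bijective _ (AddGroup.addLeft_bijective j) _ _ fun i => rfl

theorem sum_mult_of_notMem {f : G → ℂ} (hf : IsClassFunction G f) {g : norm D}
    (hg : (g : G) ∉ D.Q) : ∑ μ : D.expE →* ℂˣ, h.mult f μ * (μ (h.act g) : ℂ) = f g := by
  rw [h.sum_mult_coset, Finset.sum_congr rfl fun i _ => show f ((g : G) * D.xp i) = f g by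
    obtain ⟨u, _, hu⟩ := h.exists_conj g.2 hg (D.xp_mem i)
    rw [← hu, hf], Finset.sum_const, Finset.card_univ, ZMod.card, nsmul_eq_mul, ← mul_assoc,
    inv_mul_cancel₀ p_cast_ne_zero, one_mul]

theorem sum_mult (f : G → ℂ) : ∑ μ : D.expE →* ℂˣ, h.mult f μ = fixd D f := by
  rw [← h.sum_mult_of_mem (g := 1) (D.Q.one_mem)]
  simp

theorem mult_eq_zero_of_fixd {f : G → ℂ} (hf : IsCharacter G f) (h0 : fixd D f = 0)
    (μ : D.expE →* ℂˣ) : h.mult f μ = 0 := by
  classical
  choose m hm using h.mult_nat hf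
  rw [← h.sum_mult f] at h0
  simp only [hm, ← Nat.cast_sum, Nat.cast_eq_zero] at h0
  rw [hm, Nat.cast_eq_zero]
  exact Finset.sum_eq_zero_iff.mp h0 μ (Finset.mem_univ μ)

theorem mult_one (μ : D.expE →* ℂˣ) [Decidable (μ = 1)] :
    h.mult (fun _ => 1) μ = if μ = 1 then 1 else 0 := by
  classical
  have e1 : (fun _ : norm D => (1 : ℂ)) =
      ((⟨_, isIrrCharacter_one⟩ : IrrCharacter (norm D)) : norm D → ℂ) := rfl
  have e2 : h.lam μ =
      ((⟨_, isIrrCharacter_lin (μ.comp h.act)⟩ : IrrCharacter (norm D)) : norm D → ℂ) := rfl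
  rw [mult, e1, e2, classInner_irr]
  refine if_congr ⟨fun e => ?_, fun e => ?_⟩ rfl rfl
  · refine MonoidHom.ext fun r => Units.ext ?_
    obtain ⟨g, rfl⟩ := h.act_surjective r
    exact (congrFun (congrArg Subtype.val e) g).symm
  · subst e
    exact Subtype.ext (funext fun g => by simp)

theorem mult_conj (f : G → ℂ) (μ : D.expE →* ℂˣ) :
    h.mult (fun g => conj (f g)) μ = conj (h.mult f μ⁻¹) := by
  simp only [mult, classInner, lam, map_mul, map_inv₀, map_natCast, map_sum]
  congr 1
  refine Finset.sum_congr rfl fun g _ => ?_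
  congr 1
  rw [Complex.conj_conj, MonoidHom.inv_apply, ← map_inv, ← BSW.dual_conj]

theorem mult_congr {f f' : G → ℂ} (hout : ∀ g ∈ norm D, g ∉ D.Q → f g = f' g)
    (hfix : fixd D f = fixd D f') (μ : D.expE →* ℂˣ) : h.mult f μ = h.mult f' μ := by
  classical
  simp only [mult, classInner]
  congr 1
  rw [← Finset.sum_filter_add_sum_filter_not Finset.univ (fun g : norm D => h.act g = h.act 1)]
  conv_rhs => rw [← Finset.sum_filter_add_sum_filter_not Finset.univ (fun g : norm D => h.act g = h.act 1)]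
  congr 1
  · have key : ∀ φ : G → ℂ, ∑ g ∈ Finset.univ.filter (fun g : norm D => h.act g = h.act 1),
        φ (g : G) * conj (h.lam μ g) = (p : ℂ) * fixd D φ := by
      intro φ
      rw [Finset.sum_congr rfl fun (g : norm D) hg => show φ (g : G) * conj (h.lam μ g) = φ (g : G) by
        rw [lam, (Finset.mem_filter.mp hg).2, map_one, map_one, Units.val_one, map_one, mul_one],
        h.sum_coset φ 1, p_mul_fixd]
      simp
    rw [key, key, hfix]
  · refine Finset.sum_congr rfl fun g hg => ?_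
    rw [hout g g.2]
    intro hm
    exact (Finset.mem_filter.mp hg).2 (((h.act_eq_one_iff g).mpr hm).trans (map_one _).symm)

/-! ### The induced characters -/

theorem mem_norm_of_conj {i : ZMod p} (hi : i ≠ 0) {x : G} (hx : x⁻¹ * D.xp i * x ∈ norm D) :
    x⁻¹ * D.xp i * x ∈ D.Q ∧ x ∈ norm D := by
  have ho : orderOf (x⁻¹ * D.xp i * x) = p := by
    have := MulEquiv.orderOf_eq (MulAut.conj x⁻¹) (D.xp i)
    rw [MulAut.conj_apply, inv_inv] at this
    rw [this, orderOf_eq_p D.hQ (D.xp_mem i) (D.xp_ne_one hi)]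
  have hQ := h.mem_Q_of_dvd hx (by rw [ho])
  obtain ⟨j, hj⟩ := D.exists_xp_eq hQ
  refine ⟨hQ, ?_⟩
  rw [← inv_inv x]
  refine inv_mem (Subgroup.mem_normalizer_fintype fun v hv => ?_)
  have hz : Subgroup.zpowers (D.xp i) = D.Q :=
    Subgroup.eq_of_le_of_card_ge (Subgroup.zpowers_le.mpr (D.xp_mem i)) (by
      rw [D.hQ, Nat.card_zpowers, orderOf_eq_p D.hQ (D.xp_mem i) (D.xp_ne_one hi)])
  rw [← hz] at hv
  obtain ⟨k, rfl⟩ := hv
  rw [inv_inv, show x⁻¹ * D.xp i ^ k * x = (x⁻¹ * D.xp i * x) ^ k from by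
    simpa using (conj_zpow (a := x⁻¹) (b := D.xp i) (i := k)).symm]
  exact D.Q.zpow_mem hQ k

theorem indFun_lam_xp (μ : D.expE →* ℂˣ) {i : ZMod p} (hi : i ≠ 0) :
    indFun (norm D) (h.lam μ) (D.xp i) = 1 := by
  classical
  rw [indFun, Finset.sum_congr rfl (g := fun x => if x ∈ norm D then (1 : ℂ) else 0) fun x _ => ?_,
    Finset.sum_boole]
  · have hc : (Finset.univ.filter fun x => x ∈ norm D).card = Nat.card (norm D) := by
      rw [Nat.card_eq_fintype_card, Fintype.card_subtype]
    rw [hc, inv_mul_cancel₀]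
    exact Nat.cast_ne_zero.mpr Nat.card_pos.ne'
  · split_ifs with hx
    · have hm : x⁻¹ * D.xp i * x ∈ D.Q := by
        have := (Subgroup.mem_normalizer_iff''.mp hx (D.xp i)).mp (D.xp_mem i)
        exact this
      rw [extendByZero_mem _ _ (D.Q.le_normalizer hm), lam]
      rw [show h.act ⟨_, D.Q.le_normalizer hm⟩ = 1 from (h.act_eq_one_iff _).mpr hm, map_one,
        Units.val_one]
    · exact extendByZero_not_mem _ _ fun hm => hx (h.mem_norm_of_conj hi hm).2

theorem indFun_lam_one (μ : D.expE →* ℂˣ) : indFun (norm D) (h.lam μ) 1 = n * p + 1 := by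
  rw [indFun_one, h.index, lam, map_one, map_one, Units.val_one, mul_one]
  push_cast
  ring

theorem indFun_lam_of_notConj (μ : D.expE →* ℂˣ) {g : G} (hg : ∀ x : G, x⁻¹ * g * x ∉ norm D) :
    indFun (norm D) (h.lam μ) g = 0 := by
  rw [indFun, Finset.sum_eq_zero fun x _ => extendByZero_not_mem _ _ (hg x), mul_zero]

theorem fixd_indFun (μ : D.expE →* ℂˣ) : fixd D (indFun (norm D) (h.lam μ)) = n + 1 := by
  classical
  have hp := p_cast_ne_zero (p := p)
  rw [fixd, ← Finset.add_sum_erase _ _ (Finset.mem_univ (0 : ZMod p)), D.xp_zero, h.indFun_lam_one,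
    Finset.sum_congr rfl fun i hi => h.indFun_lam_xp μ (Finset.mem_erase.mp hi).1, Finset.sum_const,
    Finset.card_erase_of_mem (Finset.mem_univ _), Finset.card_univ, ZMod.card, nsmul_eq_mul,
    Nat.cast_sub (Fact.out : p.Prime).one_lt.le]
  field_simp
  push_cast
  ring

/-- Reciprocity. -/
theorem expand [Fintype (IrrCharacter G)] (μ : D.expE →* ℂˣ) :
    indFun (norm D) (h.lam μ) =
      ∑ f : IrrCharacter G, h.mult (f : G → ℂ) μ • (f : G → ℂ) := by
  rw [classFun_expand (isClassFunction_indFun (norm D) (h.lam μ))]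
  refine Finset.sum_congr rfl fun f _ => ?_
  congr 1
  obtain ⟨m, hm⟩ := h.mult_nat (isCharacter_irr f) μ
  rw [classInner_indFun _ _ _ (isClassFunction_irr f), ← classInner_conj, ← mult, hm, map_natCast]

theorem sum_mult_mul_degree [Fintype (IrrCharacter G)] (μ : D.expE →* ℂˣ) :
    ∑ f : IrrCharacter G, h.mult (f : G → ℂ) μ * (f : G → ℂ) 1 = n * p + 1 := by
  rw [← h.indFun_lam_one μ, h.expand μ]
  simp [Finset.sum_apply]

theorem sum_mult_mul_fixd [Fintype (IrrCharacter G)] (μ : D.expE →* ℂˣ) :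
    ∑ f : IrrCharacter G, h.mult (f : G → ℂ) μ * fixd D (f : G → ℂ) = n + 1 := by
  rw [← h.fixd_indFun μ, h.expand μ]
  simp only [fixd, Finset.sum_apply, Pi.smul_apply, smul_eq_mul]
  rw [Finset.sum_comm, Finset.mul_sum]
  refine Finset.sum_congr rfl fun f _ => ?_
  rw [← Finset.mul_sum]
  ring

/-- The permutation character on the cosets of the normalizer. -/
theorem permChar_eq : permChar G (G ⧸ norm D) = indFun (norm D) (h.lam 1) := by
  rw [permChar_eq_indFun (G ⧸ norm D) (((1 : G) : G ⧸ norm D))]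
  have hs : MulAction.stabilizer G (((1 : G) : G ⧸ norm D)) = norm D :=
    MulAction.stabilizer_quotient _
  have key : ∀ (S : Subgroup G), S = norm D →
      indFun S (fun _ => (1 : ℂ)) = indFun (norm D) (h.lam 1) := by
    rintro _ rfl
    congr 1
  exact key _ hs

end Small

end CfsgLib.Char.FewSylow
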