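import Cfsg.Agent.Lib.Block.Cyclic.SylowSetup
import Cfsg.Agent.Lib.Char.Linear

/-!
# The normalizer of a self-centralizing subgroup of prime order

`Small D n e`: the subgroup of order `p` of the set-up is self-centralizing, its normalizer has
order `e p` and index `n p + 1`.
-/

set_option autoImplicit false
set_option linter.unusedSectionVars false
set_option linter.style.haveILetI false

namespace CfsgLib.Char.FewSylow

open Cfsg CfsgLib.Char CfsgLib.Block.Cyclic

universe u

variable {p : ℕ} [Fact p.Prime] {G : Type u} [Group G] [Fintype G] [DecidableEq G]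

/-- The normalizer of the subgroup of the set-up. -/
abbrev norm (D : CycSetup p G) : Subgroup G := Subgroup.normalizer (D.Q : Set G)

/-- A self-centralizing Sylow subgroup of order `p` with the parameters `n` and `e`. -/
structure Small (D : CycSetup p G) (n e : ℕ) : Prop where
  cent : Subgroup.centralizer (D.Q : Set G) = D.Q
  card_norm : Nat.card (norm D) = e * p
  index : (norm D).index = n * p + 1

namespace Small

variable {D : CycSetup p G} [Fintype D.K] {n e : ℕ} (h : Small D n e)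
include h

theorem card_G : Nat.card G = e * p * (n * p + 1) := by
  rw [← h.index, ← h.card_norm, Subgroup.card_mul_index]

theorem e_pos : 0 < e := by
  refine Nat.pos_of_ne_zero fun h0 => ?_
  have := h.card_norm
  rw [h0, zero_mul] at this
  exact Nat.card_pos.ne' this

theorem mem_Q_of_commute {i : ZMod p} (hi : i ≠ 0) {g : G} (hg : Commute g (D.xp i)) : g ∈ D.Q := by
  rw [← h.cent]
  exact (mem_centralizer_iff_commute D.hQ (D.xp_mem i) (D.xp_ne_one hi) g).mpr hg

theorem K_eq_one (y : D.K) : (y : G) = 1 := by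
  obtain ⟨hy, hp⟩ := (D.hK (y : G)).mp y.2
  rw [h.cent] at hy
  by_contra hne
  exact hp (by rw [orderOf_eq_p D.hQ hy hne])

theorem phi_one (y : D.K) : (D.φ : D.K → ℂ) y = 1 := by
  have hy : ∀ z : D.K, z = 1 := fun z => Subtype.ext (h.K_eq_one z)
  rw [hy y]
  exact degree_one_of_comm (fun a b => by rw [hy a, hy b]) D.φ

theorem stab_eq : D.stab = norm D := D.stab_eq_normalizer h.phi_one

theorem card_expE : Nat.card D.expE = e := by
  rw [D.card_expE, h.stab_eq, h.cent]
  have h1 := Subgroup.relIndex_mul_index (D.Q.le_normalizer)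
  have h2 := D.Q.card_mul_index
  rw [D.hQ, h.card_G, h.index] at *
  have hp := (Fact.out : p.Prime).pos
  have : p * (D.Q.relIndex (norm D) * (n * p + 1)) = p * (e * (n * p + 1)) := by
    rw [h1, h2]; ring
  exact mul_right_cancel₀ (Nat.succ_ne_zero (n * p)) (mul_left_cancel₀ hp.ne' this)

theorem e_dvd : e ∣ p - 1 := by
  rw [← h.card_expE, ← Nat.totient_prime (Fact.out : p.Prime), ← ZMod.card_units_eq_totient p,
    ← Nat.card_eq_fintype_card]
  exact Subgroup.card_subgroup_dvd_card _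

theorem expo_mem (g : norm D) : D.expo g ∈ D.expE :=
  ⟨⟨g, by rw [h.stab_eq]; exact g.2⟩, rfl⟩

/-- The action of the normalizer, with values in the group of exponents. -/
noncomputable def act : norm D →* D.expE := D.expo.codRestrict _ h.expo_mem

theorem act_eq_one_iff (g : norm D) : h.act g = 1 ↔ (g : G) ∈ D.Q := by
  have hiff := D.expo_eq_one_iff g
  rw [h.cent] at hiff
  rw [← hiff, Subtype.ext_iff]
  rfl

theorem act_surjective : Function.Surjective h.act := by
  rintro ⟨r, ⟨t, ht⟩, rfl⟩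
  exact ⟨⟨t, D.stab_le ht⟩, rfl⟩

theorem pow_e_mem (g : norm D) : ((g : G)) ^ e ∈ D.Q := by
  have h1 : h.act (g ^ e) = 1 := by
    rw [map_pow]
    refine orderOf_dvd_iff_pow_eq_one.mp ?_
    have h2 := orderOf_dvd_natCard (h.act g)
    have h3 := h.card_expE
    exact h2.trans (dvd_of_eq h3)
  exact (h.act_eq_one_iff _).mp h1

/-- Outside the subgroup, the normalizer acts fixed point freely. -/
theorem eq_one_of_commute {g : G} (hg : g ∉ D.Q) {v : G} (hv : v ∈ D.Q) (hc : Commute g v) : v = 1 := by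
  obtain ⟨i, rfl⟩ := D.exists_xp_eq hv
  by_cases hi : i = 0
  · rw [hi, D.xp_zero]
  · exact absurd (h.mem_Q_of_commute hi hc) hg

theorem pow_e_eq_one {g : G} (hg : g ∈ norm D) (hgQ : g ∉ D.Q) : g ^ e = 1 :=
  h.eq_one_of_commute hgQ (h.pow_e_mem ⟨g, hg⟩) (Commute.self_pow g e)

theorem orderOf_dvd {g : G} (hg : g ∈ norm D) (hgQ : g ∉ D.Q) : orderOf g ∣ e :=
  orderOf_dvd_of_pow_eq_one (h.pow_e_eq_one hg hgQ)

theorem not_dvd_e : ¬ p ∣ e := fun hd => by
  have h1 := Nat.le_of_dvd (by have := (Fact.out : p.Prime).two_le; omega) (hd.trans h.e_dvd)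
  have := (Fact.out : p.Prime).two_le
  omega

theorem regular_of_notMem {g : G} (hg : g ∈ norm D) (hgQ : g ∉ D.Q) :
    ¬ p ∣ orderOf g := fun hd => h.not_dvd_e (hd.trans (h.orderOf_dvd hg hgQ))

/-- The cosets outside the subgroup consist of conjugates. -/
theorem exists_conj {g v : G} (hg : g ∈ norm D) (hgQ : g ∉ D.Q) (hv : v ∈ D.Q) :
    ∃ u ∈ D.Q, u * g * u⁻¹ = g * v := by
  classical
  have hmem : ∀ u : D.Q, g⁻¹ * ((u : G) * g * (u : G)⁻¹) ∈ D.Q := fun u => by
    have h1 := (Subgroup.mem_normalizer_iff''.mp hg (u : G)).mp u.2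
    have : g⁻¹ * ((u : G) * g * (u : G)⁻¹) = g⁻¹ * (u : G) * g * (u : G)⁻¹ := by simp [mul_assoc]
    rw [this]
    exact D.Q.mul_mem h1 (D.Q.inv_mem u.2)
  let f : D.Q → D.Q := fun u => ⟨_, hmem u⟩
  have hinj : Function.Injective f := by
    intro a b hab
    have h1 : (a : G) * g * (a : G)⁻¹ = (b : G) * g * (b : G)⁻¹ :=
      mul_left_cancel (congrArg Subtype.val hab)
    have h2 : Commute g ((b : G)⁻¹ * a) := by
      show g * ((b : G)⁻¹ * a) = (b : G)⁻¹ * a * g
      calc g * ((b : G)⁻¹ * a) = (b : G)⁻¹ * ((b : G) * g * (b : G)⁻¹) * a := by group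
        _ = (b : G)⁻¹ * ((a : G) * g * (a : G)⁻¹) * a := by rw [h1]
        _ = _ := by group
    have h3 := h.eq_one_of_commute hgQ (D.Q.mul_mem (D.Q.inv_mem b.2) a.2) h2
    exact Subtype.ext (inv_mul_eq_one.mp h3).symm
  obtain ⟨u, hu⟩ := (Finite.injective_iff_surjective.mp hinj) ⟨v, hv⟩
  refine ⟨u, u.2, ?_⟩
  have h1 : g⁻¹ * ((u : G) * g * (u : G)⁻¹) = v := congrArg Subtype.val hu
  rw [← h1, mul_inv_cancel_left]

theorem mem_Q_of_dvd {g : G} (hg : g ∈ norm D) (hp : p ∣ orderOf g) : g ∈ D.Q := by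
  by_contra hgQ
  exact h.regular_of_notMem hg hgQ hp

/-- A generator of a complement of the subgroup in its normalizer. -/
theorem exists_gen (he : 2 ≤ e) :
    ∃ w : G, w ∈ norm D ∧ orderOf w = e ∧ w ∉ D.Q ∧ (∀ a : ℕ, w ^ a ∈ D.Q → w ^ a = 1) ∧
      ∀ g ∈ norm D, ∃ a : ℕ, a < e ∧ (w ^ a)⁻¹ * g ∈ D.Q := by
  obtain ⟨r, hr⟩ := IsCyclic.exists_generator (α := D.expE)
  obtain ⟨w, hw⟩ := h.act_surjective r
  have hor : orderOf r = e := by rw [orderOf_eq_card_of_forall_mem_zpowers hr, h.card_expE]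
  have hwQ : (w : G) ∉ D.Q := fun hm => by
    rw [← h.act_eq_one_iff, hw] at hm
    rw [hm, orderOf_one] at hor
    omega
  have hord : orderOf (w : G) = e := by
    refine Nat.dvd_antisymm (h.orderOf_dvd w.2 hwQ) ?_
    rw [← hor, ← hw, Subgroup.orderOf_coe]
    exact orderOf_map_dvd _ w
  refine ⟨w, w.2, hord, hwQ, fun a ha => ?_, fun g hg => ?_⟩
  · exact h.eq_one_of_commute hwQ ha (Commute.self_pow _ a)
  · have hf : IsOfFinOrder r := isOfFinOrder_of_finite r
    have := hr (h.act ⟨g, hg⟩)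
    rw [hf.mem_zpowers_iff_mem_range_orderOf, Finset.mem_image] at this
    obtain ⟨a, ha, hae⟩ := this
    refine ⟨a, by rw [← hor]; exact Finset.mem_range.mp ha, ?_⟩
    have h1 : h.act ((w ^ a)⁻¹ * ⟨g, hg⟩) = 1 := by
      rw [map_mul, map_inv, map_pow, hw, hae, inv_mul_cancel]
    exact (h.act_eq_one_iff _).mp h1

end Small

end CfsgLib.Char.FewSylow
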