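import Mathlib.Tactic.Linarith
import Mathlib.Tactic.Ring
import Mathlib.Tactic.LinearCombination
import Mathlib.Data.Int.Basic

/-!
# Divisors of `e (n p + 1)` congruent to `±1` modulo `p`, for `n` small
-/

set_option autoImplicit false

namespace CfsgLib.Char.FewSylow

/-- A divisor congruent to `1` with positive parameter is the whole of `n p + 1`. -/
theorem plus_eq {e k p n u v : ℤ} (hek : e * k = p - 1) (hk : 1 ≤ k) (hp : 3 ≤ p) (he : 1 ≤ e)
    (hn : 2 * n ≤ p + 1) (hu : 1 ≤ u) (hv : 0 < v) (h : e * (n * p + 1) = (u * p + 1) * v) :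
    u = n ∧ v = e := by
  obtain ⟨w, hw⟩ : ∃ w, w = e * n - u * v := ⟨_, rfl⟩
  have hv' : v = e + w * p := by linear_combination (-1 : ℤ) * h - p * hw
  have hep : e < p := by nlinarith
  have hw0 : 0 ≤ w := by
    by_contra hneg
    have : w * p ≤ -1 * p := mul_le_mul_of_nonneg_right (by omega) (by omega)
    omega
  have key : e * (n - u) = w * (u * p + 1) := by
    rw [hv'] at hw
    linear_combination -hw
  rcases eq_or_lt_of_le hw0 with hw1 | hw1
  · rw [← hw1, zero_mul, mul_eq_zero] at key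
    refine ⟨by omega, ?_⟩
    rw [hv', ← hw1, zero_mul, add_zero]
  · exfalso
    have hpos : 0 < w * (u * p + 1) := mul_pos hw1 (by nlinarith)
    have hnu : 1 ≤ n - u := by
      by_contra hneg
      have : e * (n - u) ≤ 0 := mul_nonpos_of_nonneg_of_nonpos (by omega) (by omega)
      omega
    have hM : (u + 1) * (n - u) = (u * p + 1) * ((n - u) - u * k * w) := by
      linear_combination (n - u) * u * hek - u * k * key
    have hlhs : 0 < (u + 1) * (n - u) := by positivity
    rw [hM] at hlhs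
    have hM1 : 1 ≤ (n - u) - u * k * w := by
      by_contra hneg
      have : (u * p + 1) * ((n - u) - u * k * w) ≤ 0 :=
        mul_nonpos_of_nonneg_of_nonpos (by positivity) (by omega)
      omega
    have hle : u * p + 1 ≤ (u + 1) * (n - u) := by
      rw [hM]
      exact le_mul_of_one_le_right (by positivity) hM1
    nlinarith

/-- A divisor congruent to `-1` is `p - 1`, or has cofactor `1`. -/
theorem minus_eq {e k p n u v : ℤ} (hek : e * k = p - 1) (hk : 1 ≤ k) (hp : 3 ≤ p) (he : 1 ≤ e)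
    (hn : 2 * n ≤ p + 1) (hn0 : 0 ≤ n) (hu : 1 ≤ u) (hv : 0 < v)
    (h : e * (n * p + 1) = (u * p - 1) * v) :
    (u = 1 ∧ ∃ w, 1 ≤ w ∧ n + 1 = w * k) ∨ (k = 1 ∧ v = 1) := by
  obtain ⟨w, hw⟩ : ∃ w, w = u * v - e * n := ⟨_, rfl⟩
  have hv' : v = w * p - e := by linear_combination h - p * hw
  have hw1 : 1 ≤ w := by
    by_contra hneg
    have : w * p ≤ 0 := mul_nonpos_of_nonpos_of_nonneg (by omega) (by omega)
    omega
  have key : e * (n + u) = w * (u * p - 1) := by
    rw [hv'] at hw
    linear_combination hw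
  have hW : (p - 1) * (n + u) = k * w * (u * p - 1) := by
    linear_combination k * key - (n + u) * hek
  rcases eq_or_lt_of_le (one_le_mul_of_one_le_of_one_le hk hw1) with h1 | h1
  · refine Or.inr ⟨?_, ?_⟩
    · nlinarith
    · have hk1 : k = 1 := by nlinarith
      have : w = 1 := by nlinarith
      rw [hv', this]
      rw [hk1] at hek
      omega
  · refine Or.inl ?_
    have hu2 : 2 * u ≤ p - 1 := by
      by_contra hneg
      have h2u : p ≤ 2 * u := by omega
      have heq : u * (k * w * p - p + 1) = (p - 1) * n + k * w := by linear_combination -hW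
      have hpos : 0 ≤ k * w * p - p + 1 := by nlinarith
      have h3 := mul_le_mul_of_nonneg_right h2u hpos
      have h4 : (p - 1) * (2 * n) ≤ (p - 1) * (p + 1) := mul_le_mul_of_nonneg_left hn (by omega)
      rcases eq_or_lt_of_le hp with hp3 | hp4
      · subst hp3
        have hkw : k * w = 2 := by nlinarith
        rw [hkw] at heq
        omega
      · have h5 : 2 * (p * p - 2) ≤ k * w * (p * p - 2) :=
          mul_le_mul_of_nonneg_right (by omega) (by nlinarith)
        nlinarith
    have hu1 : u = 1 := by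
      by_contra hne
      have hM : (u - 1) * (n + u) = (u * p - 1) * (n + u - u * (k * w)) := by
        linear_combination -u * hW
      have hlhs : 0 < (u - 1) * (n + u) := mul_pos (by omega) (by omega)
      rw [hM] at hlhs
      have hup : 0 ≤ u * p - 1 := by nlinarith
      have hM1 : 1 ≤ n + u - u * (k * w) := by
        by_contra hneg
        have : (u * p - 1) * (n + u - u * (k * w)) ≤ 0 :=
          mul_nonpos_of_nonneg_of_nonpos hup (by omega)
        omega
      have hle : u * p - 1 ≤ (u - 1) * (n + u) := by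
        rw [hM]
        exact le_mul_of_one_le_right hup hM1
      nlinarith
    refine ⟨hu1, w, hw1, ?_⟩
    subst hu1
    have h2 : e * (n + 1) = e * (w * k) := by linear_combination key - w * hek
    exact mul_left_cancel₀ (by omega) h2

/-- The divisors of `e (n p + 1)` congruent to `±1` are the ones forced by the principal block. -/
def Sparse (p n : ℤ) : Prop :=
  ∀ e k u v : ℤ, e * k = p - 1 → 1 ≤ k → 3 ≤ p → 1 ≤ e → 1 ≤ u → 0 < v →
    (e * (n * p + 1) = (u * p + 1) * v → u = n ∧ v = e) ∧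
    (e * (n * p + 1) = (u * p - 1) * v → (u = 1 ∧ ∃ w, 1 ≤ w ∧ n + 1 = w * k) ∨ (k = 1 ∧ v = 1))

theorem Sparse.plus {p n : ℤ} (hs : Sparse p n) {e k u v : ℤ} (hek : e * k = p - 1) (hk : 1 ≤ k)
    (hp : 3 ≤ p) (he : 1 ≤ e) (hu : 1 ≤ u) (hv : 0 < v) (h : e * (n * p + 1) = (u * p + 1) * v) :
    u = n ∧ v = e :=
  (hs e k u v hek hk hp he hu hv).1 h

theorem Sparse.minus {p n : ℤ} (hs : Sparse p n) {e k u v : ℤ} (hek : e * k = p - 1) (hk : 1 ≤ k)
    (hp : 3 ≤ p) (he : 1 ≤ e) (hu : 1 ≤ u) (hv : 0 < v) (h : e * (n * p + 1) = (u * p - 1) * v) :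
    (u = 1 ∧ ∃ w, 1 ≤ w ∧ n + 1 = w * k) ∨ (k = 1 ∧ v = 1) :=
  (hs e k u v hek hk hp he hu hv).2 h

theorem sparse_of_small {p n : ℤ} (hn : 2 * n ≤ p + 1) (hn0 : 0 ≤ n) : Sparse p n :=
  fun _ _ _ _ hek hk hp he hu hv => ⟨plus_eq hek hk hp he hn hu hv, minus_eq hek hk hp he hn hn0 hu hv⟩

end CfsgLib.Char.FewSylow
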