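import Cfsg.Agent.Lib.Char.FewSylow.Core

/-!
# The fixed points of a complement

The complement `⟨w⟩` of the subgroup in its normalizer fixes `n + 1` points on the cosets of the
normalizer, and its normalizer is transitive on them.
-/

set_option autoImplicit false
set_option linter.unusedSectionVars false
set_option linter.style.haveILetI false

open scoped ComplexConjugate

namespace CfsgLib.Char.FewSylow

open Cfsg CfsgLib.Char CfsgLib.Block CfsgLib.Block.Cyclic MulAction

universe u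

variable {p : ℕ} [Fact p.Prime] {G : Type u} [Group G] [Fintype G] [DecidableEq G]
  {D : CycSetup p G} [Fintype D.K] [Fintype (norm D)] {n e : ℕ}

/-- A generator of a complement of the subgroup in the normalizer. -/
structure Gen (D : CycSetup p G) (e : ℕ) (w : G) : Prop where
  mem : w ∈ norm D
  order : orderOf w = e
  notMem : w ∉ D.Q
  inter : ∀ a : ℕ, w ^ a ∈ D.Q → w ^ a = 1
  decomp : ∀ g ∈ norm D, ∃ a : ℕ, a < e ∧ (w ^ a)⁻¹ * g ∈ D.Q

theorem Small.exists_Gen (h : Small D n e) (he : 2 ≤ e) : ∃ w, Gen D e w := by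
  obtain ⟨w, h1, h2, h3, h4, h5⟩ := h.exists_gen he
  exact ⟨w, h1, h2, h3, h4, h5⟩

theorem smul_base_eq_iff {g : G} :
    g • ((1 : G) : G ⧸ norm D) = ((1 : G) : G ⧸ norm D) ↔ g ∈ norm D := by
  rw [← mem_stabilizer_iff, MulAction.stabilizer_quotient]

theorem smul_mk_eq_iff {g x : G} :
    g • (x : G ⧸ norm D) = (x : G ⧸ norm D) ↔ x⁻¹ * g * x ∈ norm D := by
  rw [MulAction.Quotient.smul_coe, smul_eq_mul, eq_comm, QuotientGroup.eq, mul_assoc]

namespace Gen

variable {w : G} (hw : Gen D e w) (h : Small D n e) (S : Shape D n e)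
include hw h S

theorem mem_zpowers {g : G} (hg : g ∈ Subgroup.zpowers w) : g ∈ norm D :=
  Subgroup.zpowers_le.mpr hw.mem hg

theorem notMem_of_ne_one {g : G} (hg : g ∈ Subgroup.zpowers w) (hg1 : g ≠ 1) : g ∉ D.Q := by
  obtain ⟨a, rfl⟩ := (mem_powers_iff_mem_zpowers (x := w)).mpr hg
  exact fun hm => hg1 (hw.inter a hm)

/-- An element of the normalizer outside the subgroup is conjugate to an element of the complement. -/
theorem exists_conj {g : G} (hg : g ∈ norm D) (hgQ : g ∉ D.Q) :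
    ∃ u ∈ D.Q, ∃ a : ℕ, a < e ∧ w ^ a ≠ 1 ∧ u * w ^ a * u⁻¹ = g := by
  obtain ⟨a, ha, hv⟩ := hw.decomp g hg
  have hne : w ^ a ∉ D.Q := fun hm => hgQ (by
    have := D.Q.mul_mem hm hv
    rwa [mul_inv_cancel_left] at this)
  obtain ⟨u, hu, hue⟩ := h.exists_conj ((norm D).pow_mem hw.mem a) hne hv
  refine ⟨u, hu, a, ha, fun h1 => hne (h1 ▸ D.Q.one_mem), ?_⟩
  rw [hue, mul_inv_cancel_left]

theorem card_fixedBy {g : G} (hg : g ∈ Subgroup.zpowers w) (hg1 : g ≠ 1) :
    Nat.card (fixedBy (G ⧸ norm D) g) = n + 1 :=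
  S.card_fixedBy h (hw.mem_zpowers h S hg) (hw.notMem_of_ne_one h S hg hg1)

theorem fixedBy_le {g : G} (hg : g ∈ Subgroup.zpowers w) :
    fixedBy (G ⧸ norm D) w ⊆ fixedBy (G ⧸ norm D) g := by
  intro y hy
  have hs : Subgroup.zpowers w ≤ stabilizer G y := Subgroup.zpowers_le.mpr hy
  exact hs hg

theorem fixedBy_eq {g : G} (hg : g ∈ Subgroup.zpowers w) (hg1 : g ≠ 1) :
    fixedBy (G ⧸ norm D) g = fixedBy (G ⧸ norm D) w := by
  classical
  refine (Set.eq_of_subset_of_ncard_le (hw.fixedBy_le h S hg) (le_of_eq ?_) (Set.toFinite _)).symm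
  have hw1 : w ≠ 1 := fun h1 => hw.notMem (h1 ▸ D.Q.one_mem)
  rw [← Nat.card_coe_set_eq, ← Nat.card_coe_set_eq, hw.card_fixedBy h S hg hg1,
    hw.card_fixedBy h S (Subgroup.mem_zpowers w) hw1]

theorem base_mem : ((1 : G) : G ⧸ norm D) ∈ fixedBy (G ⧸ norm D) w := smul_base_eq_iff.mpr hw.mem

/-- The normalizer of the complement in the normalizer of the subgroup is the complement. -/
theorem mem_zpowers_of_normalize {g : G} (hg : g ∈ norm D)
    (hgW : g ∈ Subgroup.normalizer (Subgroup.zpowers w : Set G)) : g ∈ Subgroup.zpowers w := by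
  obtain ⟨a, -, hu⟩ := hw.decomp g hg
  set u := (w ^ a)⁻¹ * g with hu'
  have hwa : w ^ a ∈ Subgroup.zpowers w := pow_mem (Subgroup.mem_zpowers w) a
  have huW : u ∈ Subgroup.normalizer (Subgroup.zpowers w : Set G) :=
    mul_mem (inv_mem (Subgroup.le_normalizer hwa)) hgW
  have h1 : w⁻¹ * (u * w * u⁻¹) ∈ Subgroup.zpowers w :=
    mul_mem (inv_mem (Subgroup.mem_zpowers w))
      ((Subgroup.mem_normalizer_iff.mp huW w).mp (Subgroup.mem_zpowers w))
  have h2 : w⁻¹ * (u * w * u⁻¹) ∈ D.Q := by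
    have h3 : w⁻¹ * u * w ∈ D.Q := (Subgroup.mem_normalizer_iff''.mp hw.mem u).mp hu
    have : w⁻¹ * (u * w * u⁻¹) = w⁻¹ * u * w * u⁻¹ := by simp [mul_assoc]
    rw [this]
    exact D.Q.mul_mem h3 (D.Q.inv_mem hu)
  have h4 : w⁻¹ * (u * w * u⁻¹) = 1 := by
    by_contra hne
    exact hw.notMem_of_ne_one h S h1 hne h2
  have h5 : Commute w u := by
    show w * u = u * w
    calc w * u = w * (w⁻¹ * (u * w * u⁻¹)) * u := by rw [h4, mul_one]
      _ = _ := by group
  have h6 := h.eq_one_of_commute hw.notMem hu h5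
  have : g = w ^ a := by
    rw [hu'] at h6
    exact (inv_mul_eq_one.mp h6).symm
  exact this ▸ hwa

theorem exists_normalize {y : G ⧸ norm D} (hy : y ∈ fixedBy (G ⧸ norm D) w) :
    ∃ g ∈ Subgroup.normalizer (Subgroup.zpowers w : Set G), g • ((1 : G) : G ⧸ norm D) = y := by
  obtain ⟨x, rfl⟩ := QuotientGroup.mk_surjective y
  have hx : x⁻¹ * w * x ∈ norm D := smul_mk_eq_iff.mp hy
  have hxQ : x⁻¹ * w * x ∉ D.Q := fun hm => by
    have ho : orderOf (x⁻¹ * w * x) = e := by
      have := MulEquiv.orderOf_eq (MulAut.conj x⁻¹) w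
      rw [MulAut.conj_apply, inv_inv] at this
      rw [this, hw.order]
    have h1 : x⁻¹ * w * x = 1 := by
      by_contra hne
      rw [orderOf_eq_p D.hQ hm hne] at ho
      exact h.not_dvd_e (dvd_of_eq ho)
    rw [h1, orderOf_one] at ho
    have := S.two_le
    omega
  obtain ⟨u, hu, a, -, -, hua⟩ := hw.exists_conj h S hx hxQ
  refine ⟨x * u, ?_, ?_⟩
  · refine Subgroup.mem_normalizer_fintype fun v hv => ?_
    obtain ⟨j, rfl⟩ := hv
    have hwa : x * u * w ^ a * (x * u)⁻¹ = w := by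
      calc x * u * w ^ a * (x * u)⁻¹ = x * (u * w ^ a * u⁻¹) * x⁻¹ := by group
        _ = x * (x⁻¹ * w * x) * x⁻¹ := by rw [hua]
        _ = w := by group
    have hgen : Subgroup.zpowers (w ^ a) = Subgroup.zpowers w := by
      refine Subgroup.eq_of_le_of_card_ge
        (Subgroup.zpowers_le.mpr (pow_mem (Subgroup.mem_zpowers w) a)) (le_of_eq ?_)
      rw [Nat.card_zpowers, Nat.card_zpowers]
      have := MulEquiv.orderOf_eq (MulAut.conj (x * u)) (w ^ a)
      rw [MulAut.conj_apply, hwa] at this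
      exact this
    have hj : w ^ j ∈ Subgroup.zpowers (w ^ a) := hgen.symm ▸ zpow_mem (Subgroup.mem_zpowers w) j
    obtain ⟨i, hi⟩ := hj
    refine ⟨i, ?_⟩
    show w ^ i = _
    show w ^ i = x * u * w ^ j * (x * u)⁻¹
    rw [← hi]
    conv_lhs => rw [← hwa]
    exact conj_zpow
  · rw [MulAction.Quotient.smul_coe, smul_eq_mul, mul_one, QuotientGroup.eq]
    have : (x * u)⁻¹ * x = u⁻¹ := by group
    rw [this]
    exact inv_mem (D.Q.le_normalizer hu)

theorem smul_mem_fixedBy {g : G} (hg : g ∈ Subgroup.normalizer (Subgroup.zpowers w : Set G))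
    {y : G ⧸ norm D} (hy : y ∈ fixedBy (G ⧸ norm D) w) : g • y ∈ fixedBy (G ⧸ norm D) w := by
  have hm : g⁻¹ * w * g ∈ Subgroup.zpowers w :=
    (Subgroup.mem_normalizer_iff''.mp hg w).mp (Subgroup.mem_zpowers w)
  have h1 : (g⁻¹ * w * g) • y = y := hw.fixedBy_le h S hm hy
  show w • g • y = g • y
  calc w • g • y = g • ((g⁻¹ * w * g) • y) := by rw [smul_smul, smul_smul]; congr 1; group
    _ = g • y := by rw [h1]

/-- The order of the normalizer of the complement. -/
theorem card_normalizer :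
    Nat.card (Subgroup.normalizer (Subgroup.zpowers w : Set G)) = e * (n + 1) := by
  classical
  set H := Subgroup.normalizer (Subgroup.zpowers w : Set G) with hH
  have := Fintype.ofFinite H
  have := Fintype.ofFinite (G ⧸ norm D)
  set y0 : G ⧸ norm D := ((1 : G) : G ⧸ norm D)
  have horb : MulAction.orbit H y0 = fixedBy (G ⧸ norm D) w := by
    ext y
    constructor
    · rintro ⟨g, rfl⟩
      exact hw.smul_mem_fixedBy h S g.2 (hw.base_mem h S)
    · intro hy
      obtain ⟨g, hg, hgy⟩ := hw.exists_normalize h S hy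
      exact ⟨⟨g, hg⟩, hgy⟩
  have hst : Nat.card (stabilizer H y0) = e := by
    rw [← hw.order, ← Nat.card_zpowers]
    have hfix : ∀ g : H, g ∈ stabilizer H y0 ↔ (g : G) ∈ Subgroup.zpowers w := by
      intro g
      rw [mem_stabilizer_iff]
      show (g : G) • y0 = y0 ↔ _
      rw [smul_base_eq_iff]
      exact ⟨fun hg => hw.mem_zpowers_of_normalize h S hg g.2, fun hg => hw.mem_zpowers h S hg⟩
    exact Nat.card_congr
      { toFun := fun g => ⟨(g : H), (hfix g).mp g.2⟩
        invFun := fun g => ⟨⟨g, Subgroup.le_normalizer g.2⟩, (hfix _).mpr g.2⟩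
        left_inv := fun g => rfl
        right_inv := fun g => rfl }
  have := Nat.card_congr (MulAction.orbitProdStabilizerEquivGroup H y0)
  rw [Nat.card_prod, hst, horb, hw.card_fixedBy h S (Subgroup.mem_zpowers w)
    (fun h1 => hw.notMem (h1 ▸ D.Q.one_mem))] at this
  rw [← this, mul_comm]

theorem n_succ_dvd : n + 1 ∣ p * (n * p + 1) := by
  have h1 := Subgroup.card_subgroup_dvd_card (Subgroup.normalizer (Subgroup.zpowers w : Set G))
  rw [hw.card_normalizer h S, h.card_G, mul_assoc] at h1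
  exact Nat.dvd_of_mul_dvd_mul_left h.e_pos h1

end Gen

namespace Shape

variable (S : Shape D n e) (h : Small D n e)
include S h

theorem five_le (hn0 : 1 ≤ n) : 5 ≤ p := by
  have hm := h.mul_numY
  have he := S.two_le
  have hp := (Fact.out : p.Prime)
  have h3 := h.p_three_le he
  by_contra hlt
  have hp3 : p = 3 := by
    rcases (show p = 3 ∨ p = 4 by omega) with h4 | h4
    · exact h4
    · rw [h4] at hp; norm_num at hp
  have hle : e ≤ e * numY D := Nat.le_mul_of_pos_right _ h.numY_pos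
  have he2 : e = 2 := by omega
  have ht : numY D = 1 := by
    have : 2 * numY D = p - 1 := he2 ▸ hm
    omega
  rcases S.alt with ⟨-, -, a, ha⟩ | ⟨hx, -, a, ha⟩
  · rcases Nat.eq_zero_or_pos a with rfl | ha'
    · omega
    · have : n + 1 ≤ a * (n + 1) := Nat.le_mul_of_pos_left _ ha'
      omega
  · rw [ht, mul_one] at hx
    omega

/-- The refined alternatives. -/
theorem alternatives (hn0 : 1 ≤ n) :
    (S.x = 0 ∧ S.d = e ∧ 2 ≤ numY D ∧ ∃ a, e = 1 + a * (n + 1)) ∨
      (S.x = 1 ∧ n + 1 = numY D ∧ S.d + e = p ∧ ∃ a, e = 2 + a * (n + 1)) := by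
  have hp := (Fact.out : p.Prime)
  have h5 := S.five_le h hn0
  obtain ⟨w, hw⟩ := h.exists_Gen S.two_le
  have hdvd := hw.n_succ_dvd h S
  have hlt : n + 1 < p := by
    have hm := h.mul_numY
    have he := S.two_le
    have hY := h.numY_pos
    have h1 : e ≤ e * numY D := Nat.le_mul_of_pos_right _ hY
    rcases S.alt with ⟨-, -, a, ha⟩ | ⟨hx, -, a, ha⟩
    · rcases Nat.eq_zero_or_pos a with rfl | ha'
      · omega
      · have : n + 1 ≤ a * (n + 1) := Nat.le_mul_of_pos_left _ ha'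
        omega
    · have : S.x * numY D ≤ e * numY D := Nat.mul_le_mul_right _ (by omega)
      omega
  have hcop : Nat.Coprime (n + 1) p :=
    ((Nat.Prime.coprime_iff_not_dvd hp).mpr fun hd => by
      have := Nat.le_of_dvd (Nat.succ_pos n) hd; omega).symm
  have h2 : n + 1 ∣ n * p + 1 := hcop.dvd_of_dvd_mul_left hdvd
  have hm := h.mul_numY
  rcases S.alt with ⟨hx, hd, a, ha⟩ | ⟨hx, hd, a, ha⟩
  · refine Or.inl ⟨hx, hd, ?_, a, ha⟩
    have h3 : n + 1 ∣ e * numY D := by
      rw [hm]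
      have h4 : n + 1 ∣ (n + 1) * p := dvd_mul_right _ _
      have h5' := Nat.dvd_sub h4 h2
      have : (n + 1) * p - (n * p + 1) = p - 1 := by
        rw [add_mul, one_mul]; omega
      rwa [this] at h5'
    have hc : Nat.Coprime (n + 1) e := by
      rw [ha]
      exact Nat.coprime_add_mul_right_right (n + 1) 1 a |>.mpr (Nat.coprime_one_right _)
    have := Nat.le_of_dvd h.numY_pos (hc.dvd_of_dvd_mul_left h3)
    omega
  · have hx0 : S.x ≠ 0 := fun h0 => by rw [h0, zero_mul] at hx; omega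
    have hxdvd : S.x ∣ e := by
      have h3 : S.x * numY D ∣ numY D * S.d := by rw [← hx, S.numY_mul_d h hx0]; exact h2
      rw [mul_comm S.x] at h3
      have h4 := Nat.dvd_of_mul_dvd_mul_left h.numY_pos h3
      exact (Nat.dvd_add_right h4).mp (hd ▸ dvd_mul_right S.x p)
    have hx1 : S.x ∣ S.x + a * (n + 1) := Nat.dvd_add dvd_rfl (Dvd.dvd.mul_left ⟨numY D, hx⟩ a)
    have h1 : S.x ∣ 1 := by
      have : S.x ∣ 1 + (S.x + a * (n + 1)) := by rwa [← add_assoc, ← ha]
      exact (Nat.dvd_add_left hx1).mp this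
    have hxe : S.x = 1 := Nat.dvd_one.mp h1
    rw [hxe, one_mul] at hx hd
    exact Or.inr ⟨hxe, hx, hd, a, by rw [ha, hxe]⟩

end Shape

end CfsgLib.Char.FewSylow
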