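import Cfsg.Agent.Lib.Char.FewSylow.Main
import Cfsg.Agent.Lib.Block.Cyclic.LocalMult

/-!
# The principal block with a non-trivial regular part of the centralizer
-/

set_option autoImplicit false
set_option linter.unusedSectionVars false
set_option linter.style.haveILetI false

namespace CfsgLib.Char.FewSylow

open Cfsg CfsgLib.Char CfsgLib.Block CfsgLib.Block.Cyclic

universe u

variable {p : ℕ} [Fact p.Prime] {G : Type u} [Group G] [Fintype G] [DecidableEq G]
  (D : CycSetup p G) [Fintype D.K] [Fintype (Subgroup.centralizer (D.Q : Set G))]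

/-- The multiplicities in the degree. -/
theorem sum_multN (χ : IrrCharacter G) :
    ((∑ j : ZMod p, D.multN χ j : ℕ) : ℤ) = p * D.multN χ 0 + ∑ j : (ZMod p)ˣ, D.vec χ j := by
  rw [sum_zmod_split (fun j => D.multN χ j)]
  simp only [CycSetup.vec, Finset.sum_sub_distrib, Finset.sum_const, Finset.card_univ,
    ZMod.card_units_eq_totient, Nat.totient_prime (Fact.out : p.Prime), nsmul_eq_mul,
    Nat.cast_sub (Fact.out : p.Prime).one_lt.le]
  push_cast
  ring

/-- The degree of a character of a block with trivial character of the regular part. -/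
theorem deg_section {M : Ideal AlgInt} {B : Set (IrrCharacter G)} (h : D.BlockData M B)
    (htriv : ∀ y, (D.φ : D.K → ℂ) y = 1) {χ : IrrCharacter G} (hχ : χ ∈ B) :
    ∃ m : ℕ, (deg χ : ℤ) = p * m + ∑ j : (ZMod p)ˣ, D.vec χ j := by
  obtain ⟨m, hm⟩ := D.deg_eq h hχ
  have h1 : charDegree (D.φ : D.K → ℂ) = 1 := by
    have := (charDegree_eq D.φ).1
    rw [htriv] at this
    exact_mod_cast this.symm
  rw [D.stab_eq_normalizer htriv, Subgroup.relIndex_self, h1, one_mul, one_mul] at hm
  refine ⟨D.multN χ 0 + m, ?_⟩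
  rw [deg, hm, Nat.cast_add, sum_multN]
  push_cast
  ring

/-- A character of the smallest possible degree for its vector is trivial on the regular part. -/
theorem value_regular {M : Ideal AlgInt} {B : Set (IrrCharacter G)} (h : D.BlockData M B)
    (htriv : ∀ y, (D.φ : D.K → ℂ) y = 1) {χ : IrrCharacter G} (hχ : χ ∈ B)
    (hd : (deg χ : ℤ) ≤ ((∑ j : ZMod p, D.multN χ j : ℕ) : ℤ)) (y : D.K) :
    (χ : G → ℂ) (y : G) = deg χ := by
  classical
  have := Fintype.ofFinite (IrrCharacter D.K)
  have h0 : D.dval (χ : G → ℂ) 0 = ((∑ j : ZMod p, D.multN χ j : ℕ) : ℂ) := by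
    rw [D.dval_eq_sum_mult, Nat.cast_sum]
    exact Finset.sum_congr rfl fun j _ => by rw [zero_mul, AddChar.map_zero_eq_one, one_mul, D.mult_eq]
  set S := ∑ j : ZMod p, D.multN χ j
  have hsec : ∀ φ' : IrrCharacter D.K, ∃ m : ℕ, secMult (χ : G → ℂ) (φ' : D.K → ℂ) 1 =
      if φ' = D.φ then (S : ℂ) else (p : ℂ) * m := by
    intro φ'
    by_cases hφ : φ' = D.φ
    · refine ⟨0, ?_⟩
      rw [if_pos hφ, hφ, ← h0, CycSetup.dval, D.xp_zero]
    · obtain ⟨m, hm⟩ := D.secMult_one_zero χ φ'
        (h.sec_out χ hχ φ' fun ho => hφ (D.inOrbit_eq htriv ho))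
      exact ⟨m, by rw [if_neg hφ, hm]⟩
  choose m hm using hsec
  have hval : ∀ v : D.K, (χ : G → ℂ) (v : G) =
      S + (p : ℂ) * ∑ φ' ∈ Finset.univ.erase D.φ, (m φ' : ℂ) * (φ' : D.K → ℂ) v := by
    intro v
    have hv := value_eq_sum D.hQ D.hK (isClassFunction_irr χ) D.Q.one_mem v
    rw [one_mul, Finset.sum_congr rfl fun φ' _ => by rw [hm φ'],
      ← Finset.add_sum_erase _ _ (Finset.mem_univ D.φ), if_pos rfl, htriv, mul_one] at hv
    rw [hv, Finset.mul_sum]
    congr 1
    refine Finset.sum_congr rfl fun φ' hφ => ?_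
    rw [if_neg (Finset.mem_erase.mp hφ).1]
    ring
  have h1 := hval 1
  rw [OneMemClass.coe_one, val_one, Finset.sum_congr rfl fun φ' _ => by
    rw [(charDegree_eq φ').1]] at h1
  have h2 : deg χ = S + p * ∑ φ' ∈ Finset.univ.erase D.φ, m φ' * charDegree (φ' : D.K → ℂ) := by
    exact_mod_cast h1
  have h3 : p * ∑ φ' ∈ Finset.univ.erase D.φ, m φ' * charDegree (φ' : D.K → ℂ) = 0 := by omega
  have h4 := (Nat.mul_eq_zero.mp h3).resolve_left (Fact.out : p.Prime).ne_zero
  rw [Finset.sum_eq_zero_iff] at h4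
  rw [hval y, Finset.sum_eq_zero fun φ' hφ => by
    rw [(Nat.mul_eq_zero.mp (h4 φ' hφ)).resolve_right (charDegree_eq φ').2, Nat.cast_zero, zero_mul],
    mul_zero, add_zero]
  rw [h3, add_zero] at h2
  rw [h2]

/-- An element where an irreducible character takes its degree is trivial in a simple group. -/
theorem eq_one_of_value_eq_deg [IsSimpleGroup G] {χ : IrrCharacter G}
    (hχ : χ ≠ Block.oneChar G) {g : G} (hg : (χ : G → ℂ) g = deg χ) : g = 1 := by
  classical
  obtain ⟨k, ρ, hρ, hc⟩ := χ.2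
  have hk : deg χ = k := by
    have h1 := val_one χ
    rw [← hc, Representation.char_one, Module.finrank_fin_fun] at h1
    exact_mod_cast h1.symm
  let f : G →* (Module.End ℂ (Fin k → ℂ))ˣ := ρ.toHomUnits
  have hmem : ∀ v : G, v ∈ f.ker ↔ (χ : G → ℂ) v = deg χ := by
    intro v
    rw [MonoidHom.mem_ker, Units.ext_iff, ← hc, hk]
    have h1 := char_eq_degree_iff ρ v
    rw [Module.finrank_fin_fun] at h1
    exact h1.symm
  rcases Subgroup.Normal.eq_bot_or_eq_top (inferInstance : f.ker.Normal) with hb | ht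
  · exact Subgroup.mem_bot.mp (hb ▸ (hmem g).mpr hg)
  · exfalso
    have hall : ∀ v, (χ : G → ℂ) v = deg χ := fun v => (hmem v).mp (ht ▸ Subgroup.mem_top v)
    have h2 := classInner_irr χ (Block.oneChar G)
    rw [if_neg hχ] at h2
    have h3 : classInner (χ : G → ℂ) (Block.oneChar G : G → ℂ) = deg χ := by
      show classInner (χ : G → ℂ) (fun _ => 1) = _
      simp [classInner, hall, Nat.card_eq_fintype_card]
    rw [h2] at h3
    exact (deg_pos χ).ne (by exact_mod_cast h3)

end CfsgLib.Char.FewSylow
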