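import Cfsg.Agent.Lib.Char.FewSylow.Mult
import Cfsg.Agent.Lib.Char.FewSylow.Numeric

/-!
# The shape of the principal block when there are few Sylow subgroups

`Shape`: the characters of degree prime to `p` are the trivial character, characters of degree
`n p + 1`, characters of degree `p - 1` and one exceptional family.
-/

set_option autoImplicit false
set_option linter.unusedSectionVars false
set_option linter.style.haveILetI false

open scoped ComplexConjugate

namespace CfsgLib.Char.FewSylow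

open Cfsg CfsgLib.Char CfsgLib.Block CfsgLib.Block.Cyclic

universe u

variable {p : ℕ} [Fact p.Prime] {G : Type u} [Group G] [Fintype G] [DecidableEq G]

/-- The degree. -/
noncomputable abbrev deg (f : IrrCharacter G) : ℕ := charDegree (f : G → ℂ)

theorem val_one (f : IrrCharacter G) : (f : G → ℂ) 1 = deg f := (charDegree_eq f).1

theorem deg_pos (f : IrrCharacter G) : 0 < deg f := Nat.pos_of_ne_zero (charDegree_eq f).2

theorem deg_one : deg (Block.oneChar G) = 1 := by
  have := val_one (Block.oneChar G)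
  rw [show (Block.oneChar G : G → ℂ) 1 = 1 from rfl] at this
  exact_mod_cast this.symm

theorem deg_sq_le (f : IrrCharacter G) : deg f * deg f ≤ Nat.card G := by
  classical
  have := Fintype.ofFinite (IrrCharacter G)
  have h := sum_degree_sq (G := G)
  rw [Finset.sum_congr rfl fun χ _ => by rw [val_one χ]] at h
  have h' : ∑ χ : IrrCharacter G, deg χ ^ 2 = Nat.card G := by exact_mod_cast h
  rw [← h', ← sq]
  exact Finset.single_le_sum (f := fun χ => deg χ ^ 2) (fun _ _ => Nat.zero_le _) (Finset.mem_univ f)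

variable {D : CycSetup p G} [Fintype D.K]

/-- The dimension of the fixed points, as a natural number. -/
noncomputable abbrev fx (D : CycSetup p G) [Fintype D.K] (f : IrrCharacter G) : ℕ := D.multN f 0

/-- The number of exceptional characters. -/
noncomputable abbrev numY (D : CycSetup p G) [Fintype D.K] : ℕ := Nat.card ((ZMod p)ˣ ⧸ D.expE)

variable {n e : ℕ}

theorem Small.dval_eq (h : Small D n e) (f : G → ℂ) (i : ZMod p) : D.dval f i = f (D.xp i) := by
  have hy : ∀ y : D.K, y = 1 := fun y => Subtype.ext (h.K_eq_one y)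
  have huniv : (Finset.univ : Finset D.K) = {1} :=
    Finset.eq_singleton_iff_unique_mem.mpr ⟨Finset.mem_univ _, fun y _ => hy y⟩
  simp [CycSetup.dval, secMult, classInner, huniv, h.phi_one, Nat.card_eq_fintype_card,
    ← Finset.card_univ]

theorem Small.fixd_eq (h : Small D n e) (f : IrrCharacter G) : fixd D (f : G → ℂ) = fx D f := by
  rw [fx, ← D.mult_eq, CycSetup.mult, fixd]
  simp [h.dval_eq, AddChar.map_zero_eq_one]

theorem Small.deg_eq_vec (h : Small D n e) (f : IrrCharacter G) :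
    (deg f : ℤ) = p * fx D f + ∑ j : (ZMod p)ˣ, D.vec f j := by
  have h1 : D.dval (f : G → ℂ) 0 = (deg f : ℂ) := by rw [h.dval_eq, D.xp_zero, val_one]
  rw [D.dval_eq_sum_mult] at h1
  simp only [zero_mul, AddChar.map_zero_eq_one, one_mul, D.mult_eq] at h1
  have h2 : (∑ j : ZMod p, (D.multN f j : ℤ)) = deg f := by exact_mod_cast h1
  rw [← h2, sum_zmod_split (fun j => (D.multN f j : ℤ))]
  simp only [CycSetup.vec, Finset.sum_sub_distrib, Finset.sum_const, Finset.card_univ,
    ZMod.card_units_eq_totient, Nat.totient_prime (Fact.out : p.Prime), nsmul_eq_mul,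
    Nat.cast_sub (Fact.out : p.Prime).one_lt.le]
  push_cast
  ring

theorem Small.mul_numY (h : Small D n e) : e * numY D = p - 1 := by
  rw [← h.card_expE, mul_comm, ← D.expE.card_eq_card_quotient_mul_card_subgroup,
    Nat.card_eq_fintype_card, ZMod.card_units_eq_totient, Nat.totient_prime (Fact.out : p.Prime)]

theorem Small.numY_pos (_h : Small D n e) : 0 < numY D := Nat.card_pos

/-- The shape of the block. -/
structure Shape (D : CycSetup p G) [Fintype D.K] (n e : ℕ) where
  /-- the exceptional characters -/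
  Y : (ZMod p)ˣ ⧸ D.expE → IrrCharacter G
  /-- their fixed points -/
  x : ℕ
  /-- their degree -/
  d : ℕ
  inj : Function.Injective Y
  deg_Y : ∀ k, deg (Y k) = d
  fx_Y : ∀ k, fx D (Y k) = x
  reg : ∀ k l, ∀ g : G, ¬ p ∣ orderOf g → (Y k : G → ℂ) g = (Y l : G → ℂ) g
  cases : ∀ f, f = Block.oneChar G ∨ (deg f = n * p + 1 ∧ fx D f = n + 1) ∨
    (deg f = p - 1 ∧ fx D f = 0) ∨ (∃ k, f = Y k) ∨ deg f = p * fx D f
  two_le : 2 ≤ e
  alt : (x = 0 ∧ d = e ∧ ∃ a, e = 1 + a * (n + 1)) ∨
    (n + 1 = x * numY D ∧ d + e = x * p ∧ ∃ a, e = 1 + x + a * (n + 1))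

/-- The degrees prime to `p` divide `e (n p + 1)`. -/
theorem Small.exists_cofactor (h : Small D n e) (f : IrrCharacter G) (hf : ¬ p ∣ deg f) :
    ∃ v : ℤ, 0 < v ∧ (e : ℤ) * (n * p + 1) = deg f * v := by
  have h1 : deg f ∣ e * (n * p + 1) * p := by
    rw [mul_right_comm, ← h.card_G]
    have := Fintype.ofFinite (IrrCharacter G)
    exact charDegree_dvd f
  obtain ⟨v, hv⟩ := (Nat.Coprime.symm ((Fact.out : p.Prime).coprime_iff_not_dvd.mpr hf)).dvd_of_dvd_mul_right h1
  refine ⟨v, ?_, by exact_mod_cast hv⟩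
  have : 0 < e * (n * p + 1) := Nat.mul_pos h.e_pos (Nat.succ_pos _)
  rw [hv] at this
  exact_mod_cast Nat.pos_of_mul_pos_left this

/-- A cofactor `1` is impossible. -/
theorem Small.ne_full (h : Small D n e) (hn : 1 ≤ n) (f : IrrCharacter G)
    (hd : (deg f : ℤ) = e * (n * p + 1)) : False := by
  have h1 := deg_sq_le f
  rw [h.card_G] at h1
  have hd' : deg f = e * (n * p + 1) := by exact_mod_cast hd
  rw [hd', mul_right_comm e p (n * p + 1)] at h1
  have h2 := Nat.le_of_mul_le_mul_left h1 (Nat.mul_pos h.e_pos (Nat.succ_pos _))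
  have h3 : n * p + 1 ≤ e * (n * p + 1) := Nat.le_mul_of_pos_left _ h.e_pos
  have h4 : p ≤ n * p := Nat.le_mul_of_pos_left _ hn
  omega

theorem Small.p_three_le (h : Small D n e) (he : 2 ≤ e) : 3 ≤ p := by
  have h1 := h.mul_numY
  have h2 : e ≤ e * numY D := Nat.le_mul_of_pos_right _ h.numY_pos
  omega

/-- Characters with constant vector `-1`. -/
theorem Small.classify_neg (h : Small D n e) (he : 2 ≤ e) (hs : Sparse (p : ℤ) (n : ℤ))
    (hlin : ∀ f : IrrCharacter G, deg f = 1 → f = Block.oneChar G) {f : IrrCharacter G}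
    (hf : f ≠ Block.oneChar G) (hv : ∀ j : (ZMod p)ˣ, D.vec f j = -1) :
    deg f = n * p + 1 ∧ fx D f = n + 1 := by
  have hp3 := h.p_three_le he
  have hd := h.deg_eq_vec f
  simp only [hv, Finset.sum_const, Finset.card_univ, ZMod.card_units_eq_totient,
    Nat.totient_prime (Fact.out : p.Prime), nsmul_eq_mul, Nat.cast_sub (Fact.out : p.Prime).one_lt.le,
    Nat.cast_one] at hd
  have hd1 : 2 ≤ deg f := by
    have := deg_pos f
    have : deg f ≠ 1 := fun h1 => hf (hlin f h1)
    omega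
  have hd' : (deg f : ℤ) = ((fx D f : ℤ) - 1) * p + 1 := by rw [hd]; ring
  have hu : (1 : ℤ) ≤ (fx D f : ℤ) - 1 := by
    by_contra hneg
    have : ((fx D f : ℤ) - 1) * p ≤ 0 :=
      mul_nonpos_of_nonpos_of_nonneg (by omega) (by omega)
    omega
  have hnd : ¬ p ∣ deg f := fun hdv => by
    have h2 : (p : ℤ) ∣ ((fx D f : ℤ) - 1) * p + 1 := hd' ▸ Int.natCast_dvd_natCast.mpr hdv
    rw [Int.dvd_add_right ⟨_, mul_comm _ _⟩, ← Nat.cast_one, Int.natCast_dvd_natCast] at h2
    exact (Fact.out : p.Prime).one_lt.ne' (Nat.dvd_one.mp h2)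
  obtain ⟨v, hv0, hve⟩ := h.exists_cofactor f hnd
  rw [hd'] at hve
  have hek : (e : ℤ) * numY D = p - 1 := by
    have := congrArg (fun x : ℕ => (x : ℤ)) h.mul_numY
    push_cast [Nat.cast_sub (Fact.out : p.Prime).one_lt.le] at this
    exact this
  obtain ⟨e1, -⟩ := hs.plus hek (by exact_mod_cast h.numY_pos) (by exact_mod_cast hp3)
    (by exact_mod_cast h.e_pos) hu hv0 hve
  rw [e1] at hd'
  exact ⟨by exact_mod_cast hd', by omega⟩

/-- Characters with constant vector `1`. -/
theorem Small.classify_pos (h : Small D n e) (he : 2 ≤ e) (hn0 : 1 ≤ n) (hs : Sparse (p : ℤ) (n : ℤ))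
    {f : IrrCharacter G} (hv : ∀ j : (ZMod p)ˣ, D.vec f j = 1) :
    deg f = p - 1 ∧ fx D f = 0 := by
  have hp3 := h.p_three_le he
  have hd := h.deg_eq_vec f
  simp only [hv, Finset.sum_const, Finset.card_univ, ZMod.card_units_eq_totient,
    Nat.totient_prime (Fact.out : p.Prime), nsmul_eq_mul, Nat.cast_sub (Fact.out : p.Prime).one_lt.le,
    Nat.cast_one, mul_one] at hd
  have hd' : (deg f : ℤ) = ((fx D f : ℤ) + 1) * p - 1 := by rw [hd]; ring
  have hnd : ¬ p ∣ deg f := fun hdv => by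
    have h2 : (p : ℤ) ∣ ((fx D f : ℤ) + 1) * p - 1 := hd' ▸ Int.natCast_dvd_natCast.mpr hdv
    replace h2 : (p : ℤ) ∣ 1 := by
      have h3 := dvd_sub (dvd_mul_left (p : ℤ) ((fx D f : ℤ) + 1)) h2
      rwa [sub_sub_cancel] at h3
    rw [← Nat.cast_one, Int.natCast_dvd_natCast] at h2
    exact (Fact.out : p.Prime).one_lt.ne' (Nat.dvd_one.mp h2)
  obtain ⟨v, hv0, hve⟩ := h.exists_cofactor f hnd
  rw [hd'] at hve
  have hek : (e : ℤ) * numY D = p - 1 := by
    have := congrArg (fun x : ℕ => (x : ℤ)) h.mul_numY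
    push_cast [Nat.cast_sub (Fact.out : p.Prime).one_lt.le] at this
    exact this
  rcases hs.minus hek (by exact_mod_cast h.numY_pos) (by exact_mod_cast hp3)
    (by exact_mod_cast h.e_pos) (by omega) hv0 hve with
    ⟨e1, -⟩ | ⟨-, e2⟩
  · exact ⟨by rw [e1] at hd'; omega, by omega⟩
  · rw [e2, mul_one, ← hd'] at hve
    exact (h.ne_full hn0 f hve.symm).elim

theorem Small.vec_one (h : Small D n e) (j : (ZMod p)ˣ) : D.vec (Block.oneChar G) j = -1 := by
  apply Int.cast_injective (α := ℂ)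
  rw [D.coe_vec]
  simp only [h.dval_eq]
  show (p : ℂ)⁻¹ * ∑ i : ZMod p, (stdPsi p (-(i * j)) - 1) * (1 : ℂ) = _
  have hs : ∑ i : ZMod p, stdPsi p (-(i * j)) = 0 := by
    rw [Finset.sum_congr rfl fun i _ => show stdPsi p (-(i * j)) = stdPsi p (i * -(j : ZMod p)) by
      rw [mul_neg], sum_stdPsi_mul, if_neg (neg_ne_zero.mpr j.ne_zero)]
  simp only [mul_one, Finset.sum_sub_distrib, hs, Finset.sum_const, Finset.card_univ, ZMod.card,
    nsmul_one, zero_sub, mul_neg, inv_mul_cancel₀ (p_cast_ne_zero (p := p)), Int.cast_neg, Int.cast_one]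

end CfsgLib.Char.FewSylow
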