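import Cfsg.Agent.Lib.Char.FewSylow.Shape

/-!
# Existence of the shape
-/

set_option autoImplicit false
set_option linter.unusedSectionVars false
set_option linter.style.haveILetI false

open scoped ComplexConjugate

namespace CfsgLib.Char.FewSylow

open Cfsg CfsgLib.Char CfsgLib.Block CfsgLib.Block.Cyclic

universe u

variable {p : ℕ} [Fact p.Prime] {G : Type u} [Group G] [Fintype G] [DecidableEq G]
  {D : CycSetup p G} [Fintype D.K] {n e : ℕ}

/-- The degree of a member of the exceptional family. -/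
theorem Small.deg_Y_eq (h : Small D n e) {B : Set (IrrCharacter G)} (E : D.Exceptional B)
    (k : (ZMod p)ˣ ⧸ D.expE) : (deg (E.Y k) : ℤ) = p * fx D (E.Y k) + E.δ * e := by
  classical
  rw [h.deg_eq_vec]
  simp only [E.vec_Y, ← Finset.mul_sum, Finset.sum_boole]
  have hc : (Finset.univ.filter fun j : (ZMod p)ˣ => k = (j : (ZMod p)ˣ ⧸ D.expE)).card = e := by
    have hp := QuotientGroup.card_preimage_mk D.expE {k}
    rw [Nat.card_unique (α := ({k} : Set ((ZMod p)ˣ ⧸ D.expE))), mul_one] at hp
    rw [← h.card_expE, ← hp, ← Fintype.card_subtype, ← Nat.card_eq_fintype_card]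
    exact Nat.card_congr (Equiv.subtypeEquivRight fun j => ⟨fun e => e.symm, fun e => e.symm⟩)
  rw [hc]

/-- The relation at the identity. -/
theorem Small.relation_one (_h : Small D n e) {B : Set (IrrCharacter G)} (E : D.Exceptional B)
    [Fintype (IrrCharacter G)] (k : (ZMod p)ˣ ⧸ D.expE) :
    (∑ f : IrrCharacter G, E.u f * (deg f : ℤ)) + E.δ * deg (E.Y k) = 0 := by
  classical
  obtain ⟨j, rfl⟩ := QuotientGroup.mk_surjective k
  have h1 := D.sum_vec_regular (j : ZMod p) (g := 1) (by simp [(Fact.out : p.Prime).ne_one])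
  simp only [val_one, E.vec_eq] at h1
  have h2 : ∑ f : IrrCharacter G, (E.u f + E.δ * (if f = E.Y j then 1 else 0)) * (deg f : ℤ) = 0 := by
    exact_mod_cast h1
  rw [Finset.sum_congr rfl (g := fun f => E.u f * (deg f : ℤ) +
    (if f = E.Y j then E.δ * deg (E.Y j) else 0)) fun f _ => by
      split_ifs with hf
      · subst hf; ring
      · ring, Finset.sum_add_distrib, Finset.sum_ite_eq', if_pos (Finset.mem_univ _)] at h2
  exact h2

theorem Small.fx_one (h : Small D n e) : fx D (Block.oneChar G) = 1 := by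
  have h1 := h.deg_eq_vec (Block.oneChar G)
  simp only [h.vec_one, deg_one, Finset.sum_const, Finset.card_univ, ZMod.card_units_eq_totient,
    Nat.totient_prime (Fact.out : p.Prime), nsmul_eq_mul,
    Nat.cast_sub (Fact.out : p.Prime).one_lt.le, Nat.cast_one, mul_neg, mul_one] at h1
  have h2 : (p : ℤ) * fx D (Block.oneChar G) = p * 1 := by linarith
  exact_mod_cast mul_left_cancel₀ (Int.natCast_ne_zero.mpr (Fact.out : p.Prime).ne_zero) h2

theorem exists_shape_of_sparse (h : Small D n e) (hn0 : 1 ≤ n) (hs : Sparse (p : ℤ) (n : ℤ))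
    (hlin : ∀ f : IrrCharacter G, deg f = 1 → f = Block.oneChar G) : Nonempty (Shape D n e) := by
  classical
  have hp : p.Prime := Fact.out
  have := Fintype.ofFinite (IrrCharacter G)
  obtain ⟨M, hM⟩ := CfsgLib.Block.exists_pModular hp
  have := hM.2.1
  let _ : Fintype (Subgroup.centralizer (D.Q : Set G)) := Fintype.ofFinite _
  have hcard : Nat.card D.Q = p ^ (Nat.card G).factorization p := by
    rw [factorization_eq_one D.dvd_card D.hsq, pow_one, D.hQ]
  have hBD := D.blockData_principal hM (P := Sylow.ofCard D.Q hcard) rfl h.phi_one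
  obtain ⟨E⟩ := D.exists_exceptional_family hM hBD
  set one := Block.oneChar G with hone
  have h1B : one ∈ principalBlock M G := one_mem_principalBlock
  have hδ := E.sign
  have hmul := h.mul_numY
  have hcu : (Finset.univ.filter fun f => E.u f ≠ 0).card = e := by
    rw [← Fintype.card_subtype, ← Nat.card_eq_fintype_card, E.card_u, h.card_expE]
  have hdY : ∀ k l, deg (E.Y k) = deg (E.Y l) := fun k l => by
    have h1 := E.regular_eq k l 1 (by simp [hp.ne_one])
    rw [val_one, val_one] at h1
    exact_mod_cast h1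
  have hfY : ∀ k l, fx D (E.Y k) = fx D (E.Y l) := fun k l => by
    have h1 := h.deg_Y_eq E k
    rw [hdY k l, h.deg_Y_eq E l] at h1
    exact_mod_cast mul_left_cancel₀ (Int.natCast_ne_zero.mpr hp.ne_zero) (add_right_cancel h1.symm)
  obtain ⟨k0⟩ : Nonempty ((ZMod p)ˣ ⧸ D.expE) := inferInstance
  have hrel := h.relation_one E k0
  -- the case `e = 1`
  have he : 2 ≤ e := by
    by_contra hlt
    have he1 : e = 1 := by have := h.e_pos; omega
    obtain ⟨f0, hf0⟩ := Finset.card_eq_one.mp (hcu.trans he1)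
    have hu0 : E.u f0 ≠ 0 := (Finset.mem_filter.mp (hf0 ▸ Finset.mem_singleton_self f0 :
      f0 ∈ Finset.univ.filter fun f => E.u f ≠ 0)).2
    rw [Finset.sum_eq_single f0 (fun f _ hf => by
      have : E.u f = 0 := by
        by_contra hne
        exact hf (Finset.mem_singleton.mp (hf0 ▸ Finset.mem_filter.mpr ⟨Finset.mem_univ _, hne⟩))
      rw [this, zero_mul]) (fun hf => absurd (Finset.mem_univ _) hf)] at hrel
    have heq : deg f0 = deg (E.Y k0) := by
      have h2 : (deg f0 : ℤ) = deg (E.Y k0) ∨ (deg f0 : ℤ) = -deg (E.Y k0) := by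
        rcases E.u_cases f0 with hz | hz | hz <;> rcases hδ with hd | hd
        all_goals first | exact absurd hz hu0 | (rw [hz, hd] at hrel; omega)
      rcases h2 with h2 | h2
      · exact_mod_cast h2
      · have := deg_pos f0; have := deg_pos (E.Y k0); omega
    by_cases hf1 : f0 = one
    · exact hu0 (by rw [hf1, ← hlin (E.Y k0) (by rw [← heq, hf1, deg_one]), E.u_Y])
    · rcases (E.mem one).mp h1B with hu1 | ⟨k, hk⟩
      · exact hf1 (Finset.mem_singleton.mp (hf0 ▸ Finset.mem_filter.mpr ⟨Finset.mem_univ _, hu1⟩)).symm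
      · exact hf1 (hlin f0 (by rw [heq, hdY k0 k, hk, deg_one]))
  have hp3 := h.p_three_le he
  -- the characters outside the family
  have hclass : ∀ f, f ≠ one → E.u f ≠ 0 →
      (E.u f = -1 ∧ deg f = n * p + 1 ∧ fx D f = n + 1) ∨ (E.u f = 1 ∧ deg f = p - 1 ∧ fx D f = 0) := by
    intro f hf1 hu
    rcases E.u_cases f with hz | hz | hz
    · exact absurd hz hu
    · exact Or.inr ⟨hz, h.classify_pos he hn0 hs fun j => (E.vec_of_u hu j).trans hz⟩
    · exact Or.inl ⟨hz, h.classify_neg he hs hlin hf1 fun j => (E.vec_of_u hu j).trans hz⟩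
  have houtside : ∀ f, f ∉ principalBlock M G → deg f = p * fx D f := by
    intro f hf
    have h1 := h.deg_eq_vec f
    rw [Finset.sum_eq_zero fun j _ => D.vec_eq_zero (hBD.dval_out f hf) _, add_zero] at h1
    exact_mod_cast h1
  set A := Finset.univ.filter fun f => f ≠ one ∧ E.u f = -1 with hA
  set Z := Finset.univ.filter fun f => f ≠ one ∧ E.u f = 1 with hZ
  have hsum : ∑ f, E.u f * (deg f : ℤ) =
      E.u one + (-((n : ℤ) * p + 1)) * A.card + ((p : ℤ) - 1) * Z.card := by
    rw [Finset.sum_congr rfl (g := fun f => (if f = one then E.u one else 0) +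
      (if f ≠ one ∧ E.u f = -1 then -((n : ℤ) * p + 1) else 0) +
      (if f ≠ one ∧ E.u f = 1 then (p : ℤ) - 1 else 0)) fun f _ => ?_]
    · simp only [Finset.sum_add_distrib, Finset.sum_ite_eq', Finset.mem_univ, if_true, ← Finset.sum_filter,
        Finset.sum_const, nsmul_eq_mul, hA, hZ]
      ring
    · by_cases hf1 : f = one
      · simp [hf1, hone, deg_one]
      · by_cases hu : E.u f = 0
        · simp [hf1, hu]
        · rcases hclass f hf1 hu with ⟨hz, hd, -⟩ | ⟨hz, hd, -⟩
          · simp [hf1, hz, hd]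
          · simp [hf1, hz, hd, Nat.cast_sub hp.one_lt.le]
  have hcount : (if E.u one = 0 then 0 else 1) + A.card + Z.card = e := by
    refine Eq.trans ?_ hcu
    symm
    rw [Finset.card_filter, Finset.sum_congr rfl (g := fun f =>
      (if f = one then (if E.u one = 0 then 0 else 1) else 0) +
      (if f ≠ one ∧ E.u f = -1 then 1 else 0) + (if f ≠ one ∧ E.u f = 1 then 1 else 0)) fun f _ => ?_]
    · simp only [Finset.sum_add_distrib, Finset.sum_ite_eq', Finset.mem_univ, if_true, ← Finset.card_filter,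
        hA, hZ]
    · by_cases hf1 : f = one
      · subst hf1
        by_cases hu : E.u one = 0 <;> simp [hu]
      · rcases E.u_cases f with hz | hz | hz <;> simp [hf1, hz]
  rw [hsum] at hrel
  have hcases : ∀ f, f = one ∨ (deg f = n * p + 1 ∧ fx D f = n + 1) ∨
      (deg f = p - 1 ∧ fx D f = 0) ∨ (∃ k, f = E.Y k) ∨ deg f = p * fx D f := by
    intro f
    by_cases hf1 : f = one
    · exact Or.inl hf1
    by_cases hf : f ∈ principalBlock M G
    · rcases (E.mem f).mp hf with hu | ⟨k, hk⟩
      · rcases hclass f hf1 hu with ⟨-, hd⟩ | ⟨-, hd⟩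
        · exact Or.inr (Or.inl hd)
        · exact Or.inr (Or.inr (Or.inl hd))
      · exact Or.inr (Or.inr (Or.inr (Or.inl ⟨k, hk.symm⟩)))
    · exact Or.inr (Or.inr (Or.inr (Or.inr (houtside f hf))))
  by_cases hu1 : E.u one = 0
  · -- the trivial character is exceptional
    obtain ⟨k1, hk1⟩ := ((E.mem one).mp h1B).resolve_left (fun hne => hne hu1)
    have hv : ∀ k : (ZMod p)ˣ ⧸ D.expE, k = k1 ∧ E.δ = -1 := by
      intro k
      obtain ⟨j, rfl⟩ := QuotientGroup.mk_surjective k
      have h1 := E.vec_Y k1 j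
      rw [hk1, h.vec_one] at h1
      split_ifs at h1 with hkj
      · exact ⟨hkj.symm, by rw [mul_one] at h1; exact h1.symm⟩
      · simp at h1
    have hsub : Subsingleton ((ZMod p)ˣ ⧸ D.expE) :=
      ⟨fun a b => (hv a).1.trans (hv b).1.symm⟩
    have ht : numY D = 1 := Nat.card_unique
    rw [ht, mul_one] at hmul
    rw [hu1, (hv k1).2, hdY k0 k1, hk1, deg_one] at hrel
    simp only [hu1, if_true, zero_add] at hcount
    have hApos : A.Nonempty := by
      rw [Finset.nonempty_iff_ne_empty]
      intro hempty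
      rw [hempty, Finset.card_empty] at hrel hcount
      have hz : (Z.card : ℤ) = e := by exact_mod_cast (zero_add Z.card) ▸ hcount
      have hpe : ((p : ℤ) - 1) = e := by rw [hmul, Nat.cast_sub hp.one_lt.le, Nat.cast_one]
      rw [hz, ← hpe] at hrel
      simp only [Nat.cast_zero, mul_zero, zero_add, Nat.cast_one, mul_one] at hrel
      have h3 : (2 : ℤ) ≤ (p : ℤ) - 1 := by omega
      nlinarith
    obtain ⟨χ, hχ⟩ := hApos
    obtain ⟨hχ1, hχu⟩ := (Finset.mem_filter.mp hχ).2
    obtain ⟨-, hd, hf⟩ := (hclass χ hχ1 (by rw [hχu]; decide)).resolve_right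
      (fun h2 => by rw [hχu] at h2; exact absurd h2.1 (by decide))
    refine ⟨⟨fun _ => χ, n + 1, n * p + 1, fun a b _ => Subsingleton.elim a b, fun _ => hd, fun _ => hf,
      fun _ _ _ _ => rfl, fun f => ?_, he, Or.inr ⟨by rw [ht, mul_one], ?_, ?_⟩⟩⟩
    · rcases hcases f with h2 | h2 | h2 | ⟨k, h2⟩ | h2
      · exact Or.inl h2
      · exact Or.inr (Or.inl h2)
      · exact Or.inr (Or.inr (Or.inl h2))
      · exact Or.inl (h2.trans (by rw [(hv k).1, hk1]))
      · exact Or.inr (Or.inr (Or.inr (Or.inr h2)))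
    · rw [add_one_mul]
      omega
    · obtain ⟨a, ha⟩ : ∃ a, A.card = a + 1 := ⟨A.card - 1, by have := Finset.card_pos.mpr ⟨χ, hχ⟩; omega⟩
      refine ⟨a, ?_⟩
      rw [ha] at hrel hcount
      have hpe : (p : ℤ) = e + 1 := by rw [hmul, Nat.cast_sub hp.one_lt.le, Nat.cast_one]; ring
      have hce : (e : ℤ) = a + 1 + Z.card := by rw [← hcount]; push_cast; ring
      have h3 : (p : ℤ) * ((Z.card : ℤ) - ((a : ℤ) + 1) * n - 1) = 0 := by
        push_cast at hrel
        linear_combination hrel - hce - hpe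
      have h4 := (mul_eq_zero.mp h3).resolve_left (Int.natCast_ne_zero.mpr hp.ne_zero)
      have : (e : ℤ) = 1 + ((n : ℤ) + 1) + a * (n + 1) := by linear_combination hce + h4
      exact_mod_cast this
  · -- the general case
    have hu1' : E.u one = -1 := by
      rcases (⟨(1 : (ZMod p)ˣ)⟩ : Nonempty (ZMod p)ˣ) with ⟨j⟩
      rw [← E.vec_of_u hu1 j, h.vec_one]
    simp only [hu1, if_false] at hcount
    have hYne : ∀ k, E.Y k ≠ one := fun k hk => hu1 (by rw [← hk, E.u_Y])
    have hY2 : 2 ≤ deg (E.Y k0) := by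
      have := deg_pos (E.Y k0)
      have : deg (E.Y k0) ≠ 1 := fun h1 => hYne k0 (hlin _ h1)
      omega
    rw [hu1'] at hrel
    have hD := h.deg_Y_eq E k0
    have hnd : ¬ p ∣ deg (E.Y k0) := fun hdv => h.not_dvd_e (by
      have h2 : (p : ℤ) ∣ E.δ * e := by
        have h3 := dvd_sub (Int.natCast_dvd_natCast.mpr hdv) (dvd_mul_right (p : ℤ) (fx D (E.Y k0)))
        rwa [hD, add_sub_cancel_left] at h3
      rcases hδ with hd | hd <;> rw [hd] at h2
      · rw [one_mul] at h2; exact Int.natCast_dvd_natCast.mp h2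
      · rw [neg_one_mul, dvd_neg] at h2; exact Int.natCast_dvd_natCast.mp h2)
    obtain ⟨v, hv0, hve⟩ := h.exists_cofactor _ hnd
    have hcop : IsCoprime (p : ℤ) e :=
      (Nat.Coprime.isCoprime (hp.coprime_iff_not_dvd.mpr h.not_dvd_e))
    have hek : (e : ℤ) * numY D = p - 1 := by
      have := congrArg (fun x : ℕ => (x : ℤ)) hmul
      push_cast [Nat.cast_sub hp.one_lt.le] at this
      exact this
    have hk1' : (1 : ℤ) ≤ numY D := by exact_mod_cast h.numY_pos
    have hcount' : (1 : ℤ) + A.card + Z.card = e := by exact_mod_cast hcount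
    refine ⟨⟨E.Y, fx D (E.Y k0), deg (E.Y k0), E.inj, fun k => hdY k k0, fun k => hfY k k0,
      E.regular_eq, hcases, he, ?_⟩⟩
    rcases hδ with hd | hd <;> rw [hd] at hD hrel
    · left
      obtain ⟨y, hy⟩ : (p : ℤ) ∣ v - 1 := by
        refine hcop.dvd_of_dvd_mul_left ⟨(e : ℤ) * n - fx D (E.Y k0) * v, ?_⟩
        rw [hD] at hve
        linear_combination -hve
      rcases le_or_gt y 0 with hy0 | hy0
      · have hv1 : v = 1 := by
          have : (p : ℤ) * y ≤ 0 := mul_nonpos_of_nonneg_of_nonpos (by omega) hy0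
          omega
        rw [hv1, mul_one] at hve
        exact (h.ne_full hn0 _ hve.symm).elim
      · obtain ⟨-, hDe⟩ := hs.plus hek hk1' (by exact_mod_cast hp3) (by exact_mod_cast h.e_pos)
          (u := y) (v := (deg (E.Y k0) : ℤ)) (by omega)
          (by exact_mod_cast deg_pos (E.Y k0)) (by rw [hve, show v = y * p + 1 by rw [mul_comm]; omega]; ring)
        have hx0 : fx D (E.Y k0) = 0 := by
          have : (p : ℤ) * fx D (E.Y k0) = 0 := by omega
          exact_mod_cast (mul_eq_zero.mp this).resolve_left (Int.natCast_ne_zero.mpr hp.ne_zero)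
        refine ⟨hx0, by exact_mod_cast hDe, A.card, ?_⟩
        rw [hDe] at hrel
        have h3 : (p : ℤ) * ((Z.card : ℤ) - A.card * n) = 0 := by
          linear_combination hrel + hcount'
        have h4 := (mul_eq_zero.mp h3).resolve_left (Int.natCast_ne_zero.mpr hp.ne_zero)
        have : (e : ℤ) = 1 + A.card * (n + 1) := by linear_combination h4 - hcount'
        exact_mod_cast this
    · right
      obtain ⟨y, hy⟩ : (p : ℤ) ∣ v + 1 := by
        refine hcop.dvd_of_dvd_mul_left ⟨fx D (E.Y k0) * v - (e : ℤ) * n, ?_⟩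
        rw [hD] at hve
        linear_combination hve
      have hy1 : 1 ≤ y := by
        by_contra hneg
        have : (p : ℤ) * y ≤ 0 := mul_nonpos_of_nonneg_of_nonpos (by omega) (by omega)
        omega
      have hvy : v = y * p - 1 := by rw [mul_comm]; omega
      rcases hs.minus hek hk1' (by exact_mod_cast hp3) (by exact_mod_cast h.e_pos)
        hy1 (v := (deg (E.Y k0) : ℤ))
        (by exact_mod_cast deg_pos (E.Y k0)) (by rw [hve, hvy]; ring) with ⟨hy', -⟩ | ⟨-, hD1⟩
      · have hnx : n + 1 = fx D (E.Y k0) * numY D := by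
          rw [hvy, hy', one_mul, hD] at hve
          have h3 : (e : ℤ) * p * ((n : ℤ) + 1) = e * p * ((fx D (E.Y k0) : ℤ) * numY D) := by
            linear_combination hve - (p : ℤ) * (fx D (E.Y k0) : ℤ) * hek
          have h4 := mul_left_cancel₀ (mul_ne_zero (Int.natCast_ne_zero.mpr h.e_pos.ne')
            (Int.natCast_ne_zero.mpr hp.ne_zero)) h3
          exact_mod_cast h4
        have hDp : deg (E.Y k0) + e = fx D (E.Y k0) * p := by
          have : (deg (E.Y k0) : ℤ) + e = fx D (E.Y k0) * p := by rw [hD]; ring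
          exact_mod_cast this
        refine ⟨hnx, hDp, A.card, ?_⟩
        rw [hD] at hrel
        have h3 : (p : ℤ) * ((Z.card : ℤ) - A.card * n - fx D (E.Y k0)) = 0 := by
          linear_combination hrel + hcount'
        have h4 := (mul_eq_zero.mp h3).resolve_left (Int.natCast_ne_zero.mpr hp.ne_zero)
        have : (e : ℤ) = 1 + (fx D (E.Y k0) : ℤ) + A.card * (n + 1) := by
          linear_combination h4 - hcount'
        exact_mod_cast this
      · omega

theorem exists_shape (h : Small D n e) (hn0 : 1 ≤ n) (hn : 2 * n ≤ p + 1)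
    (hlin : ∀ f : IrrCharacter G, deg f = 1 → f = Block.oneChar G) : Nonempty (Shape D n e) :=
  exists_shape_of_sparse h hn0 (sparse_of_small (by exact_mod_cast hn) (Int.natCast_nonneg n)) hlin

end CfsgLib.Char.FewSylow
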